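import Mathlib

set_option autoImplicit false

namespace Cfsg.Agent.Lib.Helper06

section TwoInv

variable {G : Type*} [Group G]

theorem sq_one_of_orderOf_two {x : G} (hx : orderOf x = 2) : x * x = 1 := by
  have := pow_orderOf_eq_one x
  rw [hx, pow_two] at this
  exact this

theorem inv_eq_self_of_orderOf_two {x : G} (hx : orderOf x = 2) : x⁻¹ = x :=
  inv_eq_of_mul_eq_one_left (sq_one_of_orderOf_two hx)

theorem ne_one_of_orderOf_two {x : G} (hx : orderOf x = 2) : x ≠ 1 := by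
  intro h
  rw [h, orderOf_one] at hx
  norm_num at hx

theorem orderOf_two_of_sq_one {x : G} (h1 : x * x = 1) (h2 : x ≠ 1) : orderOf x = 2 := by
  have h : x ^ 2 = 1 := by rw [pow_two]; exact h1
  exact orderOf_eq_prime h h2

/-- `x * (x*y)^k * x = (x*y)^(-k)` for involutions. -/
theorem inv_conj_zpow {x y : G} (hx : x * x = 1) (hy : y * y = 1) (k : ℤ) :
    x * (x * y) ^ k * x = ((x * y) ^ k)⁻¹ := by
  have hxi : x⁻¹ = x := inv_eq_of_mul_eq_one_left hx
  have hyi : y⁻¹ = y := inv_eq_of_mul_eq_one_left hy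
  have h1 : x * (x * y) * x⁻¹ = (x * y)⁻¹ := by
    rw [mul_inv_rev, hxi, hyi, ← mul_assoc, hx, one_mul]
  have h2 : x * (x * y) ^ k * x⁻¹ = (x * (x * y) * x⁻¹) ^ k := by
    rw [conj_zpow]
  rw [h1, hxi] at h2
  rw [h2, inv_zpow]

theorem x_mul_zpow {x y : G} (hx : x * x = 1) (hy : y * y = 1) (k : ℤ) :
    x * (x * y) ^ k = ((x * y) ^ k)⁻¹ * x := by
  have h := inv_conj_zpow hx hy k
  calc x * (x * y) ^ k = x * (x * y) ^ k * (x * x) := by rw [hx, mul_one]
    _ = (x * (x * y) ^ k * x) * x := by group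
    _ = ((x * y) ^ k)⁻¹ * x := by rw [h]

theorem zpow_mul_x {x y : G} (hx : x * x = 1) (hy : y * y = 1) (k : ℤ) :
    (x * y) ^ k * x = x * ((x * y) ^ k)⁻¹ := by
  have h := x_mul_zpow hx hy (-k)
  rw [zpow_neg, inv_inv] at h
  exact h.symm

theorem y_eq_x_mul {x y : G} (hx : x * x = 1) : y = x * (x * y) := by
  rw [← mul_assoc, hx, one_mul]

/-- Membership in the subgroup generated by two involutions. -/
theorem mem_closure_pair_iff {x y : G} (hx : x * x = 1) (hy : y * y = 1) (d : G) :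
    d ∈ Subgroup.closure ({x, y} : Set G) ↔
      ∃ k : ℤ, d = (x * y) ^ k ∨ d = x * (x * y) ^ k := by
  constructor
  · intro hd
    induction hd using Subgroup.closure_induction with
    | mem z hz =>
      rcases hz with rfl | rfl
      · exact ⟨0, Or.inr (by simp)⟩
      · refine ⟨1, Or.inr ?_⟩
        rw [zpow_one, ← mul_assoc, hx, one_mul]
    | one => exact ⟨0, Or.inl (by simp)⟩
    | mul a b _ _ ha hb =>
      obtain ⟨i, hi⟩ := ha
      obtain ⟨j, hj⟩ := hb
      rcases hi with rfl | rfl <;> rcases hj with rfl | rfl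
      · exact ⟨i + j, Or.inl (by rw [zpow_add])⟩
      · refine ⟨-i + j, Or.inr ?_⟩
        rw [← mul_assoc, zpow_mul_x hx hy, mul_assoc, zpow_add, zpow_neg]
      · exact ⟨i + j, Or.inr (by rw [zpow_add, mul_assoc])⟩
      · refine ⟨-i + j, Or.inl ?_⟩
        calc x * (x * y) ^ i * (x * (x * y) ^ j)
            = (x * (x * y) ^ i * x) * (x * y) ^ j := by group
          _ = (x * y) ^ (-i + j) := by rw [inv_conj_zpow hx hy, zpow_add, zpow_neg]
    | inv a _ ha =>
      obtain ⟨i, hi⟩ := ha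
      rcases hi with rfl | rfl
      · exact ⟨-i, Or.inl (by rw [zpow_neg])⟩
      · refine ⟨i, Or.inr ?_⟩
        have hxi : x⁻¹ = x := inv_eq_of_mul_eq_one_left hx
        rw [mul_inv_rev, hxi, ← zpow_neg, zpow_mul_x hx hy, zpow_neg, inv_inv]
  · rintro ⟨k, rfl | rfl⟩
    · exact Subgroup.zpow_mem _ (Subgroup.mul_mem _ (Subgroup.subset_closure (by simp))
        (Subgroup.subset_closure (by simp))) k
    · exact Subgroup.mul_mem _ (Subgroup.subset_closure (by simp))
        (Subgroup.zpow_mem _ (Subgroup.mul_mem _ (Subgroup.subset_closure (by simp))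
        (Subgroup.subset_closure (by simp))) k)

theorem refl_sq {x y : G} (hx : x * x = 1) (hy : y * y = 1) (k : ℤ) :
    (x * (x * y) ^ k) * (x * (x * y) ^ k) = 1 := by
  calc (x * (x * y) ^ k) * (x * (x * y) ^ k)
      = (x * (x * y) ^ k * x) * (x * y) ^ k := by group
    _ = 1 := by rw [inv_conj_zpow hx hy, inv_mul_cancel]

/-- conjugating `x` by a rotation. -/
theorem rot_conj_x {x y : G} (hx : x * x = 1) (hy : y * y = 1) (k : ℤ) :
    (x * y) ^ k * x * ((x * y) ^ k)⁻¹ = (x * y) ^ (2 * k) * x := by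
  rw [zpow_mul_x hx hy, mul_assoc, ← mul_inv_rev, ← zpow_add, ← two_mul, ← zpow_neg,
    x_mul_zpow hx hy, zpow_neg, inv_inv]

/-- conjugating `x` by a reflection. -/
theorem refl_conj_x {x y : G} (hx : x * x = 1) (hy : y * y = 1) (k : ℤ) :
    (x * (x * y) ^ k) * x * (x * (x * y) ^ k)⁻¹ = (x * y) ^ (-(2 * k)) * x := by
  have hxi : x⁻¹ = x := inv_eq_of_mul_eq_one_left hx
  calc (x * (x * y) ^ k) * x * (x * (x * y) ^ k)⁻¹
      = x * ((x * y) ^ k * x * ((x * y) ^ k)⁻¹) * x⁻¹ := by group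
    _ = x * ((x * y) ^ (2 * k) * x) * x := by rw [rot_conj_x hx hy, hxi]
    _ = x * (x * y) ^ (2 * k) * (x * x) := by group
    _ = (x * y) ^ (-(2 * k)) * x := by rw [hx, mul_one, x_mul_zpow hx hy, zpow_neg]

theorem x_not_mem_zpowers {x y : G} (hx : orderOf x = 2) (hy : orderOf y = 2) :
    x ∉ Subgroup.zpowers (x * y) := by
  intro hmem
  have hx1 := sq_one_of_orderOf_two hx
  have hy1 := sq_one_of_orderOf_two hy
  obtain ⟨k, hk⟩ := Subgroup.mem_zpowers_iff.mp hmem
  -- x commutes with x*y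
  have hcomm : Commute x (x * y) := by
    have : Commute ((x * y) ^ k) (x * y) := (Commute.refl _).zpow_left k
    rw [hk] at this
    exact this
  -- hence x*y = y*x
  have h1 : x * (x * y) = (x * y) * x := hcomm.eq
  have h2 : y = x * y * x := by rw [← h1, ← mul_assoc, hx1, one_mul]
  -- so (x*y)^2 = 1
  have h3 : (x * y) * (x * y) = 1 := by
    calc (x * y) * (x * y) = (x * y * x) * y := by group
      _ = 1 := by rw [← h2, hy1]
  -- x = (x*y)^k with (x*y)^2 = 1 so x = 1 or x = x*y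
  have h4 : (x * y) ^ (2 : ℤ) = 1 := by
    rw [zpow_two]; exact h3
  have h5 : x = 1 ∨ x = x * y := by
    rcases Int.emod_two_eq_zero_or_one k with h | h
    · left
      have : k = 2 * (k / 2) := by omega
      rw [← hk, this, zpow_mul, h4, one_zpow]
    · right
      have : k = 2 * (k / 2) + 1 := by omega
      rw [this, zpow_add, zpow_mul, h4, one_zpow, one_mul, zpow_one] at hk
      exact hk.symm
  rcases h5 with h | h
  · exact ne_one_of_orderOf_two hx h
  · have : y = 1 := by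
      have := mul_left_cancel (a := x) (b := 1) (c := y) (by rw [mul_one]; exact h)
      exact this.symm
    exact ne_one_of_orderOf_two hy this

theorem central_inv_aux {x y : G} (hx : orderOf x = 2) (hy : orderOf y = 2)
    (hpos : 0 < orderOf (x * y)) (heven : Even (orderOf (x * y))) :
    orderOf ((x * y) ^ (orderOf (x * y) / 2)) = 2 ∧
      Commute ((x * y) ^ (orderOf (x * y) / 2)) x ∧
      Commute ((x * y) ^ (orderOf (x * y) / 2)) y := by
  have hx1 := sq_one_of_orderOf_two hx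
  have hy1 := sq_one_of_orderOf_two hy
  obtain ⟨m, hm⟩ := heven
  have hm0 : 0 < m := by omega
  have hdiv : orderOf (x * y) / 2 = m := by omega
  rw [hdiv]
  have hord : orderOf ((x * y) ^ m) = 2 := by
    rw [orderOf_pow_of_dvd hm0.ne' ⟨2, by omega⟩, hm]
    have : (m + m) / m = 2 := by
      rw [← two_mul, Nat.mul_div_cancel _ hm0]
    exact this
  have hzi : ((x * y) ^ m)⁻¹ = (x * y) ^ m := inv_eq_self_of_orderOf_two hord
  have hcx : Commute ((x * y) ^ m) x := by
    have h := inv_conj_zpow hx1 hy1 (m : ℤ)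
    rw [zpow_natCast, hzi] at h
    show (x * y) ^ m * x = x * (x * y) ^ m
    calc (x * y) ^ m * x = (x * x) * (x * y) ^ m * x := by rw [hx1, one_mul]
      _ = x * (x * (x * y) ^ m * x) := by group
      _ = x * (x * y) ^ m := by rw [h]
  refine ⟨hord, hcx, ?_⟩
  have hy' : y = x * (x * y) := y_eq_x_mul hx1
  have hca : Commute ((x * y) ^ m) (x * y) := (Commute.refl _).pow_left m
  have := hcx.mul_right hca
  rw [← hy'] at this
  exact this

theorem central_inv {x y : G} [Finite G] (hx : orderOf x = 2) (hy : orderOf y = 2)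
    (heven : Even (orderOf (x * y))) :
    orderOf ((x * y) ^ (orderOf (x * y) / 2)) = 2 ∧
      Commute ((x * y) ^ (orderOf (x * y) / 2)) x ∧
      Commute ((x * y) ^ (orderOf (x * y) / 2)) y :=
  central_inv_aux hx hy (orderOf_pos _) heven

/-- every conjugate of `x` inside the generated subgroup has the form `(x*y)^(2j) * x`. -/
theorem conj_x_form {x y : G} (hx : x * x = 1) (hy : y * y = 1) {d : G}
    (hd : d ∈ Subgroup.closure ({x, y} : Set G)) :
    ∃ j : ℤ, d * x * d⁻¹ = (x * y) ^ (2 * j) * x := by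
  obtain ⟨k, rfl | rfl⟩ := (mem_closure_pair_iff hx hy d).mp hd
  · exact ⟨k, rot_conj_x hx hy k⟩
  · refine ⟨-k, ?_⟩
    rw [refl_conj_x hx hy k, mul_neg]

theorem y_eq_inv_mul_x {x y : G} (hx : x * x = 1) (hy : y * y = 1) :
    y = (x * y) ^ (-1 : ℤ) * x := by
  have h := x_mul_zpow hx hy 1
  rw [zpow_one] at h
  rw [zpow_neg, zpow_one, ← h, ← mul_assoc, hx, one_mul]

theorem conj_of_odd {x y : G} (hx : orderOf x = 2) (hy : orderOf y = 2)
    (hodd : Odd (orderOf (x * y))) :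
    ∃ d ∈ Subgroup.closure ({x, y} : Set G), d * x * d⁻¹ = y := by
  have hx1 := sq_one_of_orderOf_two hx
  have hy1 := sq_one_of_orderOf_two hy
  obtain ⟨k, hk⟩ := hodd
  refine ⟨(x * y) ^ (k : ℤ), ?_, ?_⟩
  · exact (mem_closure_pair_iff hx1 hy1 _).mpr ⟨k, Or.inl rfl⟩
  · rw [rot_conj_x hx1 hy1]
    conv_rhs => rw [y_eq_inv_mul_x hx1 hy1]
    congr 1
    have h1 : (x * y) ^ (2 * (k : ℤ) + 1) = 1 := by
      have := pow_orderOf_eq_one (x * y)
      rw [hk] at this
      rw [← this, ← zpow_natCast]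
      push_cast
      rfl
    rw [zpow_add, zpow_one] at h1
    rw [zpow_neg, zpow_one]
    exact eq_inv_of_mul_eq_one_left h1

theorem not_conj_of_even {x y : G} (hx : orderOf x = 2) (hy : orderOf y = 2)
    (heven : Even (orderOf (x * y))) (d : G) (hd : d ∈ Subgroup.closure ({x, y} : Set G)) :
    d * x * d⁻¹ ≠ y := by
  have hx1 := sq_one_of_orderOf_two hx
  have hy1 := sq_one_of_orderOf_two hy
  intro h
  obtain ⟨j, hj⟩ := conj_x_form hx1 hy1 hd
  rw [h] at hj
  have h2 : (x * y) ^ (-1 : ℤ) = (x * y) ^ (2 * j) :=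
    mul_right_cancel ((y_eq_inv_mul_x hx1 hy1).symm.trans hj)
  have h3 : (x * y) ^ (2 * j + 1) = 1 := by
    rw [zpow_add, ← h2, zpow_neg, zpow_one, inv_mul_cancel]
  have h4 : (orderOf (x * y) : ℤ) ∣ 2 * j + 1 := orderOf_dvd_iff_zpow_eq_one.mpr h3
  obtain ⟨m, hm⟩ := heven
  rw [hm] at h4
  obtain ⟨c, hc⟩ := h4
  push_cast at hc
  have h5 : (2 : ℤ) ∣ 2 * j + 1 := ⟨m * c, by rw [hc]; ring⟩
  omega

theorem conj_xz_iff {x y : G} (hx : orderOf x = 2) (hy : orderOf y = 2)
    (hpos : 0 < orderOf (x * y)) (heven : Even (orderOf (x * y))) :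
    (∃ d ∈ Subgroup.closure ({x, y} : Set G),
        d * x * d⁻¹ = x * (x * y) ^ (orderOf (x * y) / 2)) ↔ 4 ∣ orderOf (x * y) := by
  have hx1 := sq_one_of_orderOf_two hx
  have hy1 := sq_one_of_orderOf_two hy
  obtain ⟨hz2, hzx, -⟩ := central_inv_aux hx hy hpos heven
  obtain ⟨m, hm⟩ := heven
  have hdiv : orderOf (x * y) / 2 = m := by omega
  rw [hdiv] at hzx ⊢
  have hxz : x * (x * y) ^ m = (x * y) ^ (m : ℤ) * x := by
    rw [zpow_natCast]; exact hzx.eq.symm
  constructor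
  · rintro ⟨d, hd, hdx⟩
    obtain ⟨j, hj⟩ := conj_x_form hx1 hy1 hd
    rw [hdx, hxz] at hj
    have h2 := mul_right_cancel hj
    have h3 : (x * y) ^ (2 * j - m) = 1 := by
      rw [zpow_sub, ← h2, mul_inv_cancel]
    have h4 : (orderOf (x * y) : ℤ) ∣ 2 * j - m := orderOf_dvd_iff_zpow_eq_one.mpr h3
    rw [hm] at h4 ⊢
    obtain ⟨c, hc⟩ := h4
    push_cast at hc
    have : (2 : ℤ) ∣ m := ⟨j - m * c, by linarith⟩
    have h2m : 2 ∣ m := by exact_mod_cast this
    obtain ⟨e, he⟩ := h2m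
    exact ⟨e, by omega⟩
  · rintro ⟨e, he⟩
    have hme : m = 2 * e := by omega
    refine ⟨(x * y) ^ (e : ℤ), (mem_closure_pair_iff hx1 hy1 _).mpr ⟨e, Or.inl rfl⟩, ?_⟩
    rw [rot_conj_x hx1 hy1, hxz, hme]
    push_cast
    rfl

/-- conjugating `y` by a rotation. -/
theorem rot_conj_y {x y : G} (hx : x * x = 1) (hy : y * y = 1) (k : ℤ) :
    (x * y) ^ k * y * ((x * y) ^ k)⁻¹ = x * (x * y) ^ (1 - 2 * k) := by
  have hy' : y = x * (x * y) := y_eq_x_mul hx
  have e : (1 : ℤ) - 2 * k = -k + 1 + -k := by ring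
  calc (x * y) ^ k * y * ((x * y) ^ k)⁻¹
      = (x * y) ^ k * (x * (x * y)) * ((x * y) ^ k)⁻¹ := by rw [← hy']
    _ = ((x * y) ^ k * x) * (x * y) * ((x * y) ^ k)⁻¹ := by simp only [mul_assoc]
    _ = (x * ((x * y) ^ k)⁻¹) * (x * y) * ((x * y) ^ k)⁻¹ := by rw [zpow_mul_x hx hy]
    _ = x * (((x * y) ^ k)⁻¹ * (x * y) * ((x * y) ^ k)⁻¹) := by simp only [mul_assoc]
    _ = x * (x * y) ^ (1 - 2 * k) := by
      rw [e, zpow_add, zpow_add, zpow_neg, zpow_one]

end TwoInv

end Cfsg.Agent.Lib.Helper06
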