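import Mathlib
import Cfsg.Agent.Lib.Helper06.Dihedral

set_option autoImplicit false

namespace Cfsg.Agent.Lib.Helper06

theorem cyclic_unique_invol {C : Type*} [Group C] [Finite C] [IsCyclic C] (a b : C)
    (ha : orderOf a = 2) (hb : orderOf b = 2) : a = b := by
  classical
  have : Fintype C := Fintype.ofFinite C
  by_contra hab
  have h1 := IsCyclic.card_pow_eq_one_le (α := C) (n := 2) (by norm_num)
  have hsub : ({1, a, b} : Finset C) ⊆ Finset.univ.filter (fun c : C => c ^ 2 = 1) := by
    intro c hc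
    simp only [Finset.mem_insert, Finset.mem_singleton] at hc
    simp only [Finset.mem_filter, Finset.mem_univ, true_and]
    rcases hc with rfl | rfl | rfl
    · exact one_pow 2
    · rw [pow_two]; exact sq_one_of_orderOf_two ha
    · rw [pow_two]; exact sq_one_of_orderOf_two hb
  have h2 := Finset.card_le_card hsub
  have h3 : ({1, a, b} : Finset C).card = 3 := by
    rw [Finset.card_insert_of_notMem, Finset.card_insert_of_notMem, Finset.card_singleton]
    · simpa using hab
    · simp only [Finset.mem_insert, Finset.mem_singleton, not_or]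
      exact ⟨(ne_one_of_orderOf_two ha).symm, (ne_one_of_orderOf_two hb).symm⟩
  omega

theorem zpowers_normal_of_central {C : Type*} [Group C] (z : C) (hz : ∀ c : C, c * z = z * c) :
    (Subgroup.zpowers z).Normal := by
  constructor
  intro n hn g
  obtain ⟨k, rfl⟩ := Subgroup.mem_zpowers_iff.mp hn
  have hc : Commute g z := hz g
  have : g * z ^ k * g⁻¹ = z ^ k := by
    rw [(hc.zpow_right k).eq, mul_assoc, mul_inv_cancel, mul_one]
  rw [this]
  exact Subgroup.zpow_mem_zpowers z k

/-- a central element of prime order lies in every Sylow subgroup. -/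
theorem central_mem_sylow {C : Type*} [Group C] [Finite C] {p : ℕ} [Fact p.Prime] (S : Sylow p C)
    (z : C) (hz : ∀ c : C, c * z = z * c) (hord : orderOf z = p) : z ∈ S := by
  have := zpowers_normal_of_central z hz
  have hp : IsPGroup p (Subgroup.zpowers z) := by
    apply IsPGroup.of_card (n := 1)
    rw [Nat.card_zpowers, hord, pow_one]
  have hsup : IsPGroup p ((S : Subgroup C) ⊔ Subgroup.zpowers z : Subgroup C) :=
    IsPGroup.to_sup_of_normal_right S.2 hp
  have := S.is_maximal' hsup le_sup_left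
  have hmem : z ∈ ((S : Subgroup C) ⊔ Subgroup.zpowers z : Subgroup C) :=
    (le_sup_right : Subgroup.zpowers z ≤ _) (Subgroup.mem_zpowers z)
  rw [this] at hmem
  exact hmem

/-- maximality of the image of a Sylow subgroup of a subgroup. -/
theorem sylow_map_maximal {G : Type*} [Group G] {p : ℕ} (C : Subgroup G) (S : Sylow p C)
    (Q : Subgroup G) (hQ : IsPGroup p Q) (hSQ : (S : Subgroup C).map C.subtype ≤ Q)
    (hQC : Q ≤ C) : Q = (S : Subgroup C).map C.subtype := by
  have h1 : IsPGroup p (Q.subgroupOf C) := hQ.comap_subtype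
  have h2 : (S : Subgroup C) ≤ Q.subgroupOf C := by
    intro s hs
    rw [Subgroup.mem_subgroupOf]
    exact hSQ (Subgroup.mem_map_of_mem _ hs)
  have h3 := S.is_maximal' h1 h2
  rw [← h3, Subgroup.subgroupOf_map_subtype, inf_eq_left.mpr hQC]

open scoped Pointwise in
/-- If `S` is a Sylow `p`-subgroup of the subgroup `H` of `G` whose image in `G` is `P`, then every
`p`-subgroup `Q` of `G` contained in `H` is conjugate, by an element of `H`, into `P`.
(same statement as in helper21's library, copied to stay self-contained) -/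
theorem exists_conj_mem_of_sylow_subgroup {G : Type*} [Group G] [Finite G] {p : ℕ} [Fact p.Prime]
    {H P Q : Subgroup G} (S : Sylow p H) (hS : (S : Subgroup H).map H.subtype = P)
    (hQ : IsPGroup p Q) (hQH : Q ≤ H) :
    ∃ h ∈ H, ∀ q ∈ Q, h⁻¹ * q * h ∈ P := by
  have hQ1 : IsPGroup p (Q.subgroupOf H) := hQ.comap_subtype
  obtain ⟨S', hS'⟩ := hQ1.exists_le_sylow
  obtain ⟨h, hh⟩ := MulAction.exists_smul_eq H S S'
  refine ⟨h, h.2, fun q hq => ?_⟩
  have h1 : (⟨q, hQH hq⟩ : H) ∈ Q.subgroupOf H := by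
    rw [Subgroup.mem_subgroupOf]; exact hq
  have h2 : (⟨q, hQH hq⟩ : H) ∈ (S' : Subgroup H) := hS' h1
  rw [← hh, Sylow.coe_subgroup_smul, Subgroup.mem_pointwise_smul_iff_inv_smul_mem] at h2
  rw [← hS, Subgroup.mem_map]
  refine ⟨_, h2, ?_⟩
  simp [MulAut.smul_def]

/-- In a finite group, a proper subgroup `P` of a `p`-subgroup `Q` is normalized by some element
of `Q` outside `P`. -/
theorem exists_mem_normalizer_not_mem_of_lt {G : Type*} [Group G] [Finite G] {p : ℕ}
    [Fact p.Prime] {P Q : Subgroup G} (hQ : IsPGroup p Q) (hPQ : P < Q) :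
    ∃ y ∈ Q, y ∉ P ∧ y ∈ Subgroup.normalizer (P : Set G) := by
  have : Group.IsNilpotent Q := hQ.isNilpotent
  have hnc : NormalizerCondition Q := Group.normalizerCondition_of_isNilpotent
  have hlt : P.subgroupOf Q < ⊤ := by
    rw [lt_top_iff_ne_top, Ne, Subgroup.subgroupOf_eq_top]
    exact not_le_of_gt hPQ
  obtain ⟨hle, hnle⟩ := hnc _ hlt
  obtain ⟨y, hy1, hy2⟩ := SetLike.not_le_iff_exists.1 hnle
  refine ⟨y, y.2, ?_, ?_⟩
  · intro hyP
    exact hy2 (Subgroup.mem_subgroupOf.2 hyP)
  · apply Subgroup.mem_normalizer_fintype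
    intro t ht
    have ht' : (⟨t, hPQ.le ht⟩ : Q) ∈ P.subgroupOf Q := Subgroup.mem_subgroupOf.2 ht
    have := (Subgroup.mem_normalizer_iff.1 hy1 _).1 ht'
    rw [Subgroup.mem_subgroupOf] at this
    simpa using this

theorem mem_conj_map' {G : Type*} [Group G] (H : Subgroup G) (g x : G) :
    x ∈ H.map (MulAut.conj g).toMonoidHom ↔ g⁻¹ * x * g ∈ H := by
  constructor
  · rintro ⟨h, hh, rfl⟩
    have : g⁻¹ * ((MulAut.conj g).toMonoidHom h) * g = h := by
      show g⁻¹ * (g * h * g⁻¹) * g = h
      group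
    rw [this]
    exact hh
  · intro h
    refine ⟨g⁻¹ * x * g, h, ?_⟩
    show g * (g⁻¹ * x * g) * g⁻¹ = x
    group

/-- conjugating an element of the normalizer. -/
theorem conj_mem_normalizer {G : Type*} [Group G] (U : Subgroup G) (h n : G)
    (hn : n ∈ Subgroup.normalizer (U : Set G)) :
    h⁻¹ * n * h ∈
      Subgroup.normalizer ((U.map (MulAut.conj h⁻¹).toMonoidHom : Subgroup G) : Set G) := by
  rw [Subgroup.mem_normalizer_iff]
  intro y
  rw [mem_conj_map', mem_conj_map', inv_inv]
  have e : h * (h⁻¹ * n * h * y * (h⁻¹ * n * h)⁻¹) * h⁻¹ = n * (h * y * h⁻¹) * n⁻¹ := by group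
  rw [e]
  exact Subgroup.mem_normalizer_iff.mp hn _

end Cfsg.Agent.Lib.Helper06
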