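import Mathlib
import Cfsg.Agent.Lib.Helper06.SylowAux

set_option autoImplicit false

namespace Cfsg.Agent.Lib.Helper06

open scoped Pointwise

section BS

variable {G : Type*} [Group G] [Finite G] {p : ℕ} [Fact p.Prime]
  (K : Set G) (hKconj : ∀ g k : G, k ∈ K → g * k * g⁻¹ ∈ K)

include hKconj

omit [Finite G] [Fact p.Prime] in
theorem conj_mem_closure_inter (E : Subgroup G) (x : G)
    (hx : x ∈ Subgroup.normalizer (E : Set G)) (d : G)
    (hd : d ∈ Subgroup.closure (K ∩ (E : Set G))) :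
    x * d * x⁻¹ ∈ Subgroup.closure (K ∩ (E : Set G)) := by
  induction hd using Subgroup.closure_induction with
  | mem z hz =>
    apply Subgroup.subset_closure
    exact ⟨hKconj x z hz.1, (Subgroup.mem_normalizer_iff.mp hx z).mp hz.2⟩
  | one => simp
  | mul a b _ _ ha hb =>
    have : x * (a * b) * x⁻¹ = (x * a * x⁻¹) * (x * b * x⁻¹) := by group
    rw [this]
    exact Subgroup.mul_mem _ ha hb
  | inv a _ ha =>
    have : x * a⁻¹ * x⁻¹ = (x * a * x⁻¹)⁻¹ := by group
    rw [this]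
    exact Subgroup.inv_mem _ ha

theorem exists_normalizing (P : Sylow p G) (D : Subgroup G) (hDP : D ≤ P)
    (hD : D = Subgroup.closure (K ∩ (D : Set G))) (a : G) (haK : a ∈ K) (haP : a ∈ P)
    (haD : a ∉ D) :
    ∃ x ∈ K, x ∈ P ∧ x ∉ D ∧ x ∈ Subgroup.normalizer (D : Set G) := by
  classical
  let pr : Subgroup G → Prop := fun E => D ≤ E ∧ E ≤ P ∧ K ∩ (E : Set G) ⊆ (D : Set G)
  have hprD : pr D := ⟨le_rfl, hDP, Set.inter_subset_right⟩
  obtain ⟨E, hDE, hEmax⟩ := Finite.exists_le_maximal (p := pr) hprD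
  obtain ⟨⟨-, hEP, hKE⟩, hmax⟩ := hEmax
  have hEne : E ≠ P := by
    intro h
    apply haD
    apply hKE
    refine ⟨haK, ?_⟩
    rw [h]; exact haP
  have hlt : E < (P : Subgroup G) := lt_of_le_of_ne hEP hEne
  obtain ⟨y, hyP, hyE, hyN⟩ := exists_mem_normalizer_not_mem_of_lt P.2 hlt
  have hE' : ¬ pr (E ⊔ Subgroup.zpowers y) := by
    intro h
    have := hmax h le_sup_left
    apply hyE
    exact this ((le_sup_right : Subgroup.zpowers y ≤ _) (Subgroup.mem_zpowers y))
  have hE'P : E ⊔ Subgroup.zpowers y ≤ P :=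
    sup_le hEP (Subgroup.zpowers_le.mpr hyP)
  have hnot : ¬ (K ∩ ((E ⊔ Subgroup.zpowers y : Subgroup G) : Set G) ⊆ (D : Set G)) := by
    intro h
    exact hE' ⟨hDE.trans le_sup_left, hE'P, h⟩
  rw [Set.not_subset] at hnot
  obtain ⟨x, ⟨hxK, hxE'⟩, hxD⟩ := hnot
  have hE'N : E ⊔ Subgroup.zpowers y ≤ Subgroup.normalizer (E : Set G) :=
    sup_le Subgroup.le_normalizer (Subgroup.zpowers_le.mpr hyN)
  have hxN : x ∈ Subgroup.normalizer (E : Set G) := hE'N hxE'
  have hKDE : K ∩ (D : Set G) = K ∩ (E : Set G) := by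
    apply Set.Subset.antisymm
    · exact Set.inter_subset_inter_right _ hDE
    · intro z hz
      exact ⟨hz.1, hKE hz⟩
  refine ⟨x, hxK, hE'P hxE', hxD, ?_⟩
  apply Subgroup.mem_normalizer_fintype
  intro d hd
  rw [hD, hKDE] at hd ⊢
  exact conj_mem_closure_inter K hKconj E x hxN d hd

theorem ncard_inter_sylow (P Q : Sylow p G) :
    (K ∩ (P : Set G)).ncard = (K ∩ (Q : Set G)).ncard := by
  obtain ⟨g, hg⟩ := MulAction.exists_smul_eq G P Q
  have himg : K ∩ (Q : Set G) = (fun k => g * k * g⁻¹) '' (K ∩ (P : Set G)) := by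
    ext q
    constructor
    · rintro ⟨hqK, hqQ⟩
      refine ⟨g⁻¹ * q * g, ⟨?_, ?_⟩, by group⟩
      · have := hKconj g⁻¹ q hqK
        rw [inv_inv] at this
        exact this
      · have hqQ' : q ∈ (Q : Subgroup G) := hqQ
        rw [← hg, Sylow.smul_def] at hqQ'
        have h2 : q ∈ MulAut.conj g • (P : Subgroup G) := hqQ'
        rw [Subgroup.mem_pointwise_smul_iff_inv_smul_mem] at h2
        exact h2
    · rintro ⟨k, ⟨hkK, hkP⟩, rfl⟩
      refine ⟨hKconj g k hkK, ?_⟩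
      show g * k * g⁻¹ ∈ (Q : Subgroup G)
      rw [← hg, Sylow.smul_def]
      show g * k * g⁻¹ ∈ MulAut.conj g • (P : Subgroup G)
      have : g * k * g⁻¹ = MulAut.conj g • k := rfl
      rw [this]
      exact Subgroup.smul_mem_pointwise_smul k _ _ hkP
  rw [himg]
  symm
  apply Set.ncard_image_of_injective
  intro a b hab
  exact mul_left_cancel (mul_right_cancel hab)

variable (hKp : ∀ a ∈ K, ∀ b ∈ K, IsPGroup p (Subgroup.closure ({a, b} : Set G)))

include hKp

theorem inter_sylow_eq (P Q : Sylow p G) : K ∩ (P : Set G) = K ∩ (Q : Set G) := by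
  classical
  by_contra hne
  -- choose a pair maximizing the intersection
  let α := {pq : Sylow p G × Sylow p G // K ∩ (pq.1 : Set G) ≠ K ∩ (pq.2 : Set G)}
  have : Nonempty α := ⟨⟨(P, Q), hne⟩⟩
  obtain ⟨⟨⟨P₀, Q₀⟩, hne₀⟩, hmax⟩ :=
    Finite.exists_max (fun pq : α => (K ∩ (pq.1.1 : Set G) ∩ (pq.1.2 : Set G)).ncard)
  simp only at hne₀
  have hmax' : ∀ P' Q' : Sylow p G, K ∩ (P' : Set G) ≠ K ∩ (Q' : Set G) →
      (K ∩ (P' : Set G) ∩ (Q' : Set G)).ncard ≤ (K ∩ (P₀ : Set G) ∩ (Q₀ : Set G)).ncard :=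
    fun P' Q' h => hmax ⟨(P', Q'), h⟩
  -- elements outside
  have hex1 : ∃ a ∈ K, a ∈ P₀ ∧ a ∉ Q₀ := by
    by_contra h
    push Not at h
    apply hne₀
    apply Set.eq_of_subset_of_ncard_le
    · intro a ha
      exact ⟨ha.1, h a ha.1 ha.2⟩
    · exact (ncard_inter_sylow K hKconj P₀ Q₀).ge
    · exact Set.toFinite _
  have hex2 : ∃ b ∈ K, b ∈ Q₀ ∧ b ∉ P₀ := by
    by_contra h
    push Not at h
    apply hne₀
    symm
    apply Set.eq_of_subset_of_ncard_le
    · intro a ha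
      exact ⟨ha.1, h a ha.1 ha.2⟩
    · exact (ncard_inter_sylow K hKconj P₀ Q₀).le
    · exact Set.toFinite _
  obtain ⟨a, haK, haP, haQ⟩ := hex1
  obtain ⟨b, hbK, hbQ, hbP⟩ := hex2
  obtain ⟨D, hDdef⟩ : ∃ D : Subgroup G,
      D = Subgroup.closure (K ∩ (P₀ : Set G) ∩ (Q₀ : Set G)) := ⟨_, rfl⟩
  have hDP : D ≤ P₀ := by
    rw [hDdef, Subgroup.closure_le]
    intro z hz; exact hz.1.2
  have hDQ : D ≤ Q₀ := by
    rw [hDdef, Subgroup.closure_le]
    intro z hz; exact hz.2
  have hKD : K ∩ (D : Set G) = K ∩ (P₀ : Set G) ∩ (Q₀ : Set G) := by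
    apply Set.Subset.antisymm
    · intro z hz
      exact ⟨⟨hz.1, hDP hz.2⟩, hDQ hz.2⟩
    · intro z hz
      refine ⟨hz.1.1, ?_⟩
      rw [hDdef]
      exact Subgroup.subset_closure hz
  have hD : D = Subgroup.closure (K ∩ (D : Set G)) := by
    rw [hKD]; exact hDdef
  have haD : a ∉ D := fun h => haQ (hDQ h)
  have hbD : b ∉ D := fun h => hbP (hDP h)
  obtain ⟨x, hxK, hxP, hxD, hxN⟩ := exists_normalizing K hKconj P₀ D hDP hD a haK haP haD
  obtain ⟨y, hyK, hyQ, hyD, hyN⟩ := exists_normalizing K hKconj Q₀ D hDQ hD b hbK hbQ hbD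
  have hJ : IsPGroup p (Subgroup.closure ({x, y} : Set G)) := hKp x hxK y hyK
  have hJN : Subgroup.closure ({x, y} : Set G) ≤ Subgroup.normalizer (D : Set G) := by
    rw [Subgroup.closure_le]
    rintro z (rfl | rfl)
    · exact hxN
    · exact hyN
  have hDp : IsPGroup p D := P₀.2.to_le hDP
  have hsup : IsPGroup p (Subgroup.closure ({x, y} : Set G) ⊔ D : Subgroup G) :=
    IsPGroup.to_sup_of_normal_right' hJ hDp hJN
  obtain ⟨R, hR⟩ := hsup.exists_le_sylow
  have hxR : x ∈ R := hR ((le_sup_left : Subgroup.closure ({x, y} : Set G) ≤ _)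
    (Subgroup.subset_closure (by simp)))
  have hyR : y ∈ R := hR ((le_sup_left : Subgroup.closure ({x, y} : Set G) ≤ _)
    (Subgroup.subset_closure (by simp)))
  have hDR : D ≤ R := le_sup_right.trans hR
  -- K ∩ P₀ = K ∩ R
  have h1 : K ∩ (P₀ : Set G) = K ∩ (R : Set G) := by
    by_contra hne1
    have hle := hmax' P₀ R hne1
    have hlt : (K ∩ (P₀ : Set G) ∩ (Q₀ : Set G)).ncard <
        (K ∩ (P₀ : Set G) ∩ (R : Set G)).ncard := by
      apply Set.ncard_lt_ncard _ (Set.toFinite _)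
      constructor
      · intro z hz
        refine ⟨hz.1, hDR ?_⟩
        have : z ∈ K ∩ (D : Set G) := by rw [hKD]; exact hz
        exact this.2
      · intro hsub
        have : x ∈ K ∩ (P₀ : Set G) ∩ (Q₀ : Set G) := hsub ⟨⟨hxK, hxP⟩, hxR⟩
        rw [← hKD] at this
        exact hxD this.2
    omega
  have h2 : K ∩ (Q₀ : Set G) = K ∩ (R : Set G) := by
    by_contra hne2
    have hle := hmax' Q₀ R hne2
    have hlt : (K ∩ (P₀ : Set G) ∩ (Q₀ : Set G)).ncard <
        (K ∩ (Q₀ : Set G) ∩ (R : Set G)).ncard := by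
      apply Set.ncard_lt_ncard _ (Set.toFinite _)
      constructor
      · intro z hz
        refine ⟨⟨hz.1.1, hz.2⟩, hDR ?_⟩
        have : z ∈ K ∩ (D : Set G) := by rw [hKD]; exact hz
        exact this.2
      · intro hsub
        have : y ∈ K ∩ (P₀ : Set G) ∩ (Q₀ : Set G) := hsub ⟨⟨hyK, hyQ⟩, hyR⟩
        rw [← hKD] at this
        exact hyD this.2
    omega
  exact hne₀ (h1.trans h2.symm)

/-- Baer--Suzuki for a conjugation-invariant set `K` any two elements of which generate a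
`p`-group: `K` lies in a normal `p`-subgroup. -/
theorem baer_suzuki_set : ∃ N : Subgroup G, N.Normal ∧ IsPGroup p N ∧ K ⊆ (N : Set G) := by
  obtain ⟨P₀⟩ : Nonempty (Sylow p G) := inferInstance
  refine ⟨Subgroup.closure (K ∩ (P₀ : Set G)), ?_, ?_, ?_⟩
  · constructor
    intro n hn g
    have hg : g ∈ Subgroup.normalizer
        ((Subgroup.closure (K ∩ (P₀ : Set G)) : Subgroup G) : Set G) := by
      apply Subgroup.mem_normalizer_fintype
      intro d hd
      induction hd using Subgroup.closure_induction with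
      | mem z hz =>
        apply Subgroup.subset_closure
        -- g z g⁻¹ ∈ K ∩ (g • P₀) = K ∩ P₀
        have hz' : g * z * g⁻¹ ∈ K ∩ ((g • P₀ : Sylow p G) : Set G) := by
          refine ⟨hKconj g z hz.1, ?_⟩
          show g * z * g⁻¹ ∈ ((g • P₀ : Sylow p G) : Subgroup G)
          rw [Sylow.smul_def]
          show g * z * g⁻¹ ∈ MulAut.conj g • (P₀ : Subgroup G)
          have : g * z * g⁻¹ = MulAut.conj g • z := rfl
          rw [this]
          exact Subgroup.smul_mem_pointwise_smul z _ _ hz.2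
        rw [inter_sylow_eq K hKconj hKp (g • P₀) P₀] at hz'
        exact hz'
      | one => simp
      | mul a b _ _ ha hb =>
        have : g * (a * b) * g⁻¹ = (g * a * g⁻¹) * (g * b * g⁻¹) := by group
        rw [this]
        exact Subgroup.mul_mem _ ha hb
      | inv a _ ha =>
        have : g * a⁻¹ * g⁻¹ = (g * a * g⁻¹)⁻¹ := by group
        rw [this]
        exact Subgroup.inv_mem _ ha
    exact (Subgroup.mem_normalizer_iff.mp hg n).mp hn
  · apply P₀.2.to_le
    rw [Subgroup.closure_le]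
    intro z hz; exact hz.2
  · intro a ha
    have hpa : IsPGroup p (Subgroup.closure ({a, a} : Set G)) := hKp a ha a ha
    obtain ⟨Q, hQ⟩ := hpa.exists_le_sylow
    have haQ : a ∈ Q := hQ (Subgroup.subset_closure (by simp))
    apply Subgroup.subset_closure
    rw [← inter_sylow_eq K hKconj hKp Q P₀]
    exact ⟨ha, haQ⟩

end BS

end Cfsg.Agent.Lib.Helper06
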