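import Mathlib

set_option autoImplicit false

namespace Cfsg.Agent.Lib.Helper06

open Finset

/-- In a commutative group where `1` and `z` are the only solutions of `w ^ 2 = 1`,
the equation `a ^ (2 ^ k) = 1` has at most `2 ^ k` solutions. -/
theorem card_pow_two_pow_le {A : Type*} [CommGroup A] [Fintype A] [DecidableEq A]
    (z : A) (h : ∀ w : A, w ^ 2 = 1 → w = 1 ∨ w = z) (k : ℕ) :
    #{a : A | a ^ (2 ^ k) = 1} ≤ 2 ^ k := by
  induction k with
  | zero =>
    have : ({a : A | a ^ (2 ^ 0) = 1} : Finset A) = {1} := by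
      ext a; simp
    rw [this]; simp
  | succ k ih =>
    have hmaps : ∀ a ∈ ({a : A | a ^ (2 ^ (k + 1)) = 1} : Finset A),
        (fun a : A => a ^ 2) a ∈ ({a : A | a ^ (2 ^ k) = 1} : Finset A) := by
      intro a ha
      simp only [mem_filter, mem_univ, true_and] at ha ⊢
      rw [← pow_mul, ← pow_succ']; exact ha
    have hfib : ∀ b ∈ ({a : A | a ^ (2 ^ k) = 1} : Finset A),
        #{a ∈ ({a : A | a ^ (2 ^ (k + 1)) = 1} : Finset A) | (fun a : A => a ^ 2) a = b} ≤ 2 := by
      intro b _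
      by_cases hne : ({a ∈ ({a : A | a ^ (2 ^ (k + 1)) = 1} : Finset A) |
          (fun a : A => a ^ 2) a = b}).Nonempty
      · obtain ⟨x0, hx0⟩ := hne
        simp only [mem_filter, mem_univ, true_and] at hx0
        have hsub : {a ∈ ({a : A | a ^ (2 ^ (k + 1)) = 1} : Finset A) |
            (fun a : A => a ^ 2) a = b} ⊆ {x0, x0 * z} := by
          intro x hx
          simp only [mem_filter, mem_univ, true_and] at hx
          have h2 : (x0⁻¹ * x) ^ 2 = 1 := by
            rw [mul_pow, inv_pow, hx0.2, hx.2, inv_mul_cancel]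
          rcases h _ h2 with h3 | h3
          · have : x = x0 := by
              have := congrArg (fun t => x0 * t) h3
              simpa using this
            simp [this]
          · have : x = x0 * z := by
              rw [← h3]; simp
            simp [this]
        exact (card_le_card hsub).trans (card_le_two)
      · rw [not_nonempty_iff_eq_empty] at hne
        rw [hne]; simp
    have := card_le_mul_card_image_of_maps_to hmaps 2 hfib
    calc #{a : A | a ^ (2 ^ (k + 1)) = 1} ≤ 2 * #{a : A | a ^ (2 ^ k) = 1} := this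
      _ ≤ 2 * 2 ^ k := by omega
      _ = 2 ^ (k + 1) := by ring

/-- A finite commutative `2`-group with at most one involution is cyclic. -/
theorem isCyclic_of_unique_invol {A : Type*} [CommGroup A] [Finite A] (hA : IsPGroup 2 A)
    (z : A) (h : ∀ w : A, w ^ 2 = 1 → w = 1 ∨ w = z) : IsCyclic A := by
  classical
  let _ : Fintype A := Fintype.ofFinite A
  obtain ⟨m, hm⟩ := hA.exists_card_eq
  apply isCyclic_of_card_pow_eq_one_le
  intro n hn
  have hg : Nat.gcd n (2 ^ m) ∣ 2 ^ m := Nat.gcd_dvd_right _ _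
  obtain ⟨k, hk, hk2⟩ := (Nat.dvd_prime_pow Nat.prime_two).mp hg
  have heq : (Finset.univ.filter fun a : A => a ^ n = 1) =
      (Finset.univ.filter fun a : A => a ^ (2 ^ k) = 1) := by
    ext a
    simp only [mem_filter, mem_univ, true_and]
    rw [← hk2]
    constructor
    · intro ha
      have h1 : orderOf a ∣ n := orderOf_dvd_of_pow_eq_one ha
      have h2 : orderOf a ∣ 2 ^ m := by
        rw [← hm]; exact orderOf_dvd_natCard a
      exact orderOf_dvd_iff_pow_eq_one.mp (Nat.dvd_gcd h1 h2)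
    · intro ha
      have h1 : orderOf a ∣ Nat.gcd n (2 ^ m) := orderOf_dvd_of_pow_eq_one ha
      exact orderOf_dvd_iff_pow_eq_one.mp (h1.trans (Nat.gcd_dvd_left _ _))
  rw [heq]
  have hle : 2 ^ k ≤ n := by
    rw [← hk2]; exact Nat.le_of_dvd hn (Nat.gcd_dvd_left _ _)
  exact (card_pow_two_pow_le z h k).trans hle

/-- Involutory units modulo a power of two: if `2 ^ n ∣ k ^ 2 - 1` then
`k ≡ ±1` modulo `2 ^ (n - 1)`. -/
theorem two_pow_dvd_sq_sub_one (n : ℕ) (k : ℤ) (h : (2 : ℤ) ^ n ∣ k ^ 2 - 1) (hn : 1 ≤ n) :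
    (2 : ℤ) ^ (n - 1) ∣ k - 1 ∨ (2 : ℤ) ^ (n - 1) ∣ k + 1 := by
  have hodd : Odd k := by
    have h2 : (2 : ℤ) ∣ k ^ 2 - 1 := (dvd_pow_self 2 (by omega)).trans h
    by_contra hk
    rw [Int.not_odd_iff_even] at hk
    obtain ⟨j, hj⟩ := hk
    obtain ⟨c, hc⟩ := h2
    have h3 : k ^ 2 - 1 = 2 * (2 * (j * j)) - 1 := by rw [hj]; ring
    omega
  obtain ⟨m, hm⟩ := hodd
  have hprod : k ^ 2 - 1 = 4 * (m * (m + 1)) := by rw [hm]; ring
  by_cases hn2 : n ≤ 2
  · left
    have : (2 : ℤ) ^ (n - 1) ∣ 2 := by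
      have : n - 1 = 0 ∨ n - 1 = 1 := by omega
      rcases this with h0 | h0 <;> rw [h0] <;> norm_num
    exact this.trans ⟨m, by rw [hm]; ring⟩
  · push Not at hn2
    have hn' : n = (n - 2) + 2 := by omega
    have h4 : (2 : ℤ) ^ (n - 2) ∣ m * (m + 1) := by
      rw [hprod, hn', pow_add] at h
      have h4' : (2 : ℤ) ^ 2 = 4 := by norm_num
      rw [h4', mul_comm] at h
      exact (mul_dvd_mul_iff_left (by norm_num : (4 : ℤ) ≠ 0)).mp h
    have hp2 : Prime (2 : ℤ) := Int.prime_two
    have hn1 : n - 1 = (n - 2) + 1 := by omega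
    by_cases hm2 : (2 : ℤ) ∣ m
    · -- 2 ∤ m+1
      have hm1 : ¬ (2 : ℤ) ∣ m + 1 := by
        intro h'
        have := (Int.dvd_add_right hm2).mp h'
        norm_num at this
      have := hp2.pow_dvd_of_dvd_mul_right (n - 2) hm1 h4
      left
      rw [hn1, pow_succ]
      have hk1 : k - 1 = m * 2 := by rw [hm]; ring
      rw [hk1]
      exact mul_dvd_mul_right this 2
    · have := hp2.pow_dvd_of_dvd_mul_left (n - 2) hm2 h4
      right
      rw [hn1, pow_succ]
      have hk1 : k + 1 = (m + 1) * 2 := by rw [hm]; ring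
      rw [hk1]
      exact mul_dvd_mul_right this 2

end Cfsg.Agent.Lib.Helper06
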