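import Mathlib
import Cfsg.Agent.Lib.Helper06.CyclicTwo
import Cfsg.Agent.Lib.Helper06.SylowAux

set_option autoImplicit false

namespace Cfsg.Agent.Lib.Helper06

open Subgroup

variable {S : Type*} [Group S]

/-- A nontrivial normal subgroup of a finite `p`-group contains a nontrivial central element
(same proof as `Helper58.exists_central_in_normal`). -/
theorem exists_central_mem_normal [Finite S] {p : ℕ} [Fact p.Prime] (hS : IsPGroup p S)
    (N : Subgroup S) [N.Normal] (hN : N ≠ ⊥) : ∃ n ∈ N, n ≠ 1 ∧ n ∈ Subgroup.center S := by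
  have hdvd : p ∣ Nat.card N := by
    obtain ⟨k, hk⟩ := (hS.to_subgroup N).exists_card_eq
    rcases Nat.eq_zero_or_pos k with rfl | hkpos
    · exfalso
      apply hN
      rw [pow_zero] at hk
      exact Subgroup.card_eq_one.mp hk
    · rw [hk]; exact dvd_pow_self p (by omega)
  have h1 : (1 : N) ∈ MulAction.fixedPoints (ConjAct S) N := by
    intro g
    exact smul_one g
  obtain ⟨b, hb, hb1⟩ :=
    (hS.of_equiv ConjAct.toConjAct).exists_fixed_point_of_prime_dvd_card_of_fixed_point N hdvd h1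
  refine ⟨b.1, b.2, ?_, ?_⟩
  · intro h
    apply hb1
    exact (Subtype.ext h).symm
  · rw [Subgroup.mem_center_iff]
    intro g
    have h2 := hb (ConjAct.toConjAct g)
    have h3 := congrArg Subtype.val h2
    rw [ConjAct.Subgroup.val_conj_smul, ConjAct.toConjAct_smul] at h3
    calc g * b.1 = (g * b.1 * g⁻¹) * g := by group
      _ = b.1 * g := by rw [h3]

theorem mem_zpowers_of_sq_one {z x : S} (hz : z ^ 2 = 1) (hx : x ∈ zpowers z) : x = 1 ∨ x = z := by
  obtain ⟨k, rfl⟩ := Subgroup.mem_zpowers_iff.mp hx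
  rcases Int.even_or_odd k with ⟨m, hm⟩ | ⟨m, hm⟩
  · left
    rw [hm, ← two_mul, zpow_mul, zpow_ofNat, hz, one_zpow]
  · right
    rw [hm, zpow_add, zpow_mul, zpow_ofNat, hz, one_zpow, one_mul, zpow_one]

/-- a nontrivial normal subgroup of a finite `2`-group contains a central involution. -/
theorem exists_central_invol_mem_normal [Finite S] (hS : IsPGroup 2 S)
    (N : Subgroup S) [N.Normal] (hN : N ≠ ⊥) :
    ∃ z ∈ N, z ≠ 1 ∧ z ^ 2 = 1 ∧ z ∈ Subgroup.center S := by
  have : Fact (Nat.Prime 2) := ⟨Nat.prime_two⟩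
  obtain ⟨n, hnN, hn1, hnc⟩ := exists_central_mem_normal hS N hN
  obtain ⟨k, hk⟩ := (IsPGroup.iff_orderOf.mp hS) n
  rcases Nat.eq_zero_or_pos k with rfl | hkpos
  · exfalso; apply hn1
    rw [pow_zero] at hk
    exact orderOf_eq_one_iff.mp hk
  obtain ⟨j, rfl⟩ : ∃ j, k = j + 1 := ⟨k - 1, by omega⟩
  refine ⟨n ^ (2 ^ j), N.pow_mem hnN _, ?_, ?_, ?_⟩
  · intro h
    have := orderOf_dvd_of_pow_eq_one h
    rw [hk] at this
    have h2 := Nat.le_of_dvd (by positivity) this
    rw [pow_succ] at h2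
    have : 0 < 2 ^ j := by positivity
    omega
  · rw [← pow_mul, ← pow_succ, ← hk, pow_orderOf_eq_one]
  · exact (Subgroup.center S).pow_mem hnc _

/-- **Case I**: a normal elementary abelian subgroup of order at least `4` of a finite `2`-group
contains a normal four-subgroup `{1, z, u, uz}`. -/
theorem normal_four_of_elemAb [Finite S] (hS : IsPGroup 2 S) (Ω : Subgroup S) [hΩn : Ω.Normal]
    (z w : S) (hz1 : z ≠ 1) (hz2 : z ^ 2 = 1) (hzc : z ∈ center S)
    (hwΩ : w ∈ Ω) (hw1 : w ≠ 1) (hwz : w ≠ z) :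
    ∃ u ∈ Ω, u ≠ 1 ∧ u ≠ z ∧ ∀ s : S, s * u * s⁻¹ = u ∨ s * u * s⁻¹ = u * z := by
  have : Fact (Nat.Prime 2) := ⟨Nat.prime_two⟩
  have hzcomm : ∀ c : S, c * z = z * c := fun c => (Subgroup.mem_center_iff.mp hzc c)
  have hZn : (zpowers z).Normal := zpowers_normal_of_central z hzcomm
  set π := QuotientGroup.mk' (zpowers z) with hπ
  have hNn : (Ω.map π).Normal := hΩn.map π (QuotientGroup.mk'_surjective _)
  have hNne : Ω.map π ≠ ⊥ := by
    intro hbot
    have : π w ∈ Ω.map π := ⟨w, hwΩ, rfl⟩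
    rw [hbot, Subgroup.mem_bot] at this
    have hw := (QuotientGroup.eq_one_iff w).mp this
    rcases mem_zpowers_of_sq_one hz2 hw with h | h
    · exact hw1 h
    · exact hwz h
  have hQ : IsPGroup 2 (S ⧸ zpowers z) := hS.to_quotient _
  obtain ⟨q, hqN, hq1, hqc⟩ := exists_central_mem_normal hQ (Ω.map π) hNne
  obtain ⟨u, huΩ, rfl⟩ := hqN
  have huZ : u ∉ zpowers z := fun h => hq1 ((QuotientGroup.eq_one_iff u).mpr h)
  refine ⟨u, huΩ, ?_, ?_, ?_⟩
  · rintro rfl; exact huZ (one_mem _)
  · rintro rfl; exact huZ (mem_zpowers _)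
  · intro s
    have h1 : π s * π u = π u * π s := (Subgroup.mem_center_iff.mp hqc (π s))
    have h2 : s * u * s⁻¹ * u⁻¹ ∈ zpowers z := by
      rw [← QuotientGroup.eq_one_iff]
      have : ((s * u * s⁻¹ * u⁻¹ : S) : S ⧸ zpowers z) = π s * π u * (π s)⁻¹ * (π u)⁻¹ := by
        simp [hπ]
      rw [this, h1]; group
    rcases mem_zpowers_of_sq_one hz2 h2 with h | h
    · left
      calc s * u * s⁻¹ = (s * u * s⁻¹ * u⁻¹) * u := by group
        _ = u := by rw [h, one_mul]
    · right
      calc s * u * s⁻¹ = (s * u * s⁻¹ * u⁻¹) * u := by group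
        _ = z * u := by rw [h]
        _ = u * z := (hzcomm u).symm


/-- **Case II**: a finite `2`-group with a self-centralizing cyclic normal subgroup `⟨a⟩` and an
elementary abelian subgroup of order `8` has a normal four-subgroup `{1, z, u, uz}`. -/
theorem normal_four_of_cyclic [Finite S] (hS : IsPGroup 2 S) (a : S)
    (hAn : (zpowers a).Normal) (hCA : centralizer (zpowers a : Set S) ≤ zpowers a)
    (E : Subgroup S) (hE8 : Nat.card E = 8) (hE2 : ∀ e ∈ E, e ^ 2 = 1) :
    ∃ z u : S, z ≠ 1 ∧ z ^ 2 = 1 ∧ u ≠ 1 ∧ u ^ 2 = 1 ∧ u ≠ z ∧ z ∈ center S ∧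
      ∀ s : S, s * u * s⁻¹ = u ∨ s * u * s⁻¹ = u * z := by
  classical
  obtain ⟨n, hn⟩ := (IsPGroup.iff_orderOf.mp hS) a
  have hcent : ∀ c : S, c * a = a * c → c ∈ zpowers a := by
    intro c hc
    apply hCA
    rw [Subgroup.mem_centralizer_iff]
    intro x hx
    obtain ⟨i, rfl⟩ := Subgroup.mem_zpowers_iff.mp hx
    have : Commute c a := hc
    exact ((this.zpow_right i).eq).symm
  have hn1 : 1 ≤ n := by
    by_contra h
    have h0 : n = 0 := by omega
    rw [h0, pow_zero, orderOf_eq_one_iff] at hn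
    have hall : ∀ c : S, c = 1 := by
      intro c
      have := hcent c (by rw [hn, mul_one, one_mul])
      rw [hn, Subgroup.zpowers_one_eq_bot, Subgroup.mem_bot] at this
      exact this
    have : Nat.card E = 1 := by
      rw [Subgroup.card_eq_one, Subgroup.eq_bot_iff_forall]
      intro e _; exact hall e
    omega
  obtain ⟨m, hm⟩ : ∃ m : ℕ, m = 2 ^ (n - 1) := ⟨_, rfl⟩
  have hm2 : 2 ^ n = m * 2 := by rw [hm, ← pow_succ]; congr 1; omega
  have hmpos : 0 < m := by rw [hm]; positivity
  have hmZ : (m : ℤ) = 2 ^ (n - 1) := by rw [hm]; push_cast; rfl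
  obtain ⟨z, hzdef⟩ : ∃ z : S, z = a ^ m := ⟨_, rfl⟩
  have hz2 : z ^ 2 = 1 := by
    rw [hzdef, ← pow_mul, ← hm2, ← hn, pow_orderOf_eq_one]
  have hz1 : z ≠ 1 := by
    intro h
    rw [hzdef] at h
    have := orderOf_dvd_of_pow_eq_one h
    rw [hn, hm2] at this
    have h2 := Nat.le_of_dvd hmpos this
    omega
  have hzA : z ∈ zpowers a := by rw [hzdef]; exact Subgroup.pow_mem _ (mem_zpowers a) _
  have huniq : ∀ w ∈ zpowers a, w ^ 2 = 1 → w = 1 ∨ w = z := by
    intro w hw hw2
    obtain ⟨i, rfl⟩ := Subgroup.mem_zpowers_iff.mp hw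
    have h1 : a ^ (i * 2) = 1 := by rw [zpow_mul, zpow_ofNat]; exact hw2
    have h2 : (orderOf a : ℤ) ∣ i * 2 := orderOf_dvd_iff_zpow_eq_one.mpr h1
    rw [hn, hm2] at h2
    push_cast at h2
    have h3 : (m : ℤ) ∣ i := (mul_dvd_mul_iff_right (by norm_num : (2 : ℤ) ≠ 0)).mp h2
    obtain ⟨j, rfl⟩ := h3
    apply mem_zpowers_of_sq_one hz2
    rw [Subgroup.mem_zpowers_iff]
    refine ⟨j, ?_⟩
    rw [hzdef, zpow_mul, zpow_natCast]
  have hzc : z ∈ center S := by
    rw [Subgroup.mem_center_iff]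
    intro s
    have h1 : s * z * s⁻¹ ∈ zpowers a := hAn.conj_mem z hzA s
    have h2 : (s * z * s⁻¹) ^ 2 = 1 := by rw [conj_pow, hz2]; group
    rcases huniq _ h1 h2 with h | h
    · exfalso; apply hz1
      have : z = s⁻¹ * (s * z * s⁻¹) * s := by group
      rw [this, h]; group
    · calc s * z = (s * z * s⁻¹) * s := by group
        _ = z * s := by rw [h]
  have hact : ∀ e : S, e ^ 2 = 1 → e * a * e⁻¹ = a ∨ e * a * e⁻¹ = a * z ∨
      e * a * e⁻¹ = a⁻¹ ∨ e * a * e⁻¹ = a⁻¹ * z := by
    intro e he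
    have h1 : e * a * e⁻¹ ∈ zpowers a := hAn.conj_mem a (mem_zpowers a) e
    obtain ⟨k, hk⟩ := Subgroup.mem_zpowers_iff.mp h1
    have h2 : a ^ (k * k) = a := by
      have hee : e * (e * a * e⁻¹) * e⁻¹ = a := by
        have he' : e * e = 1 := by rw [← pow_two]; exact he
        calc e * (e * a * e⁻¹) * e⁻¹ = (e * e) * a * (e * e)⁻¹ := by group
          _ = a := by rw [he']; group
      calc a ^ (k * k) = (a ^ k) ^ k := zpow_mul a k k
        _ = (e * a * e⁻¹) ^ k := by rw [hk]
        _ = e * a ^ k * e⁻¹ := conj_zpow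
        _ = e * (e * a * e⁻¹) * e⁻¹ := by rw [hk]
        _ = a := hee
    have h3 : a ^ (k * k - 1) = 1 := by rw [zpow_sub, h2, zpow_one, mul_inv_cancel]
    have h4 : (2 : ℤ) ^ n ∣ k ^ 2 - 1 := by
      have := orderOf_dvd_iff_zpow_eq_one.mpr h3
      rw [hn] at this
      rw [pow_two]; exact_mod_cast this
    rcases two_pow_dvd_sq_sub_one n k h4 hn1 with ⟨j, hj⟩ | ⟨j, hj⟩
    · have hk' : k = 1 + (m : ℤ) * j := by rw [hmZ]; linarith
      have hak : a ^ k = a * z ^ j := by
        rw [hk', zpow_add, zpow_one, zpow_mul, zpow_natCast, hzdef]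
      rcases mem_zpowers_of_sq_one hz2 (zpow_mem_zpowers z j) with h | h
      · left; rw [← hk, hak, h, mul_one]
      · right; left; rw [← hk, hak, h]
    · have hk' : k = -1 + (m : ℤ) * j := by rw [hmZ]; linarith
      have hak : a ^ k = a⁻¹ * z ^ j := by
        rw [hk', zpow_add, zpow_neg_one, zpow_mul, zpow_natCast, hzdef]
      rcases mem_zpowers_of_sq_one hz2 (zpow_mem_zpowers z j) with h | h
      · right; right; left; rw [← hk, hak, h, mul_one]
      · right; right; right; rw [← hk, hak, h]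
  let _ : Fintype E := Fintype.ofFinite E
  have hE8' : Fintype.card E = 8 := by rw [← Nat.card_eq_fintype_card]; exact hE8
  have hpig : ∀ t : Finset S, (∀ e : E, (e : S) * a * (e : S)⁻¹ ∈ t) → 8 ≤ 2 * t.card := by
    intro t ht
    have hfib : ∀ b ∈ t,
        ((Finset.univ : Finset E).filter fun e : E => (e : S) * a * (e : S)⁻¹ = b).card ≤ 2 := by
      intro b _
      by_cases hne : (Finset.univ.filter fun e : E => (e : S) * a * (e : S)⁻¹ = b).Nonempty
      · obtain ⟨e0, he0⟩ := hne
        simp only [Finset.mem_filter, Finset.mem_univ, true_and] at he0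
        have hle : (Finset.univ.filter fun e : E => (e : S) * a * (e : S)⁻¹ = b).card ≤
            ({1, z} : Finset S).card := by
          apply Finset.card_le_card_of_injOn (fun e : E => (e0 : S)⁻¹ * (e : S))
          · intro e he
            simp only [Finset.coe_filter, Finset.mem_univ, true_and, Set.mem_ofPred_eq] at he
            have hc : ((e0 : S)⁻¹ * (e : S)) * a = a * ((e0 : S)⁻¹ * (e : S)) := by
              have h1 : (e : S) * a * (e : S)⁻¹ = (e0 : S) * a * (e0 : S)⁻¹ := by rw [he, he0]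
              have h2 : (e : S) * a = (e0 : S) * a * (e0 : S)⁻¹ * (e : S) := by rw [← h1]; group
              calc (e0 : S)⁻¹ * (e : S) * a = (e0 : S)⁻¹ * ((e : S) * a) := by group
                _ = (e0 : S)⁻¹ * ((e0 : S) * a * (e0 : S)⁻¹ * (e : S)) := by rw [h2]
                _ = a * ((e0 : S)⁻¹ * (e : S)) := by group
            have hcA := hcent _ hc
            have hcE : (e0 : S)⁻¹ * (e : S) ∈ E := E.mul_mem (E.inv_mem e0.2) e.2
            rcases huniq _ hcA (hE2 _ hcE) with h | h
            · simp [h]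
            · simp [h]
          · intro e1 _ e2 _ h
            simp only at h
            exact Subtype.ext (mul_left_cancel h)
        exact hle.trans Finset.card_le_two
      · rw [Finset.not_nonempty_iff_eq_empty] at hne
        rw [hne]; simp
    have := Finset.card_le_mul_card_image_of_maps_to (s := (Finset.univ : Finset E)) (t := t)
      (f := fun e : E => (e : S) * a * (e : S)⁻¹) (fun e _ => ht e) 2 hfib
    rw [Finset.card_univ, hE8'] at this
    exact this
  have hEact : ∀ e : E, (e : S) * a * (e : S)⁻¹ = a ∨ (e : S) * a * (e : S)⁻¹ = a * z ∨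
      (e : S) * a * (e : S)⁻¹ = a⁻¹ ∨ (e : S) * a * (e : S)⁻¹ = a⁻¹ * z :=
    fun e => hact e (hE2 e e.2)
  have hne1 : a ≠ a⁻¹ := by
    intro h
    have h1 := hpig {a, a * z} (by
      intro e
      rcases hEact e with h1 | h1 | h1 | h1
      · simp [h1]
      · simp [h1]
      · rw [h1, ← h]; simp
      · rw [h1, ← h]; simp)
    have h2 := (Finset.card_le_two : ({a, a * z} : Finset S).card ≤ 2)
    omega
  have hne2 : a * z ≠ a⁻¹ := by
    intro h
    have h1 := hpig {a, a * z, a⁻¹ * z} (by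
      intro e
      rcases hEact e with h1 | h1 | h1 | h1
      · simp [h1]
      · simp [h1]
      · rw [h1, ← h]; simp
      · simp [h1])
    have h2 := (Finset.card_le_three : ({a, a * z, a⁻¹ * z} : Finset S).card ≤ 3)
    omega
  obtain ⟨e, he⟩ : ∃ e : E, (e : S) * a * (e : S)⁻¹ = a * z := by
    by_contra hno
    push Not at hno
    have h1 := hpig {a, a⁻¹, a⁻¹ * z} (by
      intro e
      rcases hEact e with h1 | h1 | h1 | h1
      · simp [h1]
      · exact absurd h1 (hno e)
      · simp [h1]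
      · simp [h1])
    have h2 := (Finset.card_le_three : ({a, a⁻¹, a⁻¹ * z} : Finset S).card ≤ 3)
    omega
  have hn3 : 3 ≤ n := by
    by_contra h
    have h12 : n = 1 ∨ n = 2 := by omega
    rcases h12 with h | h
    · apply hne1
      have h2 : a ^ 2 = 1 := by
        have := pow_orderOf_eq_one a
        rw [hn, h] at this
        simpa using this
      rw [pow_two] at h2
      exact eq_inv_of_mul_eq_one_left h2
    · apply hne2
      have h4 : a ^ 4 = 1 := by
        have := pow_orderOf_eq_one a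
        rw [hn, h] at this
        simpa using this
      have hm' : m = 2 := by rw [hm, h]; norm_num
      rw [hzdef, hm']
      apply eq_inv_of_mul_eq_one_left
      rw [← pow_succ', ← pow_succ]
      exact h4
  obtain ⟨u, hu⟩ : ∃ u : S, u = (e : S) := ⟨_, rfl⟩
  rw [← hu] at he
  have hu2' : u ^ 2 = 1 := by rw [hu]; exact hE2 e e.2
  have hzcomm : ∀ s : S, s * z = z * s := fun s => Subgroup.mem_center_iff.mp hzc s
  refine ⟨z, u, hz1, hz2, ?_, hu2', ?_, hzc, ?_⟩
  · intro h
    rw [h] at he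
    apply hz1
    have : a = a * z := by simpa using he
    exact (mul_eq_left.mp this.symm)
  · intro h
    rw [h] at he
    apply hz1
    have h1 : z * a * z⁻¹ = a := by rw [← hzcomm a]; group
    rw [h1] at he
    exact (mul_eq_left.mp he.symm)
  · intro s
    have hu2 : u * u = 1 := by rw [← pow_two]; exact hu2'
    have huinv : u⁻¹ = u := inv_eq_of_mul_eq_one_left hu2
    have hα : ∀ x ∈ zpowers a, u * x * u⁻¹ = x * x ^ m := by
      intro x hx
      obtain ⟨i, rfl⟩ := Subgroup.mem_zpowers_iff.mp hx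
      have hcomm : Commute a z := hzcomm a
      calc u * a ^ i * u⁻¹ = (u * a * u⁻¹) ^ i := conj_zpow.symm
        _ = (a * z) ^ i := by rw [he]
        _ = a ^ i * z ^ i := hcomm.mul_zpow i
        _ = a ^ i * (a ^ i) ^ m := by
            congr 1
            rw [hzdef, ← zpow_natCast (a ^ i), ← zpow_mul, mul_comm, zpow_mul, zpow_natCast]
    have hb : s⁻¹ * a * s ∈ zpowers a := by
      have := hAn.conj_mem a (mem_zpowers a) s⁻¹
      simpa using this
    have hbm : (s⁻¹ * a * s) ^ m = z := by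
      have h1 : (s⁻¹ * a * s) ^ m = s⁻¹ * a ^ m * s := by
        have := conj_pow (a := s⁻¹) (b := a) (i := m)
        simpa using this
      rw [h1, ← hzdef]
      calc s⁻¹ * z * s = s⁻¹ * (z * s) := by group
        _ = s⁻¹ * (s * z) := by rw [hzcomm s]
        _ = z := by group
    have hβ : (s * u * s⁻¹) * a * (s * u * s⁻¹)⁻¹ = a * z := by
      have h1 := hα _ hb
      rw [hbm] at h1
      calc (s * u * s⁻¹) * a * (s * u * s⁻¹)⁻¹ = s * (u * (s⁻¹ * a * s) * u⁻¹) * s⁻¹ := by group
        _ = s * ((s⁻¹ * a * s) * z) * s⁻¹ := by rw [h1]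
        _ = a * (s * z * s⁻¹) := by group
        _ = a * z := by
            congr 1
            calc s * z * s⁻¹ = z * s * s⁻¹ := by rw [hzcomm s]
              _ = z := by group
    obtain ⟨c, hc⟩ : ∃ c : S, c = u⁻¹ * (s * u * s⁻¹) := ⟨_, rfl⟩
    have hcA : c ∈ zpowers a := by
      apply hcent
      have h1 : (s * u * s⁻¹) * a = a * z * (s * u * s⁻¹) := by rw [← hβ]; group
      have h3 : u⁻¹ * (a * z) = a * u⁻¹ := by
        have : a * z = u * a * u⁻¹ := he.symm
        rw [this]; group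
      calc c * a = u⁻¹ * ((s * u * s⁻¹) * a) := by rw [hc]; group
        _ = u⁻¹ * (a * z * (s * u * s⁻¹)) := by rw [h1]
        _ = (u⁻¹ * (a * z)) * (s * u * s⁻¹) := by group
        _ = a * u⁻¹ * (s * u * s⁻¹) := by rw [h3]
        _ = a * c := by rw [hc]; group
    have hsu : s * u * s⁻¹ = u * c := by rw [hc]; group
    have hsq : (u * c) * (u * c) = 1 := by
      rw [← hsu]
      calc s * u * s⁻¹ * (s * u * s⁻¹) = s * (u * u) * s⁻¹ := by group
        _ = 1 := by rw [hu2]; group
    have hcpow : c ^ (m + 2) = 1 := by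
      have h1 := hα c hcA
      rw [huinv] at h1
      calc c ^ (m + 2) = (c * c ^ m) * c := by
            rw [show m + 2 = (m + 1) + 1 by ring, pow_succ, pow_succ']
        _ = (u * c * u) * c := by rw [h1]
        _ = (u * c) * (u * c) := by group
        _ = 1 := hsq
    have hc2 : c ^ 2 = 1 := by
      obtain ⟨i, hi⟩ := (IsPGroup.iff_orderOf.mp hS) c
      have hdvd : 2 ^ i ∣ m + 2 := by rw [← hi]; exact orderOf_dvd_of_pow_eq_one hcpow
      have hi1 : i ≤ 1 := by
        by_contra h
        push Not at h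
        have h4 : 4 ∣ 2 ^ i := by
          obtain ⟨j, rfl⟩ : ∃ j, i = j + 2 := ⟨i - 2, by omega⟩
          rw [pow_add]; exact Dvd.intro_left _ rfl
        have h4' : 4 ∣ m := by
          rw [hm]
          obtain ⟨j, hj⟩ : ∃ j, n - 1 = j + 2 := ⟨n - 3, by omega⟩
          rw [hj, pow_add]; exact Dvd.intro_left _ rfl
        have := (Nat.dvd_add_right h4').mp (h4.trans hdvd)
        omega
      have : orderOf c ∣ 2 := by
        rw [hi]
        interval_cases i <;> norm_num
      exact orderOf_dvd_iff_pow_eq_one.mp this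
    rcases huniq c hcA hc2 with h | h
    · left; rw [hsu, h, mul_one]
    · right; rw [hsu, h]


theorem comm_of_mem_isMulCommutative {A : Subgroup S} (hA : IsMulCommutative A) {x y : S}
    (hx : x ∈ A) (hy : y ∈ A) : x * y = y * x := by
  have := mul_comm' (⟨x, hx⟩ : A) ⟨y, hy⟩
  exact congrArg Subtype.val this

/-- A maximal normal abelian subgroup of a finite `p`-group is self-centralizing
(same proof as `Helper58.centralizer_le_of_maximal_normal_abelian`). -/
theorem centralizer_le_of_max_normal_abelian [Finite S] {p : ℕ} [Fact p.Prime]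
    (hG : IsPGroup p S) (A : Subgroup S) (hAn : A.Normal) (hAc : IsMulCommutative A)
    (hmax : ∀ B : Subgroup S, B.Normal → IsMulCommutative B → A ≤ B → B = A) :
    Subgroup.centralizer (A : Set S) ≤ A := by
  by_contra hnot
  set C := Subgroup.centralizer (A : Set S) with hC
  have hCn : C.Normal := Subgroup.normal_centralizer
  set π := QuotientGroup.mk' A with hπ
  have hNn : (C.map π).Normal := hCn.map π (QuotientGroup.mk'_surjective A)
  have hNne : C.map π ≠ ⊥ := by
    intro hbot
    apply hnot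
    intro c hc
    have : π c ∈ C.map π := ⟨c, hc, rfl⟩
    rw [hbot, Subgroup.mem_bot] at this
    exact (QuotientGroup.eq_one_iff c).mp this
  have hQ : IsPGroup p (S ⧸ A) := hG.to_quotient A
  obtain ⟨q, hqN, hq1, hqc⟩ := exists_central_mem_normal hQ (C.map π) hNne
  obtain ⟨x, hxC, rfl⟩ := hqN
  have hxA : x ∉ A := fun h => hq1 ((QuotientGroup.eq_one_iff x).mpr h)
  set A₁ := Subgroup.closure ((A : Set S) ∪ {x}) with hA₁
  have hAA₁ : A ≤ A₁ := fun a ha => Subgroup.subset_closure (Or.inl ha)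
  have hxA₁ : x ∈ A₁ := Subgroup.subset_closure (Or.inr rfl)
  have hA₁c : IsMulCommutative A₁ := by
    apply Subgroup.isMulCommutative_closure
    rintro u (hu | hu) v (hv | hv)
    · exact comm_of_mem_isMulCommutative hAc hu hv
    · rw [Set.mem_singleton_iff] at hv; subst hv
      exact (hxC u hu)
    · rw [Set.mem_singleton_iff] at hu; subst hu
      exact (hxC v hv).symm
    · rw [Set.mem_singleton_iff] at hu hv; subst hu; subst hv; rfl
  have hA₁n : A₁.Normal := by
    rw [← Subgroup.normalizer_eq_top_iff, eq_top_iff, hA₁, Subgroup.le_normalizer_closure_iff]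
    rintro g - y (hy | hy)
    · exact hAA₁ (hAn.conj_mem y hy g)
    · rw [Set.mem_singleton_iff] at hy; subst hy
      have h1 : π g * π y = π y * π g := (Subgroup.mem_center_iff.mp hqc (π g))
      have h2 : g * y * g⁻¹ * y⁻¹ ∈ A := by
        rw [← QuotientGroup.eq_one_iff]
        have : ((g * y * g⁻¹ * y⁻¹ : S) : S ⧸ A) = π g * π y * (π g)⁻¹ * (π y)⁻¹ := by
          simp [hπ]
        rw [this, h1]; group
      have : g * y * g⁻¹ = (g * y * g⁻¹ * y⁻¹) * y := by group
      rw [this]
      exact A₁.mul_mem (hAA₁ h2) hxA₁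
  have := hmax A₁ hA₁n hA₁c hAA₁
  rw [this] at hxA₁
  exact hxA hxA₁

/-- **Normal four-subgroup lemma**: a finite `2`-group containing an elementary abelian subgroup of
order `8` has a normal four-subgroup `{1, z, u, uz}` with `z` central. -/
theorem exists_normal_four [Finite S] (hS : IsPGroup 2 S)
    (E : Subgroup S) (hE8 : Nat.card E = 8) (hE2 : ∀ e ∈ E, e ^ 2 = 1) :
    ∃ z u : S, z ≠ 1 ∧ z ^ 2 = 1 ∧ u ≠ 1 ∧ u ^ 2 = 1 ∧ u ≠ z ∧ z ∈ center S ∧
      ∀ s : S, s * u * s⁻¹ = u ∨ s * u * s⁻¹ = u * z := by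
  classical
  have : Fact (Nat.Prime 2) := ⟨Nat.prime_two⟩
  obtain ⟨A, hAn, hAc, hAmax⟩ : ∃ A : Subgroup S, A.Normal ∧ IsMulCommutative A ∧
      ∀ B : Subgroup S, B.Normal → IsMulCommutative B → A ≤ B → B = A := by
    let T := {B : Subgroup S // B.Normal ∧ IsMulCommutative B}
    have hne : Nonempty T := ⟨⟨⊥, inferInstance, inferInstance⟩⟩
    obtain ⟨⟨A, hA1, hA2⟩, hmax⟩ := Finite.exists_max (fun B : T => Nat.card B.1)
    refine ⟨A, hA1, hA2, ?_⟩
    intro B hBn hBc hAB
    have h1 := hmax ⟨B, hBn, hBc⟩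
    simp only at h1
    exact (Subgroup.eq_of_le_of_card_ge hAB h1).symm
  have hCA : centralizer (A : Set S) ≤ A :=
    centralizer_le_of_max_normal_abelian hS A hAn hAc hAmax
  have hAne : A ≠ ⊥ := by
    intro h
    rw [h] at hCA
    have hall : ∀ c : S, c = 1 := by
      intro c
      have : c ∈ centralizer ((⊥ : Subgroup S) : Set S) := by
        rw [Subgroup.mem_centralizer_iff]
        intro x hx
        rw [SetLike.mem_coe, Subgroup.mem_bot] at hx
        rw [hx, mul_one, one_mul]
      exact Subgroup.mem_bot.mp (hCA this)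
    have : Nat.card E = 1 := by
      rw [Subgroup.card_eq_one, Subgroup.eq_bot_iff_forall]
      intro e _; exact hall e
    omega
  obtain ⟨z, hzA, hz1, hz2, hzc⟩ := exists_central_invol_mem_normal hS A hAne
  by_cases h : ∃ w ∈ A, w ^ 2 = 1 ∧ w ≠ 1 ∧ w ≠ z
  · obtain ⟨w, hwA, hw2, hw1, hwz⟩ := h
    let Ω : Subgroup S :=
      { carrier := {a | a ∈ A ∧ a ^ 2 = 1}
        mul_mem' := by
          rintro a b ⟨ha, ha2⟩ ⟨hb, hb2⟩
          refine ⟨A.mul_mem ha hb, ?_⟩
          have hab := comm_of_mem_isMulCommutative hAc ha hb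
          rw [pow_two] at *
          calc a * b * (a * b) = a * (b * a) * b := by group
            _ = a * (a * b) * b := by rw [hab]
            _ = (a * a) * (b * b) := by group
            _ = 1 := by rw [ha2, hb2, one_mul]
        one_mem' := ⟨A.one_mem, one_pow 2⟩
        inv_mem' := by
          rintro a ⟨ha, ha2⟩
          exact ⟨A.inv_mem ha, by rw [inv_pow, ha2, inv_one]⟩ }
    have hΩn : Ω.Normal := by
      constructor
      rintro a ⟨ha, ha2⟩ g
      exact ⟨hAn.conj_mem a ha g, by rw [conj_pow, ha2]; group⟩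
    obtain ⟨u, huΩ, hu1, huz, hconj⟩ :=
      normal_four_of_elemAb hS Ω z w hz1 hz2 hzc ⟨hwA, hw2⟩ hw1 hwz
    exact ⟨z, u, hz1, hz2, hu1, huΩ.2, huz, hzc, hconj⟩
  · push Not at h
    have huniq : ∀ w : A, w ^ 2 = 1 → w = 1 ∨ w = ⟨z, hzA⟩ := by
      intro w hw
      by_cases hw1 : (w : S) = 1
      · left; exact Subtype.ext hw1
      · right
        have := h w w.2 (by have := congrArg Subtype.val hw; simpa using this) hw1
        exact Subtype.ext this
    let _ : CommGroup A :=
      { (inferInstance : Group A) with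
        mul_comm := fun x y => mul_comm' x y }
    have hcyc : IsCyclic A := isCyclic_of_unique_invol (hS.to_subgroup A) ⟨z, hzA⟩ huniq
    obtain ⟨g, hg⟩ := hcyc.exists_generator
    have hAeq : A = zpowers (g : S) := by
      ext x
      constructor
      · intro hx
        obtain ⟨k, hk⟩ := Subgroup.mem_zpowers_iff.mp (hg ⟨x, hx⟩)
        rw [Subgroup.mem_zpowers_iff]
        refine ⟨k, ?_⟩
        have := congrArg Subtype.val hk
        simpa using this
      · intro hx
        obtain ⟨k, rfl⟩ := Subgroup.mem_zpowers_iff.mp hx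
        exact A.zpow_mem g.2 k
    rw [hAeq] at hAn hCA
    exact normal_four_of_cyclic hS (g : S) hAn hCA E hE8 hE2

end Cfsg.Agent.Lib.Helper06
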