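import Mathlib
import Cfsg.Agent.Lib.Helper06.NormalFour

set_option autoImplicit false

namespace Cfsg.Agent.Lib.Helper06

open Subgroup Finset

/-- In a commutative group with at most `p` solutions of `w ^ p = 1`, the equation
`a ^ (p ^ k) = 1` has at most `p ^ k` solutions. -/
theorem card_pow_prime_pow_le {A : Type*} [CommGroup A] [Fintype A] [DecidableEq A] (p : ℕ)
    (hΩ : #{w : A | w ^ p = 1} ≤ p) (k : ℕ) :
    #{a : A | a ^ (p ^ k) = 1} ≤ p ^ k := by
  induction k with
  | zero =>
    have : (Finset.univ.filter fun a : A => a ^ (p ^ 0) = 1) = {1} := by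
      ext a; simp
    rw [this]; simp
  | succ k ih =>
    have hmaps : ∀ a ∈ (Finset.univ.filter fun a : A => a ^ (p ^ (k + 1)) = 1),
        (fun a : A => a ^ p) a ∈ (Finset.univ.filter fun a : A => a ^ (p ^ k) = 1) := by
      intro a ha
      simp only [mem_filter, mem_univ, true_and] at ha ⊢
      rw [← pow_mul, ← pow_succ']; exact ha
    have hfib : ∀ b ∈ (Finset.univ.filter fun a : A => a ^ (p ^ k) = 1),
        #{a ∈ (Finset.univ.filter fun a : A => a ^ (p ^ (k + 1)) = 1) |
          (fun a : A => a ^ p) a = b} ≤ p := by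
      intro b _
      by_cases hne : ({a ∈ (Finset.univ.filter fun a : A => a ^ (p ^ (k + 1)) = 1) |
          (fun a : A => a ^ p) a = b}).Nonempty
      · obtain ⟨x0, hx0⟩ := hne
        simp only [mem_filter, mem_univ, true_and] at hx0
        refine le_trans ?_ hΩ
        apply Finset.card_le_card_of_injOn (fun x => x0⁻¹ * x)
        · intro x hx
          simp only [coe_filter, mem_filter, mem_univ, true_and, Set.mem_ofPred_eq] at hx ⊢
          rw [mul_pow, inv_pow, hx0.2, hx.2, inv_mul_cancel]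
        · intro x1 _ x2 _ h
          exact mul_left_cancel h
      · rw [not_nonempty_iff_eq_empty] at hne
        rw [hne]; simp
    have := card_le_mul_card_image_of_maps_to hmaps p hfib
    calc #{a : A | a ^ (p ^ (k + 1)) = 1} ≤ p * #{a : A | a ^ (p ^ k) = 1} := this
      _ ≤ p * p ^ k := Nat.mul_le_mul_left p ih
      _ = p ^ (k + 1) := by ring

/-- A finite commutative `p`-group with at most `p` solutions of `w ^ p = 1` is cyclic. -/
theorem isCyclic_of_card_omega_le {A : Type*} [CommGroup A] [Finite A] {p : ℕ} [hp : Fact p.Prime]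
    (hA : IsPGroup p A) (hΩ : Nat.card {w : A // w ^ p = 1} ≤ p) : IsCyclic A := by
  classical
  let _ : Fintype A := Fintype.ofFinite A
  have hΩ' : #{w : A | w ^ p = 1} ≤ p := by
    rw [Nat.card_eq_fintype_card, Fintype.card_subtype] at hΩ
    exact hΩ
  obtain ⟨m, hm⟩ := hA.exists_card_eq
  apply isCyclic_of_card_pow_eq_one_le
  intro n hn
  have hg : Nat.gcd n (p ^ m) ∣ p ^ m := Nat.gcd_dvd_right _ _
  obtain ⟨k, hk, hk2⟩ := (Nat.dvd_prime_pow hp.out).mp hg
  have heq : (Finset.univ.filter fun a : A => a ^ n = 1) =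
      (Finset.univ.filter fun a : A => a ^ (p ^ k) = 1) := by
    ext a
    simp only [mem_filter, mem_univ, true_and]
    rw [← hk2]
    constructor
    · intro ha
      have h1 : orderOf a ∣ n := orderOf_dvd_of_pow_eq_one ha
      have h2 : orderOf a ∣ p ^ m := by
        rw [← hm]; exact orderOf_dvd_natCard a
      exact orderOf_dvd_iff_pow_eq_one.mp (Nat.dvd_gcd h1 h2)
    · intro ha
      have h1 : orderOf a ∣ Nat.gcd n (p ^ m) := orderOf_dvd_of_pow_eq_one ha
      exact orderOf_dvd_iff_pow_eq_one.mp (h1.trans (Nat.gcd_dvd_left _ _))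
  rw [heq]
  have hle : p ^ k ≤ n := by
    rw [← hk2]; exact Nat.le_of_dvd hn (Nat.gcd_dvd_left _ _)
  exact (card_pow_prime_pow_le p hΩ' k).trans hle

/-- Units of order dividing `p` modulo `p ^ n`, `p` odd: if `p ^ n ∣ k ^ p - 1` then
`p ^ (n - 1) ∣ k - 1`. -/
theorem prime_pow_dvd_pow_sub_one {p : ℕ} (hp : p.Prime) (hp2 : p ≠ 2) (n : ℕ) (k : ℤ)
    (h : (p : ℤ) ^ n ∣ k ^ p - 1) (hn : 1 ≤ n) : (p : ℤ) ^ (n - 1) ∣ k - 1 := by
  have : Fact p.Prime := ⟨hp⟩
  have hodd : Odd p := hp.odd_of_ne_two hp2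
  have hpk : (p : ℤ) ∣ k ^ p - 1 := (dvd_pow_self (p : ℤ) (by omega)).trans h
  have h1 : (p : ℤ) ∣ k - 1 := by
    have h2 : ((k ^ p - 1 : ℤ) : ZMod p) = 0 := (ZMod.intCast_zmod_eq_zero_iff_dvd _ p).mpr hpk
    rw [← ZMod.intCast_zmod_eq_zero_iff_dvd]
    push_cast at h2 ⊢
    rw [ZMod.pow_card] at h2
    exact h2
  have h3 : ¬ (p : ℤ) ∣ k := by
    intro hk
    have : (p : ℤ) ∣ k ^ p := dvd_pow hk hp.ne_zero
    have h4 : (p : ℤ) ∣ 1 := by
      have := dvd_sub this hpk
      simpa using this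
    have := Int.isUnit_iff.mp (isUnit_of_dvd_one h4)
    have hp1 := hp.one_lt
    omega
  have hlte := Int.emultiplicity_pow_sub_pow hp hodd (x := k) (y := 1) (by simpa using h1) h3 p
  rw [one_pow] at hlte
  have h5 : (n : ℕ∞) ≤ emultiplicity (p : ℤ) (k ^ p - 1) := pow_dvd_iff_le_emultiplicity.mp h
  rw [hlte] at h5
  have h6 : emultiplicity p p = 1 :=
    (Nat.finiteMultiplicity_iff.mpr ⟨hp.ne_one, hp.pos⟩).emultiplicity_self
  rw [h6] at h5
  rw [pow_dvd_iff_le_emultiplicity]
  generalize emultiplicity (p : ℤ) (k - 1) = e at h5 ⊢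
  cases e with
  | top => exact le_top
  | coe e =>
    have : n ≤ e + 1 := by exact_mod_cast h5
    exact_mod_cast (by omega : n - 1 ≤ e)


variable {S : Type*} [Group S]

/-- a nontrivial normal subgroup of a finite `p`-group contains a central element of order `p`. -/
theorem exists_central_order_p_mem_normal [Finite S] {p : ℕ} [hp : Fact p.Prime]
    (hS : IsPGroup p S) (N : Subgroup S) [N.Normal] (hN : N ≠ ⊥) :
    ∃ z ∈ N, z ≠ 1 ∧ z ^ p = 1 ∧ z ∈ Subgroup.center S := by
  obtain ⟨n, hnN, hn1, hnc⟩ := exists_central_mem_normal hS N hN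
  obtain ⟨k, hk⟩ := (IsPGroup.iff_orderOf.mp hS) n
  rcases Nat.eq_zero_or_pos k with rfl | hkpos
  · exfalso; apply hn1
    rw [pow_zero] at hk
    exact orderOf_eq_one_iff.mp hk
  obtain ⟨j, rfl⟩ : ∃ j, k = j + 1 := ⟨k - 1, by omega⟩
  refine ⟨n ^ (p ^ j), N.pow_mem hnN _, ?_, ?_, ?_⟩
  · intro h
    have := orderOf_dvd_of_pow_eq_one h
    rw [hk] at this
    have h2 := Nat.le_of_dvd (by have := hp.out.pos; positivity) this
    rw [pow_succ] at h2
    have h3 : 0 < p ^ j := by have := hp.out.pos; positivity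
    have h4 := hp.out.one_lt
    nlinarith
  · rw [← pow_mul, ← pow_succ, ← hk, pow_orderOf_eq_one]
  · exact (Subgroup.center S).pow_mem hnc _

/-- **Case I** (any prime): a normal subgroup `Ω` of a finite `p`-group containing an element `w`
outside `⟨z⟩` (`z` central) contains `u ∉ ⟨z⟩` all of whose conjugates lie in `u⟨z⟩`. -/
theorem normal_rank_two_of_elemAb [Finite S] {p : ℕ} [hp : Fact p.Prime] (hS : IsPGroup p S)
    (Ω : Subgroup S) [hΩn : Ω.Normal] (z w : S) (hzc : z ∈ center S)
    (hwΩ : w ∈ Ω) (hwz : w ∉ zpowers z) :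
    ∃ u ∈ Ω, u ∉ zpowers z ∧ ∀ s : S, u⁻¹ * (s * u * s⁻¹) ∈ zpowers z := by
  have hzcomm : ∀ c : S, c * z = z * c := fun c => (Subgroup.mem_center_iff.mp hzc c)
  have hZn : (zpowers z).Normal := zpowers_normal_of_central z hzcomm
  set π := QuotientGroup.mk' (zpowers z) with hπ
  have hNn : (Ω.map π).Normal := hΩn.map π (QuotientGroup.mk'_surjective _)
  have hNne : Ω.map π ≠ ⊥ := by
    intro hbot
    have : π w ∈ Ω.map π := ⟨w, hwΩ, rfl⟩
    rw [hbot, Subgroup.mem_bot] at this
    exact hwz ((QuotientGroup.eq_one_iff w).mp this)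
  have hQ : IsPGroup p (S ⧸ zpowers z) := hS.to_quotient _
  obtain ⟨q, hqN, hq1, hqc⟩ := exists_central_mem_normal hQ (Ω.map π) hNne
  obtain ⟨u, huΩ, rfl⟩ := hqN
  have huZ : u ∉ zpowers z := fun h => hq1 ((QuotientGroup.eq_one_iff u).mpr h)
  refine ⟨u, huΩ, huZ, ?_⟩
  intro s
  have h1 : π s * π u = π u * π s := (Subgroup.mem_center_iff.mp hqc (π s))
  rw [← QuotientGroup.eq_one_iff]
  have : ((u⁻¹ * (s * u * s⁻¹) : S) : S ⧸ zpowers z) = (π u)⁻¹ * (π s * π u * (π s)⁻¹) := by
    simp [hπ]
  rw [this, h1]; group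

/-- **Case II** (odd `p`): a finite `p`-group with a self-centralizing cyclic normal subgroup has no
subgroup of exponent `p` and order exceeding `p ^ 2`. -/
theorem card_le_of_cyclic_self_centralizing [Finite S] {p : ℕ} [hp : Fact p.Prime] (hp2 : p ≠ 2)
    (hS : IsPGroup p S) (a : S)
    (hAn : (zpowers a).Normal) (hCA : centralizer (zpowers a : Set S) ≤ zpowers a)
    (E : Subgroup S) (hEp : ∀ e ∈ E, e ^ p = 1) : Nat.card E ≤ p ^ 2 := by
  classical
  have hppos : 0 < p := hp.out.pos
  obtain ⟨n, hn⟩ := (IsPGroup.iff_orderOf.mp hS) a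
  have hcent : ∀ c : S, c * a = a * c → c ∈ zpowers a := by
    intro c hc
    apply hCA
    rw [Subgroup.mem_centralizer_iff]
    intro x hx
    obtain ⟨i, rfl⟩ := Subgroup.mem_zpowers_iff.mp hx
    have : Commute c a := hc
    exact ((this.zpow_right i).eq).symm
  by_cases hn0 : n = 0
  · rw [hn0, pow_zero, orderOf_eq_one_iff] at hn
    have hall : ∀ c : S, c = 1 := by
      intro c
      have := hcent c (by rw [hn, mul_one, one_mul])
      rw [hn, Subgroup.zpowers_one_eq_bot, Subgroup.mem_bot] at this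
      exact this
    have : Nat.card E = 1 := by
      rw [Subgroup.card_eq_one, Subgroup.eq_bot_iff_forall]
      intro e _; exact hall e
    rw [this]; exact Nat.one_le_pow _ _ hppos
  have hn1 : 1 ≤ n := by omega
  obtain ⟨m, hm⟩ : ∃ m : ℕ, m = p ^ (n - 1) := ⟨_, rfl⟩
  have hm2 : p ^ n = m * p := by rw [hm, ← pow_succ]; congr 1; omega
  have hmZ : (m : ℤ) = (p : ℤ) ^ (n - 1) := by rw [hm]; push_cast; rfl
  obtain ⟨z, hzdef⟩ : ∃ z : S, z = a ^ m := ⟨_, rfl⟩
  have hzp : z ^ p = 1 := by
    rw [hzdef, ← pow_mul, ← hm2, ← hn, pow_orderOf_eq_one]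
  have hΩ : ∀ w ∈ zpowers a, w ^ p = 1 → w ∈ zpowers z := by
    intro w hw hwp
    obtain ⟨i, rfl⟩ := Subgroup.mem_zpowers_iff.mp hw
    have h1 : a ^ (i * p) = 1 := by rw [zpow_mul, zpow_natCast]; exact hwp
    have h2 : (orderOf a : ℤ) ∣ i * p := orderOf_dvd_iff_zpow_eq_one.mpr h1
    rw [hn, hm2] at h2
    push_cast at h2
    have h3 : (m : ℤ) ∣ i :=
      (mul_dvd_mul_iff_right (by exact_mod_cast hppos.ne' : (p : ℤ) ≠ 0)).mp h2
    obtain ⟨j, rfl⟩ := h3
    rw [Subgroup.mem_zpowers_iff]
    refine ⟨j, ?_⟩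
    rw [hzdef, zpow_mul, zpow_natCast]
  have hact : ∀ e : S, e ^ p = 1 → a⁻¹ * (e * a * e⁻¹) ∈ zpowers z := by
    intro e he
    have h1 : e * a * e⁻¹ ∈ zpowers a := hAn.conj_mem a (mem_zpowers a) e
    obtain ⟨k, hk⟩ := Subgroup.mem_zpowers_iff.mp h1
    have hiter : ∀ j : ℕ, e ^ j * a * (e ^ j)⁻¹ = a ^ (k ^ j) := by
      intro j
      induction j with
      | zero => simp
      | succ j ih =>
        calc e ^ (j + 1) * a * (e ^ (j + 1))⁻¹ = e * (e ^ j * a * (e ^ j)⁻¹) * e⁻¹ := by
              rw [pow_succ']; group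
          _ = e * a ^ (k ^ j) * e⁻¹ := by rw [ih]
          _ = (e * a * e⁻¹) ^ (k ^ j) := conj_zpow.symm
          _ = (a ^ k) ^ (k ^ j) := by rw [hk]
          _ = a ^ (k ^ (j + 1)) := by rw [← zpow_mul, pow_succ']
    have h2 : a ^ (k ^ p) = a := by
      rw [← hiter p, he]; simp
    have h3 : a ^ (k ^ p - 1) = 1 := by rw [zpow_sub, h2, zpow_one, mul_inv_cancel]
    have h4 : (p : ℤ) ^ n ∣ k ^ p - 1 := by
      have := orderOf_dvd_iff_zpow_eq_one.mpr h3
      rw [hn] at this
      exact_mod_cast this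
    obtain ⟨j, hj⟩ := prime_pow_dvd_pow_sub_one hp.out hp2 n k h4 hn1
    have hk' : k = 1 + (m : ℤ) * j := by rw [hmZ]; linarith
    have hak : a ^ k = a * z ^ j := by
      rw [hk', zpow_add, zpow_one, zpow_mul, zpow_natCast, hzdef]
    rw [← hk, hak, inv_mul_cancel_left]
    exact zpow_mem_zpowers z j
  let _ : Fintype E := Fintype.ofFinite E
  let _ : Fintype S := Fintype.ofFinite S
  let t : Finset S := Finset.univ.filter (fun x => x ∈ zpowers z)
  have htcard : t.card ≤ p := by
    have h1 : t.card = Nat.card (zpowers z) := by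
      rw [Nat.card_eq_fintype_card, Fintype.card_subtype]
    rw [h1, Nat.card_zpowers]
    exact Nat.le_of_dvd hppos (orderOf_dvd_of_pow_eq_one hzp)
  have hmaps : ∀ e ∈ (Finset.univ : Finset E),
      (fun e : E => a⁻¹ * ((e : S) * a * (e : S)⁻¹)) e ∈ t := by
    intro e _
    simp only [t, mem_filter, mem_univ, true_and]
    exact hact e (hEp e e.2)
  have hfib : ∀ b ∈ t, ((Finset.univ : Finset E).filter
      fun e : E => a⁻¹ * ((e : S) * a * (e : S)⁻¹) = b).card ≤ p := by
    intro b _
    by_cases hne : (Finset.univ.filter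
        fun e : E => a⁻¹ * ((e : S) * a * (e : S)⁻¹) = b).Nonempty
    · obtain ⟨e0, he0⟩ := hne
      simp only [Finset.mem_filter, Finset.mem_univ, true_and] at he0
      refine le_trans ?_ htcard
      apply Finset.card_le_card_of_injOn (fun e : E => (e0 : S)⁻¹ * (e : S))
      · intro e he
        simp only [Finset.coe_filter, Finset.mem_univ, true_and, Set.mem_ofPred_eq] at he
        have hc : ((e0 : S)⁻¹ * (e : S)) * a = a * ((e0 : S)⁻¹ * (e : S)) := by
          have h1 : (e : S) * a * (e : S)⁻¹ = (e0 : S) * a * (e0 : S)⁻¹ := by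
            have := he.trans he0.symm
            exact mul_left_cancel this
          have h2 : (e : S) * a = (e0 : S) * a * (e0 : S)⁻¹ * (e : S) := by rw [← h1]; group
          calc (e0 : S)⁻¹ * (e : S) * a = (e0 : S)⁻¹ * ((e : S) * a) := by group
            _ = (e0 : S)⁻¹ * ((e0 : S) * a * (e0 : S)⁻¹ * (e : S)) := by rw [h2]
            _ = a * ((e0 : S)⁻¹ * (e : S)) := by group
        have hcA := hcent _ hc
        have hcE : (e0 : S)⁻¹ * (e : S) ∈ E := E.mul_mem (E.inv_mem e0.2) e.2
        simp only [t, coe_filter, mem_univ, true_and, Set.mem_ofPred_eq]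
        exact hΩ _ hcA (hEp _ hcE)
      · intro e1 _ e2 _ h
        simp only at h
        exact Subtype.ext (mul_left_cancel h)
    · rw [Finset.not_nonempty_iff_eq_empty] at hne
      rw [hne]; simp
  have := Finset.card_le_mul_card_image_of_maps_to hmaps p hfib
  rw [Finset.card_univ, ← Nat.card_eq_fintype_card] at this
  calc Nat.card E ≤ p * t.card := this
    _ ≤ p * p := Nat.mul_le_mul_left p htcard
    _ = p ^ 2 := by ring


/-- **Normal `E_{p²}` lemma**: a finite `p`-group containing an abelian subgroup of exponent `p`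
and order exceeding `p ^ 2` has a normal subgroup `⟨z⟩ × ⟨u⟩` of order `p ^ 2` and exponent `p`
with `z` central and every conjugate of `u` in `u⟨z⟩`. -/
theorem exists_normal_rank_two [Finite S] {p : ℕ} [hp : Fact p.Prime] (hS : IsPGroup p S)
    (E : Subgroup S) (hEp : ∀ e ∈ E, e ^ p = 1)
    (hE : p ^ 2 < Nat.card E) :
    ∃ z u : S, z ≠ 1 ∧ z ^ p = 1 ∧ z ∈ center S ∧ u ^ p = 1 ∧ u ∉ zpowers z ∧
      ∀ s : S, u⁻¹ * (s * u * s⁻¹) ∈ zpowers z := by
  classical
  by_cases hp2 : p = 2
  · subst hp2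
    -- extract a subgroup of order exactly 8
    have hEpg : IsPGroup 2 E := hS.to_subgroup E
    obtain ⟨k, hk⟩ := hEpg.exists_card_eq
    have hk3 : 3 ≤ k := by
      by_contra h
      push Not at h
      have : 2 ^ k ≤ 2 ^ 2 := Nat.pow_le_pow_right (by norm_num) (by omega)
      omega
    have hdvd : 2 ^ 3 ∣ Nat.card E := by rw [hk]; exact pow_dvd_pow 2 hk3
    obtain ⟨K, hK⟩ := Sylow.exists_subgroup_card_pow_prime 2 hdvd
    have hK8 : Nat.card (K.map E.subtype) = 8 := by
      rw [Subgroup.card_map_of_injective (Subgroup.subtype_injective _), hK]; norm_num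
    have hK2 : ∀ e ∈ K.map E.subtype, e ^ 2 = 1 := by
      rintro _ ⟨e, _, rfl⟩
      exact hEp _ e.2
    obtain ⟨z, u, hz1, hz2, hu1, hu2, huz, hzc, hconj⟩ :=
      exists_normal_four hS (K.map E.subtype) hK8 hK2
    refine ⟨z, u, hz1, hz2, hzc, hu2, ?_, ?_⟩
    · intro h
      rcases mem_zpowers_of_sq_one hz2 h with h | h
      · exact hu1 h
      · exact huz h
    · intro s
      rcases hconj s with h | h
      · rw [h, inv_mul_cancel]; exact one_mem _
      · rw [h, inv_mul_cancel_left]; exact mem_zpowers z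
  · obtain ⟨A, hAn, hAc, hAmax⟩ : ∃ A : Subgroup S, A.Normal ∧ IsMulCommutative A ∧
        ∀ B : Subgroup S, B.Normal → IsMulCommutative B → A ≤ B → B = A := by
      let T := {B : Subgroup S // B.Normal ∧ IsMulCommutative B}
      have hne : Nonempty T := ⟨⟨⊥, inferInstance, inferInstance⟩⟩
      obtain ⟨⟨A, hA1, hA2⟩, hmax⟩ := Finite.exists_max (fun B : T => Nat.card B.1)
      refine ⟨A, hA1, hA2, ?_⟩
      intro B hBn hBc hAB
      have h1 := hmax ⟨B, hBn, hBc⟩
      simp only at h1
      exact (Subgroup.eq_of_le_of_card_ge hAB h1).symm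
    have hCA : centralizer (A : Set S) ≤ A :=
      centralizer_le_of_max_normal_abelian hS A hAn hAc hAmax
    have hppos : 0 < p := hp.out.pos
    have hAne : A ≠ ⊥ := by
      intro h
      rw [h] at hCA
      have hall : ∀ c : S, c = 1 := by
        intro c
        have : c ∈ centralizer ((⊥ : Subgroup S) : Set S) := by
          rw [Subgroup.mem_centralizer_iff]
          intro x hx
          rw [SetLike.mem_coe, Subgroup.mem_bot] at hx
          rw [hx, mul_one, one_mul]
        exact Subgroup.mem_bot.mp (hCA this)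
      have : Nat.card E = 1 := by
        rw [Subgroup.card_eq_one, Subgroup.eq_bot_iff_forall]
        intro e _; exact hall e
      rw [this] at hE
      have : 1 ≤ p ^ 2 := Nat.one_le_pow _ _ hppos
      omega
    obtain ⟨z, hzA, hz1, hzp, hzc⟩ := exists_central_order_p_mem_normal hS A hAne
    by_cases h : ∃ w ∈ A, w ^ p = 1 ∧ w ∉ zpowers z
    · obtain ⟨w, hwA, hwp, hwz⟩ := h
      let Ω : Subgroup S :=
        { carrier := {a | a ∈ A ∧ a ^ p = 1}
          mul_mem' := by
            rintro a b ⟨ha, hap⟩ ⟨hb, hbp⟩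
            refine ⟨A.mul_mem ha hb, ?_⟩
            have hab : Commute a b := comm_of_mem_isMulCommutative hAc ha hb
            rw [hab.mul_pow, hap, hbp, one_mul]
          one_mem' := ⟨A.one_mem, one_pow p⟩
          inv_mem' := by
            rintro a ⟨ha, hap⟩
            exact ⟨A.inv_mem ha, by rw [inv_pow, hap, inv_one]⟩ }
      have hΩn : Ω.Normal := by
        constructor
        rintro a ⟨ha, hap⟩ g
        exact ⟨hAn.conj_mem a ha g, by rw [conj_pow, hap]; group⟩
      obtain ⟨u, huΩ, huz, hconj⟩ :=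
        normal_rank_two_of_elemAb hS Ω z w hzc ⟨hwA, hwp⟩ hwz
      exact ⟨z, u, hz1, hzp, hzc, huΩ.2, huz, hconj⟩
    · exfalso
      push Not at h
      have hcardΩ : Nat.card {w : A // w ^ p = 1} ≤ p := by
        have hinj : Function.Injective
            (fun w : {w : A // w ^ p = 1} => (⟨(w.1 : S), h w.1 w.1.2 (by
              have := congrArg Subtype.val w.2; simpa using this)⟩ : zpowers z)) := by
          intro w1 w2 h12
          have := congrArg Subtype.val h12
          exact Subtype.ext (Subtype.ext this)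
        have h1 := Nat.card_le_card_of_injective _ hinj
        have h2 : Nat.card (zpowers z) ≤ p := by
          rw [Nat.card_zpowers]
          exact Nat.le_of_dvd hppos (orderOf_dvd_of_pow_eq_one hzp)
        exact h1.trans h2
      let _ : CommGroup A :=
        { (inferInstance : Group A) with
          mul_comm := fun x y => mul_comm' x y }
      have hcyc : IsCyclic A := isCyclic_of_card_omega_le (hS.to_subgroup A) hcardΩ
      obtain ⟨g, hg⟩ := hcyc.exists_generator
      have hAeq : A = zpowers (g : S) := by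
        ext x
        constructor
        · intro hx
          obtain ⟨k, hk⟩ := Subgroup.mem_zpowers_iff.mp (hg ⟨x, hx⟩)
          rw [Subgroup.mem_zpowers_iff]
          refine ⟨k, ?_⟩
          have := congrArg Subtype.val hk
          simpa using this
        · intro hx
          obtain ⟨k, rfl⟩ := Subgroup.mem_zpowers_iff.mp hx
          exact A.zpow_mem g.2 k
      rw [hAeq] at hAn hCA
      have := card_le_of_cyclic_self_centralizing hp2 hS (g : S) hAn hCA E hEp
      omega


/-- elements of the join of two elementwise commuting subgroups are products. -/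
theorem exists_mul_of_mem_sup_of_commute (H K : Subgroup S)
    (hc : ∀ h ∈ H, ∀ k ∈ K, h * k = k * h) {x : S} (hx : x ∈ H ⊔ K) :
    ∃ h ∈ H, ∃ k ∈ K, x = h * k := by
  have hcomm : ∀ (m : H) (n : K), Commute (H.subtype m) (K.subtype n) :=
    fun m n => hc m.1 m.2 n.1 n.2
  have hr := MonoidHom.noncommCoprod_range H.subtype K.subtype hcomm
  rw [Subgroup.range_subtype, Subgroup.range_subtype] at hr
  rw [← hr] at hx
  obtain ⟨⟨h, k⟩, rfl⟩ := hx
  exact ⟨h.1, h.2, k.1, k.2, by rw [MonoidHom.noncommCoprod_apply]; rfl⟩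

/-- the join of two elementwise commuting subgroups with trivial intersection has order the
product of the orders. -/
theorem card_sup_of_commute_of_disjoint (H K : Subgroup S)
    (hc : ∀ h ∈ H, ∀ k ∈ K, h * k = k * h) (hd : H ⊓ K = ⊥) :
    Nat.card (H ⊔ K : Subgroup S) = Nat.card H * Nat.card K := by
  have hcomm : ∀ (m : H) (n : K), Commute (H.subtype m) (K.subtype n) :=
    fun m n => hc m.1 m.2 n.1 n.2
  have hr := MonoidHom.noncommCoprod_range H.subtype K.subtype hcomm
  rw [Subgroup.range_subtype, Subgroup.range_subtype] at hr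
  have hinj : Function.Injective (MonoidHom.noncommCoprod H.subtype K.subtype hcomm) := by
    rw [MonoidHom.noncommCoprod_injective]
    refine ⟨Subgroup.subtype_injective _, Subgroup.subtype_injective _, ?_⟩
    rw [Subgroup.range_subtype, Subgroup.range_subtype, disjoint_iff, hd]
  rw [← hr, ← Nat.card_prod]
  exact (Nat.card_congr (Equiv.ofInjective _ hinj)).symm

/-- the join of two elementwise commuting abelian subgroups of exponent `p` is abelian of
exponent `p`. -/
theorem elemAb_sup (p : ℕ) (H K : Subgroup S) (hHc : IsMulCommutative H) (hKc : IsMulCommutative K)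
    (hHp : ∀ a ∈ H, a ^ p = 1) (hKp : ∀ a ∈ K, a ^ p = 1)
    (hc : ∀ h ∈ H, ∀ k ∈ K, h * k = k * h) :
    IsMulCommutative (H ⊔ K : Subgroup S) ∧ ∀ a ∈ (H ⊔ K : Subgroup S), a ^ p = 1 := by
  constructor
  · refine ⟨⟨fun a b => Subtype.ext ?_⟩⟩
    obtain ⟨h, hh, k, hk, ha⟩ := exists_mul_of_mem_sup_of_commute H K hc a.2
    obtain ⟨h', hh', k', hk', hb⟩ := exists_mul_of_mem_sup_of_commute H K hc b.2
    show (a : S) * (b : S) = (b : S) * (a : S)
    rw [ha, hb]
    have e1 := comm_of_mem_isMulCommutative hHc hh hh'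
    have e2 := comm_of_mem_isMulCommutative hKc hk hk'
    have e3 := hc h hh k' hk'
    have e4 := hc h' hh' k hk
    calc h * k * (h' * k') = h * (k * h') * k' := by group
      _ = h * (h' * k) * k' := by rw [e4]
      _ = (h * h') * (k * k') := by group
      _ = (h' * h) * (k' * k) := by rw [e1, e2]
      _ = h' * (h * k') * k := by group
      _ = h' * (k' * h) * k := by rw [e3]
      _ = h' * k' * (h * k) := by group
  · intro a ha
    obtain ⟨h, hh, k, hk, rfl⟩ := exists_mul_of_mem_sup_of_commute H K hc ha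
    have : Commute h k := hc h hh k hk
    rw [this.mul_pow, hHp h hh, hKp k hk, one_mul]

end Cfsg.Agent.Lib.Helper06
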