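import Mathlib
import Cfsg.Prelude.Def_CaseTheorems
import Cfsg.Agent.Lib.Helper26.NormalP3b
import Cfsg.Agent.S3771

set_option autoImplicit false

/-! For `p` odd and a normal `p`-subgroup `P` of a group of `p`-rank at most `2`: the subgroup
`T = Ω₁(Z₂(P))` and an elementary abelian `E ≤ T` detecting elements of order `p`. -/

namespace Cfsg.Agent.Lib.Helper06

open Cfsg.Agent.Lib.Helper26
open scoped commutatorElement

universe u

/-- `p`-rank at most `k` passes to subgroups. -/
theorem prankLE_subgroup {G : Type*} [Group G] {p k : ℕ} (hr : Cfsg.PRankLE p k G)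
    (S : Subgroup G) : Cfsg.PRankLE p k S := by
  intro A hA hexp
  have hcard : Nat.card (A.map S.subtype) = Nat.card A :=
    Subgroup.card_map_of_injective S.subtype_injective
  rw [← hcard]
  have hcomm : IsMulCommutative (A.map S.subtype) := by
    refine ⟨⟨?_⟩⟩
    rintro ⟨a, ha⟩ ⟨b, hb⟩
    obtain ⟨a', ha', rfl⟩ := Subgroup.mem_map.mp ha
    obtain ⟨b', hb', rfl⟩ := Subgroup.mem_map.mp hb
    apply Subtype.ext
    have := hA.is_comm.comm ⟨a', ha'⟩ ⟨b', hb'⟩
    have h2 := congrArg (fun w : A => ((w : S) : G)) this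
    simpa using h2
  refine hr _ hcomm ?_
  intro a ha
  obtain ⟨a', ha', rfl⟩ := Subgroup.mem_map.mp ha
  have := hexp a' ha'
  have h2 := congrArg (fun w : S => (w : G)) this
  simpa using h2

theorem exists_T {G : Type u} [Group G] [Finite G] {p : ℕ} [hp : Fact p.Prime] (hp2 : p ≠ 2)
    (hr : Cfsg.PRankLE p 2 G) (P : Subgroup G) [hPn : P.Normal] (hP : IsPGroup p P) :
    ∃ T E : Subgroup G, T.Normal ∧ E ≤ T ∧ T ≤ P ∧ (∀ x ∈ T, x ^ p = 1) ∧
      (∀ a ∈ E, ∀ b ∈ E, a * b = b * a) ∧
      (∀ x ∈ P, x ^ p = 1 → (∀ e ∈ E, x * e = e * x) → x ∈ E) := by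
  classical
  haveI : Group.IsNilpotent P := hP.isNilpotent
  -- T₀ = Ω₁(Z₂(P))
  let T₀ : Subgroup P := omegaSub (Subgroup.upperCentralSeries P 2) p (z2_hmul hp2)
  have hT₀mem : ∀ x : P, x ∈ T₀ ↔ x ∈ Subgroup.upperCentralSeries P 2 ∧ x ^ p = 1 :=
    fun x => mem_omegaSub
  haveI hT₀char : T₀.Characteristic := by
    rw [Subgroup.characteristic_iff_map_le]
    intro φ x hx
    obtain ⟨y, hy, rfl⟩ := Subgroup.mem_map.mp hx
    have hy' := (hT₀mem y).mp hy
    refine (hT₀mem _).mpr ⟨?_, ?_⟩
    · have hc : (Subgroup.upperCentralSeries P 2).Characteristic := inferInstance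
      have := (Subgroup.characteristic_iff_map_le.mp hc) φ
      exact this (Subgroup.mem_map_of_mem _ hy'.1)
    · change (φ y) ^ p = 1
      rw [← map_pow, hy'.2, map_one]
  have hTn : (T₀.map P.subtype).Normal := ConjAct.normal_of_characteristic_of_normal
  have hTexp : ∀ x ∈ T₀.map P.subtype, x ^ p = 1 := by
    intro x hx
    obtain ⟨y, hy, rfl⟩ := Subgroup.mem_map.mp hx
    have := ((hT₀mem y).mp hy).2
    have h2 := congrArg (fun w : P => (w : G)) this
    simpa using h2
  have hTP : T₀.map P.subtype ≤ P := Subgroup.map_subtype_le _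
  by_cases hcyc : IsCyclic P
  · -- cyclic case: E = T
    have hcomm : ∀ a b : P, a * b = b * a := by
      intro a b
      obtain ⟨g, hg⟩ := hcyc.exists_generator
      obtain ⟨i, rfl⟩ := Subgroup.mem_zpowers_iff.mp (hg a)
      obtain ⟨j, rfl⟩ := Subgroup.mem_zpowers_iff.mp (hg b)
      rw [← zpow_add, ← zpow_add, add_comm]
    have hall : ∀ x : P, x ∈ Subgroup.upperCentralSeries P 2 := by
      intro x
      have : x ∈ Subgroup.upperCentralSeries P (1 + 1) := by
        rw [Subgroup.mem_upperCentralSeries_succ_iff]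
        intro y
        have : ⁅x, y⁆ = 1 := by
          rw [commutatorElement_def, hcomm x y, mul_inv_cancel_right, mul_inv_cancel]
        rw [this]; exact one_mem _
      exact this
    refine ⟨T₀.map P.subtype, T₀.map P.subtype, hTn, le_rfl, hTP, hTexp, ?_, ?_⟩
    · intro a ha b hb
      obtain ⟨a', _, rfl⟩ := Subgroup.mem_map.mp ha
      obtain ⟨b', _, rfl⟩ := Subgroup.mem_map.mp hb
      have := hcomm a' b'
      have h2 := congrArg (fun w : P => (w : G)) this
      simpa using h2
    · intro x hx hxp _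
      refine Subgroup.mem_map.mpr ⟨⟨x, hx⟩, (hT₀mem _).mpr ⟨hall _, ?_⟩, rfl⟩
      exact Subtype.ext (by simpa using hxp)
  · -- non-cyclic case
    have hcyc' : ¬ IsCyclic (⊤ : Subgroup P) := by
      intro h
      exact hcyc (isCyclic_of_surjective (Subgroup.topEquiv : (⊤ : Subgroup P) ≃* P)
        Subgroup.topEquiv.surjective)
    obtain ⟨B, -, hBn, hBexp, hBcard⟩ := exists_normal_exp_p_sq hp2 hP (⊤ : Subgroup P) hcyc'
    have hBcomm : ∀ a ∈ B, ∀ b ∈ B, a * b = b * a := by
      intro a ha b hb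
      have := IsPGroup.commutative_of_card_eq_prime_sq (p := p) (G := B) hBcard
      have h1 := this ⟨a, ha⟩ ⟨b, hb⟩
      have h2 := congrArg (fun w : B => (w : P)) h1
      simpa using h2
    -- B ≤ Z₂(P)
    have hp1 : 1 < p := hp.out.one_lt
    have hBbot : (⊥ : Subgroup P) ≠ B := by
      intro h
      rw [← h] at hBcard
      simp at hBcard
      have : 1 < p ^ 2 := Nat.one_lt_pow (by norm_num) hp1
      omega
    obtain ⟨B₁, hB₁n, -, hB₁B, hB₁card, hB₁cen⟩ :=
      exists_normal_step_central (p := p) B ⊥ (hP.to_subgroup B) bot_le hBbot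
    have hB₁card' : Nat.card B₁ = p := by simpa using hB₁card
    have hB₁ne : B₁ ≠ B := by
      intro h
      rw [h, hBcard] at hB₁card'
      have : p ^ 2 = p ^ 1 := by rw [pow_one]; exact hB₁card'
      have := Nat.pow_right_injective hp.out.two_le this
      omega
    obtain ⟨B₂, hB₂n, -, hB₂B, hB₂card, hB₂cen⟩ :=
      exists_normal_step_central (p := p) B B₁ (hP.to_subgroup B) hB₁B hB₁ne
    have hB₂eq : B₂ = B := by
      apply Subgroup.eq_of_le_of_card_ge hB₂B
      rw [hB₂card, hB₁card', hBcard, sq]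
    have hB₁center : B₁ ≤ Subgroup.center P := by
      intro n hn
      rw [Subgroup.mem_center_iff]
      intro g
      have := hB₁cen n hn g
      rw [Subgroup.mem_bot] at this
      have h3 : g * n = (g * n * g⁻¹ * n⁻¹) * n * g := by group
      rw [h3, this, one_mul]
    have hBZ2 : B ≤ Subgroup.upperCentralSeries P 2 := by
      intro n hn
      have : n ∈ Subgroup.upperCentralSeries P (1 + 1) := by
        rw [Subgroup.mem_upperCentralSeries_succ_iff]
        intro y
        rw [Subgroup.upperCentralSeries_one]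
        have h1 := hB₁center (hB₂cen n (hB₂eq ▸ hn) y)
        have h2 : ⁅n, y⁆ = (y * n * y⁻¹ * n⁻¹)⁻¹ := by
          rw [commutatorElement_def]; group
        rw [h2]; exact inv_mem h1
      exact this
    have hBT₀ : B ≤ T₀ := fun n hn => (hT₀mem n).mpr ⟨hBZ2 hn, hBexp n hn⟩
    set E : Subgroup G := B.map P.subtype with hE
    have hEcard : Nat.card E = p ^ 2 := by
      rw [hE, Subgroup.card_map_of_injective P.subtype_injective, hBcard]
    have hEcomm : ∀ a ∈ E, ∀ b ∈ E, a * b = b * a := by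
      intro a ha b hb
      obtain ⟨a', ha', rfl⟩ := Subgroup.mem_map.mp ha
      obtain ⟨b', hb', rfl⟩ := Subgroup.mem_map.mp hb
      have := hBcomm a' ha' b' hb'
      have h2 := congrArg (fun w : P => (w : G)) this
      simpa using h2
    have hEexp : ∀ a ∈ E, a ^ p = 1 := by
      intro a ha
      obtain ⟨a', ha', rfl⟩ := Subgroup.mem_map.mp ha
      have := hBexp a' ha'
      have h2 := congrArg (fun w : P => (w : G)) this
      simpa using h2
    refine ⟨T₀.map P.subtype, E, hTn, Subgroup.map_mono hBT₀, hTP, hTexp, hEcomm, ?_⟩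
    intro x _ hxp hxE
    -- A = E ⊔ ⟨x⟩ is elementary abelian
    have hZcomm : ∀ a ∈ Subgroup.zpowers x, ∀ b ∈ Subgroup.zpowers x, a * b = b * a := by
      intro a ha b hb
      obtain ⟨i, rfl⟩ := Subgroup.mem_zpowers_iff.mp ha
      obtain ⟨j, rfl⟩ := Subgroup.mem_zpowers_iff.mp hb
      rw [← zpow_add, ← zpow_add, add_comm]
    have hZexp : ∀ a ∈ Subgroup.zpowers x, a ^ p = 1 := by
      intro a ha
      obtain ⟨i, rfl⟩ := Subgroup.mem_zpowers_iff.mp ha
      rw [← zpow_natCast, ← zpow_mul, mul_comm, zpow_mul, zpow_natCast, hxp, one_zpow]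
    have hEZ : ∀ a ∈ E, ∀ b ∈ Subgroup.zpowers x, a * b = b * a := by
      intro a ha b hb
      obtain ⟨i, rfl⟩ := Subgroup.mem_zpowers_iff.mp hb
      have hc : Commute x a := hxE a ha
      exact (hc.zpow_left i).symm.eq
    have hAcomm := comm_sup E (Subgroup.zpowers x) hEcomm hZcomm hEZ
    have hAexp := exp_sup p E (Subgroup.zpowers x) hEcomm hZcomm hEZ hEexp hZexp
    have hAinst : IsMulCommutative (E ⊔ Subgroup.zpowers x : Subgroup G) :=
      ⟨⟨fun a b => Subtype.ext (hAcomm a a.2 b b.2)⟩⟩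
    have hAcard : Nat.card (E ⊔ Subgroup.zpowers x : Subgroup G) ≤ p ^ 2 :=
      hr _ hAinst hAexp
    have hEA : E = E ⊔ Subgroup.zpowers x :=
      Subgroup.eq_of_le_of_card_ge le_sup_left (by rw [hEcard]; exact hAcard)
    rw [hEA]
    exact (le_sup_right : Subgroup.zpowers x ≤ _) (Subgroup.mem_zpowers x)

/-- a group of exponent `p` and `p`-rank at most 2 inside `G` has order at most `p³`. -/
theorem card_le_of_exp {G : Type u} [Group G] [Finite G] {p : ℕ} [hp : Fact p.Prime]
    (hr : Cfsg.PRankLE p 2 G) (T : Subgroup G) (hexp : ∀ x ∈ T, x ^ p = 1) :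
    Nat.card T ≤ p ^ 3 := by
  have hTp : IsPGroup p T := by
    intro x
    refine ⟨1, ?_⟩
    rw [pow_one]
    exact Subtype.ext (by simpa using hexp x x.2)
  refine Cfsg.Agent.S3771.result hTp (prankLE_subgroup hr T) ?_
  intro x
  exact Subtype.ext (by simpa using hexp x x.2)

end Cfsg.Agent.Lib.Helper06
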