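import Mathlib

set_option autoImplicit false

namespace Cfsg.Agent.Lib.Helper06

theorem exists_index_two_of_isCyclic_even (C : Type*) [Group C] [Finite C] [IsCyclic C]
    (h : Even (Nat.card C)) : ∃ Q : Subgroup C, Q.index = 2 := by
  obtain ⟨g, hg⟩ := IsCyclic.exists_generator (α := C)
  have hord : orderOf g = Nat.card C := orderOf_eq_card_of_forall_mem_zpowers hg
  have h2 : 2 ∣ Nat.card C := even_iff_two_dvd.mp h
  refine ⟨Subgroup.zpowers (g ^ 2), ?_⟩
  have h1 : Nat.card (Subgroup.zpowers (g ^ 2)) = Nat.card C / 2 := by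
    rw [Nat.card_zpowers, orderOf_pow_of_dvd two_ne_zero (hord ▸ h2), hord]
  have h3 := Subgroup.card_mul_index (Subgroup.zpowers (g ^ 2))
  rw [h1] at h3
  obtain ⟨m, hm⟩ := h2
  have hpos : 0 < Nat.card C := Nat.card_pos
  rw [hm] at h3 hpos
  rw [Nat.mul_div_cancel_left m (by norm_num : 0 < 2)] at h3
  have hm0 : 0 < m := by omega
  have : m * (Subgroup.zpowers (g ^ 2)).index = m * 2 := by rw [h3, mul_comm]
  exact Nat.eq_of_mul_eq_mul_left hm0 this

theorem exists_index_two_of_cyclic_sylow {G : Type*} [Group G] [Finite G]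
    (heven : Even (Nat.card G)) (T : Sylow 2 G) (hT : IsCyclic (T : Subgroup G)) :
    ∃ H : Subgroup G, H.index = 2 := by
  have h2 : 2 ∣ Nat.card G := even_iff_two_dvd.mp heven
  have hmin : (Nat.card G).minFac = 2 := (Nat.minFac_eq_two_iff _).mpr h2
  have : Fact (Nat.Prime 2) := ⟨Nat.prime_two⟩
  have hNC := IsCyclic.normalizer_le_centralizer hmin hT
  have hcompl := MonoidHom.ker_transferSylow_isComplement' T hNC
  set f := MonoidHom.transferSylow T hNC with hf
  have hidx : f.ker.index = Nat.card (T : Subgroup G) := hcompl.symm.index_eq_card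
  have hrange : Nat.card f.range = Nat.card (T : Subgroup G) := by
    rw [← Subgroup.index_ker, hidx]
  have htop : f.range = ⊤ := Subgroup.eq_top_of_card_eq _ hrange
  have hsurj : Function.Surjective f := MonoidHom.range_eq_top.mp htop
  have hTeven : Even (Nat.card (T : Subgroup G)) :=
    even_iff_two_dvd.mpr (T.dvd_card_of_dvd_card h2)
  have := hT
  obtain ⟨Q, hQ⟩ := exists_index_two_of_isCyclic_even (T : Subgroup G) hTeven
  exact ⟨Q.comap f, by rw [Subgroup.index_comap_of_surjective Q hsurj, hQ]⟩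

end Cfsg.Agent.Lib.Helper06
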