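import Mathlib

set_option autoImplicit false

namespace Cfsg.Agent.Lib.Helper06

open Nat in
/-- a simple group with a proper subgroup of index `k` has order at most `k!`. -/
theorem card_le_factorial_index {G : Type*} [Group G] [Finite G] [IsSimpleGroup G]
    (H : Subgroup G) (hH : H ≠ ⊤) : Nat.card G ≤ (H.index)! := by
  have hker : (MulAction.toPermHom G (G ⧸ H)).ker = ⊥ := by
    have hn : (MulAction.toPermHom G (G ⧸ H)).ker.Normal := MonoidHom.normal_ker _
    rcases hn.eq_bot_or_eq_top with h | h
    · exact h
    · exfalso
      apply hH
      rw [eq_top_iff, ← h, ← Subgroup.normalCore_eq_ker]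
      exact Subgroup.normalCore_le H
  have hinj : Function.Injective (MulAction.toPermHom G (G ⧸ H)) :=
    (MonoidHom.ker_eq_bot_iff _).mp hker
  have h1 := Nat.card_le_card_of_injective _ hinj
  rw [Nat.card_perm, ← Subgroup.index_eq_card] at h1
  exact h1

/-- a simple group with a subgroup of index two has order two. -/
theorem card_eq_two_of_index_two {G : Type*} [Group G] [Finite G] [IsSimpleGroup G]
    (H : Subgroup G) (hH : H.index = 2) : Nat.card G = 2 := by
  have hn : H.Normal := Subgroup.normal_of_index_eq_two hH
  rcases hn.eq_bot_or_eq_top with h | h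
  · rw [h, Subgroup.index_bot] at hH
    exact hH
  · rw [h, Subgroup.index_top] at hH
    norm_num at hH

end Cfsg.Agent.Lib.Helper06
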