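import Mathlib
import Cfsg.Agent.Lib.Helper06.SylowAux
import Cfsg.Agent.Lib.Helper06.SimpleAux
import Cfsg.Agent.Lib.Helper06.IndexTwo

set_option autoImplicit false

namespace Cfsg.Agent.Lib.Helper06

section SS

variable {G : Type*} [Group G] [Finite G]

/-- a simple `p`-group has order `p`. -/
theorem simple_pgroup_card [IsSimpleGroup G] {p : ℕ} [Fact p.Prime] (hp : IsPGroup p G) :
    Nat.card G = p := by
  have hcn : Nontrivial (Subgroup.center G) := hp.center_nontrivial
  have hcp : IsPGroup p (Subgroup.center G) := hp.to_subgroup _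
  have hdvd : p ∣ Nat.card (Subgroup.center G) := by
    obtain ⟨n, hn⟩ := IsPGroup.iff_card.mp hcp
    rcases n with _ | n
    · rw [pow_zero] at hn
      have := (Nat.card_eq_one_iff_unique.mp hn).1
      exact absurd hcn (not_nontrivial _)
    · rw [hn, pow_succ]; exact dvd_mul_left p _
  obtain ⟨z, hz⟩ := exists_prime_orderOf_dvd_card' p hdvd
  have hzord : orderOf (z : G) = p := by rw [Subgroup.orderOf_coe, hz]
  have hzc : ∀ c : G, c * (z : G) = (z : G) * c := fun c => Subgroup.mem_center_iff.mp z.2 c
  have hnorm : (Subgroup.zpowers (z : G)).Normal := zpowers_normal_of_central _ hzc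
  rcases hnorm.eq_bot_or_eq_top with h | h
  · exfalso
    have : (z : G) ∈ Subgroup.zpowers (z : G) := Subgroup.mem_zpowers _
    rw [h, Subgroup.mem_bot] at this
    rw [this, orderOf_one] at hzord
    exact (Fact.out : p.Prime).one_lt.ne hzord
  · rw [← Subgroup.card_top (G := G), ← h, Nat.card_zpowers, hzord]

/-- in a simple group, a nontrivial proper Sylow subgroup is not unique and the group
embeds in the symmetric group on the Sylow subgroups. -/
theorem simple_sylow [IsSimpleGroup G] {p : ℕ} [Fact p.Prime] (P : Sylow p G)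
    (h1 : 1 < Nat.card (P : Subgroup G)) (h2 : Nat.card (P : Subgroup G) < Nat.card G) :
    1 < Nat.card (Sylow p G) ∧ Nat.card G ≤ Nat.factorial (Nat.card (Sylow p G)) := by
  have hne : Subgroup.normalizer ((P : Subgroup G) : Set G) ≠ ⊤ := by
    intro htop
    have hn : (P : Subgroup G).Normal := Subgroup.normalizer_eq_top_iff.mp htop
    rcases hn.eq_bot_or_eq_top with h | h
    · rw [h, Subgroup.card_bot] at h1
      omega
    · rw [h, Subgroup.card_top] at h2
      omega
  have hidx : Nat.card (Sylow p G) = (Subgroup.normalizer ((P : Subgroup G) : Set G)).index :=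
    P.card_eq_index_normalizer
  constructor
  · have hpos : 0 < Nat.card (Sylow p G) := Nat.card_pos
    have hne1 : Nat.card (Sylow p G) ≠ 1 := by
      rw [hidx]
      intro h
      exact hne (Subgroup.index_eq_one.mp h)
    omega
  · rw [hidx]
    exact card_le_factorial_index _ hne

/-- lower bound for the number of elements of order `p` when Sylow subgroups have order `p`. -/
theorem card_orderOf_ge {p : ℕ} [Fact p.Prime]
    (hcard : ∀ P : Sylow p G, Nat.card (P : Subgroup G) = p) :
    Nat.card (Sylow p G) * (p - 1) ≤ Nat.card {g : G // orderOf g = p} := by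
  classical
  have : Fintype (Sylow p G) := Fintype.ofFinite _
  have hp : p.Prime := Fact.out
  have hfib : ∀ P : Sylow p G, Nat.card {g : (P : Subgroup G) // g ≠ 1} = p - 1 := by
    intro P
    have h2 : Nat.card {g : (P : Subgroup G) // g ≠ 1} + 1 = p := by
      rw [← Finite.card_option]
      exact (Nat.card_congr (Equiv.optionSubtypeNe _)).trans (hcard P)
    omega
  have hsig : Nat.card (Σ P : Sylow p G, {g : (P : Subgroup G) // g ≠ 1}) =
      Nat.card (Sylow p G) * (p - 1) := by
    rw [Nat.card_sigma, Finset.sum_congr rfl (fun P _ => hfib P), Finset.sum_const,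
      Finset.card_univ, smul_eq_mul, Nat.card_eq_fintype_card]
  rw [← hsig]
  have hord : ∀ (P : Sylow p G) (g : {g : (P : Subgroup G) // g ≠ 1}),
      orderOf ((g.1 : (P : Subgroup G)) : G) = p := by
    intro P g
    have hdvd : orderOf ((g.1 : (P : Subgroup G)) : G) ∣ p := by
      have h := Subgroup.orderOf_dvd_natCard (P : Subgroup G) g.1.2
      rwa [hcard P] at h
    rcases (Nat.dvd_prime hp).mp hdvd with h | h
    · exfalso
      apply g.2
      apply Subtype.ext
      exact orderOf_eq_one_iff.mp h
    · exact h
  apply Nat.card_le_card_of_injective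
    (fun s : (Σ P : Sylow p G, {g : (P : Subgroup G) // g ≠ 1}) =>
      (⟨((s.2.1 : (s.1 : Subgroup G)) : G), hord s.1 s.2⟩ : {g : G // orderOf g = p}))
  rintro ⟨P, g⟩ ⟨P', g'⟩ h
  have hx : ((g.1 : (P : Subgroup G)) : G) = ((g'.1 : (P' : Subgroup G)) : G) :=
    congrArg Subtype.val h
  have hz : ∀ (R : Sylow p G) (x : G), x ∈ R → orderOf x = p →
      Subgroup.zpowers x = (R : Subgroup G) := by
    intro R x hxR hxo
    apply Subgroup.eq_of_le_of_card_ge (Subgroup.zpowers_le.mpr hxR)
    rw [Nat.card_zpowers, hxo, hcard R]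
  have hPP : P = P' := by
    apply Sylow.ext
    rw [← hz P _ g.1.2 (hord P g), hx, hz P' _ g'.1.2 (hord P' g')]
  subst hPP
  congr 1
  apply Subtype.ext
  apply Subtype.ext
  exact hx

/-- a group of order `2 * odd` has a subgroup of index two. -/
theorem exists_index_two_of_two_mul_odd (j : ℕ) (hj : Odd j) (hN : Nat.card G = 2 * j) :
    ∃ H : Subgroup G, H.index = 2 := by
  have : Fact (Nat.Prime 2) := ⟨Nat.prime_two⟩
  obtain ⟨P⟩ : Nonempty (Sylow 2 G) := inferInstance
  have hjpos : j ≠ 0 := by
    rintro rfl
    exact (Nat.not_odd_iff_even.mpr (by decide : Even 0)) hj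
  have hPcard : Nat.card (P : Subgroup G) = 2 := by
    have h1 := P.card_eq_multiplicity
    have h2' : (Nat.card G).factorization 2 = 1 := by
      rw [hN, Nat.factorization_mul (by norm_num) hjpos]
      have h3 : j.factorization 2 = 0 := by
        apply Nat.factorization_eq_zero_of_not_dvd
        rw [← even_iff_two_dvd]
        exact Nat.not_even_iff_odd.mpr hj
      simp [h3, Nat.Prime.factorization_self Nat.prime_two]
    rw [h1, h2', pow_one]
  have hPcyc : IsCyclic (P : Subgroup G) := isCyclic_of_prime_card hPcard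
  have heven : Even (Nat.card G) := by rw [hN]; exact even_two_mul j
  exact exists_index_two_of_cyclic_sylow heven P hPcyc

end SS

end Cfsg.Agent.Lib.Helper06
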