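import Mathlib
import Cfsg.Agent.S0215
import Cfsg.Agent.Lib.Helper27.ZStarWeak

set_option autoImplicit false
set_option linter.style.haveILetI false

/-! Abelian Sylow `2`-subgroups and the `Z*`-theorem.

* `exists_decomp`: in an abelian Sylow `2`-subgroup `S`, every element `a` is a product `y * c`
  with `y` fixed by `N(S)` and `c` a product of commutators `a⁻¹ (n a n⁻¹)`, `n ∈ N(S)`
  (averaging over an odd complement of `S` in `N(S)`).
* `central_of_normalizer_fixed`: if `O(X) = 1`, an element of an abelian Sylow `2`-subgroup `S`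
  that is fixed by `N(S)` is central (Burnside fusion + `Z*`).
-/

namespace Cfsg.Agent.Lib.Helper06.AbelSylowZ

open Cfsg

universe u

/-- The `Z*`-theorem (S0215) in the hypothesis form of `Helper27`. -/
theorem zstarHyp (G : Type u) [Group G] [Finite G] : Cfsg.Agent.Lib.Helper27.ZStarHyp G :=
  fun P u hu huP hiso => Cfsg.Agent.S0215.result P u hu huP hiso

section decomp

variable {X : Type*} [Group X] [Finite X]

/-- Averaging over an odd complement of an abelian Sylow `2`-subgroup in its normalizer. -/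
theorem exists_decomp (S : Sylow 2 X)
    (hS : ∀ a ∈ (S : Subgroup X), ∀ b ∈ (S : Subgroup X), a * b = b * a)
    (a : X) (ha : a ∈ (S : Subgroup X)) (J : Subgroup X)
    (hJ : ∀ n ∈ Subgroup.normalizer ((S : Subgroup X) : Set X), a⁻¹ * (n * a * n⁻¹) ∈ J) :
    ∃ y c : X, y ∈ (S : Subgroup X) ∧ c ∈ (S : Subgroup X) ∧ c ∈ J ∧ a = y * c ∧
      ∀ n ∈ Subgroup.normalizer ((S : Subgroup X) : Set X), n * y * n⁻¹ = y := by
  classical
  haveI : Fact (Nat.Prime 2) := ⟨Nat.prime_two⟩
  set N : Subgroup X := Subgroup.normalizer ((S : Subgroup X) : Set X) with hNdef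
  have hSN : (S : Subgroup X) ≤ N := Subgroup.le_normalizer
  -- the Sylow subgroup inside its normalizer
  let SN : Subgroup ↥N := (S : Subgroup X).subgroupOf N
  haveI hSNn : SN.Normal := Subgroup.normal_in_normalizer
  -- coprimality
  obtain ⟨e, he⟩ := IsPGroup.exists_card_eq S.2
  have hcardSN : Nat.card SN = 2 ^ e := by
    rw [← he]
    exact Nat.card_congr (Subgroup.subgroupOfEquivOfLe hSN).toEquiv
  have hidx : SN.index = (S : Subgroup X).relIndex N := rfl
  have hodd : ¬ 2 ∣ SN.index := by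
    rw [hidx]
    intro h2
    have h3 : (S : Subgroup X).relIndex N ∣ (S : Subgroup X).index :=
      Dvd.intro _ (Subgroup.relIndex_mul_index hSN)
    exact S.not_dvd_index (dvd_trans h2 h3)
  have hcop : (Nat.card SN).Coprime SN.index := by
    rw [hcardSN]
    exact Nat.Coprime.pow_left _ ((Nat.prime_two.coprime_iff_not_dvd).mpr hodd)
  obtain ⟨K, hK⟩ := Subgroup.exists_right_complement'_of_coprime hcop
  have hKcard : SN.index = Nat.card K := hK.symm.index_eq_card
  set m : ℕ := Nat.card K with hm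
  have hmodd : ¬ 2 ∣ m := by rw [← hKcard]; exact hodd
  -- commutative group structure on `S`
  letI : CommGroup ↥(S : Subgroup X) :=
    { (inferInstance : Group ↥(S : Subgroup X)) with
      mul_comm := fun x y => Subtype.ext (hS x x.2 y y.2) }
  -- conjugation by an element of the normalizer
  have hcj_mem : ∀ n : ↥N, ∀ s : ↥(S : Subgroup X), (n : X) * s * (n : X)⁻¹ ∈ (S : Subgroup X) :=
    fun n s => (Subgroup.mem_normalizer_iff.mp n.2 s).mp s.2
  let cj : ↥N → ↥(S : Subgroup X) →* ↥(S : Subgroup X) := fun n =>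
    { toFun := fun s => ⟨(n : X) * s * (n : X)⁻¹, hcj_mem n s⟩
      map_one' := by
        apply Subtype.ext
        simp
      map_mul' := by
        intro s t
        apply Subtype.ext
        simp only [Subgroup.coe_mul]
        group }
  have hcj_coe : ∀ (n : ↥N) (s : ↥(S : Subgroup X)), ((cj n s : ↥(S : Subgroup X)) : X)
      = (n : X) * s * (n : X)⁻¹ := fun n s => rfl
  have hcj_mul : ∀ (n n' : ↥N) (s : ↥(S : Subgroup X)), cj (n * n') s = cj n (cj n' s) := by
    intro n n' s
    apply Subtype.ext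
    rw [hcj_coe, hcj_coe, hcj_coe]
    simp only [Subgroup.coe_mul]
    group
  set u : ↥(S : Subgroup X) := ⟨a, ha⟩ with hu
  haveI : Fintype ↥K := Fintype.ofFinite _
  let f : ↥K → ↥(S : Subgroup X) := fun k => cj (k : ↥N) u
  set π : ↥(S : Subgroup X) := ∏ k : ↥K, f k with hπ
  -- invariance under `K`
  have hπK : ∀ k' : ↥K, cj (k' : ↥N) π = π := by
    intro k'
    rw [hπ, map_prod]
    have : ∀ k : ↥K, cj (k' : ↥N) (f k) = f (k' * k) := by
      intro k
      show cj (k' : ↥N) (cj (k : ↥N) u) = cj ((k' * k : ↥K) : ↥N) u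
      rw [Subgroup.coe_mul, hcj_mul]
    simp_rw [this]
    exact Equiv.prod_comp (Equiv.mulLeft k') f
  -- invariance under `S`
  have hπS : ∀ n : ↥N, n ∈ SN → ∀ s : ↥(S : Subgroup X), cj n s = s := by
    intro n hn s
    apply Subtype.ext
    rw [hcj_coe]
    have hnS : (n : X) ∈ (S : Subgroup X) := Subgroup.mem_subgroupOf.mp hn
    rw [hS _ hnS _ s.2]
    group
  -- invariance under all of `N`
  have hπN : ∀ n : ↥N, cj n π = π := by
    intro n
    have hbij := (Subgroup.isComplement'_def.mp hK)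
    obtain ⟨⟨s, k⟩, hsk⟩ := hbij.2 n
    have hsk' : (s : ↥N) * (k : ↥N) = n := hsk
    rw [← hsk', hcj_mul, hπK k, hπS (s : ↥N) s.2]
  -- the product formula
  set D : ↥(S : Subgroup X) := ∏ k : ↥K, (u⁻¹ * f k) with hD
  have hπD : π = u ^ m * D := by
    rw [hπ, hD, Finset.prod_mul_distrib, Finset.prod_const, Finset.card_univ,
      ← Nat.card_eq_fintype_card, ← mul_assoc, ← hm]
    have : u ^ m * (u⁻¹) ^ m = 1 := by rw [← mul_pow]; simp
    rw [this, one_mul]
  -- `D` lies in `J`
  have hDJ : D ∈ J.subgroupOf (S : Subgroup X) := by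
    rw [hD]
    apply Subgroup.prod_mem
    intro k _
    rw [Subgroup.mem_subgroupOf]
    have := hJ ((k : ↥N) : X) (k : ↥N).2
    simpa [f, hcj_coe, hu] using this
  -- a power of `u ^ m` is `u`
  obtain ⟨j, hj⟩ := (IsPGroup.iff_orderOf.mp S.2) u
  have hcop2 : m.Coprime (orderOf u) := by
    rw [hj]
    exact Nat.Coprime.pow_right _ ((Nat.coprime_comm.mp
      ((Nat.prime_two.coprime_iff_not_dvd).mpr hmodd)))
  obtain ⟨t, ht⟩ := exists_pow_eq_self_of_coprime hcop2
  have hum : u ^ m = π * D⁻¹ := by rw [hπD]; simp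
  refine ⟨((π ^ t : ↥(S : Subgroup X)) : X), (((D ^ t)⁻¹ : ↥(S : Subgroup X)) : X),
    (π ^ t).2, ((D ^ t)⁻¹).2, ?_, ?_, ?_⟩
  · have : (D ^ t)⁻¹ ∈ J.subgroupOf (S : Subgroup X) :=
      Subgroup.inv_mem _ (Subgroup.pow_mem _ hDJ t)
    exact Subgroup.mem_subgroupOf.mp this
  · have h1 : u = π ^ t * (D ^ t)⁻¹ := by
      rw [← ht, hum, mul_pow, inv_pow]
    have h2 : (u : X) = ((π ^ t * (D ^ t)⁻¹ : ↥(S : Subgroup X)) : X) := congrArg Subtype.val h1
    rw [Subgroup.coe_mul] at h2
    exact h2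
  · intro n hn
    have h1 : cj ⟨n, hn⟩ (π ^ t) = π ^ t := by
      rw [map_pow, hπN]
    have h2 := congrArg Subtype.val h1
    rw [hcj_coe] at h2
    exact h2

end decomp

section central

variable {X : Type u} [Group X] [Finite X]

/-- With `O(X) = 1`, an element of an abelian Sylow `2`-subgroup fixed by the normalizer of the
Sylow subgroup is central. -/
theorem central_of_normalizer_fixed (hO : Cfsg.oddCore X = ⊥) (S : Sylow 2 X)
    (hS : ∀ a ∈ (S : Subgroup X), ∀ b ∈ (S : Subgroup X), a * b = b * a)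
    (y : X) (hy : y ∈ (S : Subgroup X))
    (hN : ∀ n ∈ Subgroup.normalizer ((S : Subgroup X) : Set X), n * y * n⁻¹ = y) :
    ∀ g : X, y * g = g * y := by
  haveI : Fact (Nat.Prime 2) := ⟨Nat.prime_two⟩
  have hAS : Subgroup.zpowers y ≤ (S : Subgroup X) := by
    rw [Subgroup.zpowers_le]; exact hy
  -- elements of `⟨y⟩` are fixed by the normalizer
  have hfix : ∀ b ∈ Subgroup.zpowers y, ∀ n ∈ Subgroup.normalizer ((S : Subgroup X) : Set X),
      n * b * n⁻¹ = b := by
    intro b hb n hn
    obtain ⟨i, rfl⟩ := Subgroup.mem_zpowers_iff.mp hb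
    have : n * y ^ i * n⁻¹ = (n * y * n⁻¹) ^ i := by
      rw [conj_zpow]
    rw [this, hN n hn]
  -- Burnside fusion: conjugates inside `S` of elements of `⟨y⟩` are trivial conjugates
  have hfus : ∀ b ∈ Subgroup.zpowers y, ∀ g : X, g * b * g⁻¹ ∈ (S : Subgroup X) →
      g * b * g⁻¹ = b := by
    intro b hb g hg
    have hbS : b ∈ (S : Subgroup X) := hAS hb
    have hbc : b ∈ Subgroup.centralizer ((S : Subgroup X) : Set X) := by
      rw [Subgroup.mem_centralizer_iff]
      intro s hs
      exact hS s hs b hbS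
    have hgc : (g⁻¹)⁻¹ * b * g⁻¹ ∈ Subgroup.centralizer ((S : Subgroup X) : Set X) := by
      rw [inv_inv, Subgroup.mem_centralizer_iff]
      intro s hs
      exact hS s hs _ hg
    obtain ⟨n, hn, hconj⟩ := Sylow.conj_eq_normalizer_conj_of_mem_centralizer S b g⁻¹ hbc hgc
    rw [inv_inv] at hconj
    rw [hconj]
    have hn' : n⁻¹ ∈ Subgroup.normalizer ((S : Subgroup X) : Set X) := Subgroup.inv_mem _ hn
    have := hfix b hb n⁻¹ hn'
    rw [inv_inv] at this
    exact this
  have hW : Cfsg.Agent.Lib.Helper27.WCC S (Subgroup.zpowers y) := by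
    refine ⟨hAS, fun a ha s hs => hS a (hAS ha) s hs, ?_⟩
    intro B hB
    refine ⟨le_trans hB hAS, ?_⟩
    intro g hg
    apply le_antisymm
    · rintro _ ⟨b, hb, rfl⟩
      have h1 : g * b * g⁻¹ ∈ (S : Subgroup X) := hg ⟨b, hb, rfl⟩
      have h2 := hfus b (hB hb) g h1
      show (MulAut.conj g).toMonoidHom b ∈ B
      have : (MulAut.conj g).toMonoidHom b = g * b * g⁻¹ := by simp [MulAut.conj_apply]
      rw [this, h2]
      exact hb
    · intro b hb
      have h1 : g * b * g⁻¹ ∈ (S : Subgroup X) := hg ⟨b, hb, rfl⟩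
      have h2 := hfus b (hB hb) g h1
      refine ⟨b, hb, ?_⟩
      show (MulAut.conj g).toMonoidHom b = b
      have : (MulAut.conj g).toMonoidHom b = g * b * g⁻¹ := by simp [MulAut.conj_apply]
      rw [this, h2]
  intro g
  have h1 := Cfsg.Agent.Lib.Helper27.wcc_commutator (fun G _ _ => zstarHyp G) S
    (Subgroup.zpowers y) hW y (Subgroup.mem_zpowers y) g
  rw [hO, Subgroup.mem_bot] at h1
  calc y * g = (y * g * y⁻¹ * g⁻¹) * (g * y) := by group
    _ = g * y := by rw [h1, one_mul]

end central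

end Cfsg.Agent.Lib.Helper06.AbelSylowZ
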