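import Mathlib
import Cfsg.Agent.Lib.Helper06.AbelSylowZ

set_option autoImplicit false
set_option linter.style.haveILetI false

/-! A `2`-power order automorphism of a finite group `G` with `O(G) = 1` that fixes an abelian
Sylow `2`-subgroup pointwise is inner (a consequence of Glauberman's `Z*`-theorem). -/

namespace Cfsg.Agent.Lib.Helper06.AbelSylowInner

open Cfsg Cfsg.Agent.Lib.Helper06.AbelSylowZ

universe u

variable {G : Type u} [Group G]

/-- The automorphisms fixing a subgroup pointwise. -/
def fixer (P : Subgroup G) : Subgroup (MulAut G) where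
  carrier := {β | ∀ x ∈ P, β x = x}
  mul_mem' := by
    intro β γ hβ hγ x hx
    show β (γ x) = x
    rw [hγ x hx, hβ x hx]
  one_mem' := fun x _ => rfl
  inv_mem' := by
    intro β hβ x hx
    have h1 : β⁻¹ (β x) = x := by
      show (β⁻¹ * β) x = x
      simp
    rw [hβ x hx] at h1
    exact h1

theorem inner_of_fixes_abelian_sylow [Finite G]
    (hcore : Cfsg.pPrimeCore 2 G = ⊥) (P : Sylow 2 G)
    (hab : ∀ a ∈ (P : Subgroup G), ∀ b ∈ (P : Subgroup G), a * b = b * a)
    (α : MulAut G) (h2 : ∃ j : ℕ, orderOf α = 2 ^ j) (hfix : ∀ x ∈ (P : Subgroup G), α x = x) :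
    ∃ g : G, ∀ x : G, α x = g * x * g⁻¹ := by
  classical
  haveI : Fact (Nat.Prime 2) := ⟨Nat.prime_two⟩
  obtain ⟨j, hj⟩ := h2
  -- the cyclic group generated by `α`
  let C : Subgroup (MulAut G) := Subgroup.zpowers α
  have hCcard : Nat.card C = 2 ^ j := by
    rw [← hj]; exact Nat.card_zpowers α
  haveI hCfin : Finite C := Nat.finite_of_card_ne_zero (by rw [hCcard]; positivity)
  have hCfix : ∀ c : C, ∀ x ∈ (P : Subgroup G), (c : MulAut G) x = x := by
    intro c x hx
    have h1 : C ≤ fixer (P : Subgroup G) := by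
      rw [Subgroup.zpowers_le]
      exact hfix
    exact h1 c.2 x hx
  have hCcomm : ∀ c d : C, c * d = d * c := by
    intro c d
    obtain ⟨i, hi⟩ := Subgroup.mem_zpowers_iff.mp c.2
    obtain ⟨k, hk⟩ := Subgroup.mem_zpowers_iff.mp d.2
    apply Subtype.ext
    rw [Subgroup.coe_mul, Subgroup.coe_mul, ← hi, ← hk]
    exact (Commute.zpow_zpow_self α i k).eq
  -- the semidirect product
  let φ : C →* MulAut G := C.subtype
  let X := G ⋊[φ] C
  haveI : Finite X := Finite.of_equiv (G × C) SemidirectProduct.equivProd.symm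
  have hφ : ∀ (c : C) (x : G), x ∈ (P : Subgroup G) → φ c x = x := fun c x hx => hCfix c x hx
  -- the Sylow subgroup `P × C`
  let S₀ : Subgroup X :=
    { carrier := {x | x.left ∈ (P : Subgroup G)}
      mul_mem' := by
        intro x y hx hy
        show (x * y).left ∈ (P : Subgroup G)
        rw [SemidirectProduct.mul_left, hφ _ _ hy]
        exact Subgroup.mul_mem _ hx hy
      one_mem' := by
        show (1 : X).left ∈ (P : Subgroup G)
        rw [SemidirectProduct.one_left]
        exact Subgroup.one_mem _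
      inv_mem' := by
        intro x hx
        show (x⁻¹).left ∈ (P : Subgroup G)
        rw [SemidirectProduct.inv_left, hφ _ _ (Subgroup.inv_mem _ hx)]
        exact Subgroup.inv_mem _ hx }
  have hS₀mem : ∀ x : X, x ∈ S₀ ↔ x.left ∈ (P : Subgroup G) := fun x => Iff.rfl
  have hS₀comm : ∀ x ∈ S₀, ∀ y ∈ S₀, x * y = y * x := by
    intro x hx y hy
    refine SemidirectProduct.ext ?_ ?_
    · rw [SemidirectProduct.mul_left, SemidirectProduct.mul_left, hφ _ _ hy, hφ _ _ hx]
      exact hab _ hx _ hy
    · rw [SemidirectProduct.mul_right, SemidirectProduct.mul_right]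
      exact hCcomm x.right y.right
  have hS₀card : Nat.card S₀ = Nat.card (P : Subgroup G) * Nat.card C := by
    rw [← Nat.card_prod]
    apply Nat.card_congr
    exact
      { toFun := fun x => (⟨x.1.left, x.2⟩, x.1.right)
        invFun := fun pc => ⟨⟨pc.1.1, pc.2⟩, pc.1.2⟩
        left_inv := fun x => by
          apply Subtype.ext
          rfl
        right_inv := fun pc => rfl }
  have hXcard : Nat.card X = Nat.card G * Nat.card C := SemidirectProduct.card
  have hG0 : Nat.card G ≠ 0 := Nat.card_pos.ne'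
  have hScard : Nat.card S₀ = 2 ^ (Nat.card X).factorization 2 := by
    rw [hS₀card, hXcard, hCcard, Nat.factorization_mul hG0 (pow_ne_zero _ two_ne_zero),
      Nat.factorization_pow, Finsupp.add_apply, Finsupp.smul_apply,
      Nat.prime_two.factorization_self, smul_eq_mul, mul_one, pow_add, P.card_eq_multiplicity]
  let S : Sylow 2 X := Sylow.ofCard S₀ hScard
  have hScoe : (S : Subgroup X) = S₀ := rfl
  -- the odd core of `X` is trivial
  have hOX : Cfsg.oddCore X = ⊥ := by
    show Cfsg.pPrimeCore 2 X = ⊥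
    rw [eq_bot_iff]
    apply sSup_le
    rintro M ⟨hMn, hMc⟩
    -- `M` lies in the kernel of `rightHom`
    have hMker : M ≤ (SemidirectProduct.rightHom : X →* C).ker := by
      intro m hm
      rw [MonoidHom.mem_ker]
      have h1 : orderOf (SemidirectProduct.rightHom m : C) ∣ Nat.card M := by
        have h3 : orderOf (⟨m, hm⟩ : M) ∣ Nat.card M := orderOf_dvd_natCard _
        have h4 : orderOf (SemidirectProduct.rightHom m : C) ∣ orderOf m :=
          orderOf_map_dvd _ m
        have h5 : orderOf (⟨m, hm⟩ : M) = orderOf m := Subgroup.orderOf_mk m hm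
        rw [h5] at h3
        exact dvd_trans h4 h3
      have h2 : orderOf (SemidirectProduct.rightHom m : C) ∣ 2 ^ j := by
        rw [← hCcard]; exact orderOf_dvd_natCard _
      have h3 : orderOf (SemidirectProduct.rightHom m : C) ∣ Nat.gcd (Nat.card M) (2 ^ j) :=
        Nat.dvd_gcd h1 h2
      have h4 : Nat.gcd (Nat.card M) (2 ^ j) = 1 := Nat.Coprime.pow_right _ hMc
      rw [h4, Nat.dvd_one, orderOf_eq_one_iff] at h3
      exact h3
    -- pull back to `G`
    let M' : Subgroup G := M.comap (SemidirectProduct.inl : G →* X)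
    haveI : M'.Normal := hMn.comap _
    have hM'c : (Nat.card M').Coprime 2 := by
      have h1 : Nat.card M' = Nat.card (M'.map (SemidirectProduct.inl : G →* X)) :=
        (Subgroup.card_map_of_injective SemidirectProduct.inl_injective).symm
      have h2 : M'.map (SemidirectProduct.inl : G →* X) ≤ M := Subgroup.map_comap_le _ _
      have h3 : Nat.card (M'.map (SemidirectProduct.inl : G →* X)) ∣ Nat.card M :=
        Subgroup.card_dvd_of_le h2
      rw [h1]
      exact Nat.Coprime.coprime_dvd_left h3 hMc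
    have hM'bot : M' = ⊥ := by
      rw [eq_bot_iff, ← hcore]
      exact le_sSup ⟨inferInstance, hM'c⟩
    intro m hm
    have h1 := hMker hm
    rw [← SemidirectProduct.range_inl_eq_ker_rightHom] at h1
    obtain ⟨g, rfl⟩ := h1
    have h2 : g ∈ M' := hm
    rw [hM'bot, Subgroup.mem_bot] at h2
    rw [h2, map_one]
    exact Subgroup.one_mem _
  -- the element `a = (1, α)`
  let αC : C := ⟨α, Subgroup.mem_zpowers α⟩
  let a : X := SemidirectProduct.inr αC
  have haS : a ∈ (S : Subgroup X) := by
    rw [hScoe, hS₀mem]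
    show (SemidirectProduct.inr αC : X).left ∈ (P : Subgroup G)
    rw [SemidirectProduct.left_inr]
    exact Subgroup.one_mem _
  have hScomm : ∀ x ∈ (S : Subgroup X), ∀ y ∈ (S : Subgroup X), x * y = y * x := by
    intro x hx y hy
    exact hS₀comm x hx y hy
  -- decomposition
  have hJ : ∀ n ∈ Subgroup.normalizer ((S : Subgroup X) : Set X),
      a⁻¹ * (n * a * n⁻¹) ∈ (SemidirectProduct.rightHom : X →* C).ker := by
    intro n _
    rw [MonoidHom.mem_ker]
    have e1 : (SemidirectProduct.rightHom : X →* C) (a⁻¹ * (n * a * n⁻¹))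
        = ((SemidirectProduct.rightHom : X →* C) a)⁻¹ *
          ((SemidirectProduct.rightHom : X →* C) n * (SemidirectProduct.rightHom : X →* C) a *
            ((SemidirectProduct.rightHom : X →* C) n)⁻¹) := by
      rw [map_mul, map_mul, map_mul, map_inv, map_inv]
    rw [e1]
    have := hCcomm ((SemidirectProduct.rightHom : X →* C) n)
      ((SemidirectProduct.rightHom : X →* C) a)
    rw [this]
    group
  obtain ⟨y, c, hyS, hcS, hcJ, hayc, hyN⟩ := exists_decomp S hScomm a haS _ hJ
  have hycent := central_of_normalizer_fixed hOX S hScomm y hyS hyN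
  rw [← SemidirectProduct.range_inl_eq_ker_rightHom] at hcJ
  obtain ⟨g, rfl⟩ := hcJ
  -- `y = a * (inl g)⁻¹` is central
  have hy_eq : y = a * (SemidirectProduct.inl g : X)⁻¹ := by
    rw [hayc]; group
  refine ⟨α g, fun x => ?_⟩
  have h1 := hycent (SemidirectProduct.inl x)
  rw [hy_eq] at h1
  -- a * inl(g⁻¹ x) * a⁻¹ = inl x * (a * inl g⁻¹ * a⁻¹)
  have h2 : a * (SemidirectProduct.inl (g⁻¹ * x) : X) * a⁻¹
      = SemidirectProduct.inl x * (a * SemidirectProduct.inl g⁻¹ * a⁻¹) := by
    rw [map_mul, map_inv]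
    calc a * ((SemidirectProduct.inl g : X)⁻¹ * SemidirectProduct.inl x) * a⁻¹
        = (a * (SemidirectProduct.inl g : X)⁻¹ * SemidirectProduct.inl x) * a⁻¹ := by group
      _ = (SemidirectProduct.inl x * (a * (SemidirectProduct.inl g : X)⁻¹)) * a⁻¹ := by rw [h1]
      _ = SemidirectProduct.inl x * (a * (SemidirectProduct.inl g : X)⁻¹ * a⁻¹) := by group
  have h3 : ∀ z : G, a * (SemidirectProduct.inl z : X) * a⁻¹ = SemidirectProduct.inl (α z) := by
    intro z
    have := SemidirectProduct.inl_aut (φ := φ) αC z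
    rw [map_inv] at this
    exact this.symm
  rw [h3, h3, ← map_mul] at h2
  have h4 := SemidirectProduct.inl_injective h2
  -- α (g⁻¹ x) = x * α g⁻¹
  rw [map_mul, map_inv] at h4
  have h5 : α x = α g * (x * (α g)⁻¹) := by
    rw [← h4]; group
  rw [h5]; group

end Cfsg.Agent.Lib.Helper06.AbelSylowInner
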