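import Mathlib

set_option autoImplicit false

namespace Cfsg.Agent.Lib.Helper06

section CC

variable {G : Type*} [Group G]

theorem mem_centralizer_singleton_iff (x g : G) :
    g ∈ Subgroup.centralizer ({x} : Set G) ↔ x * g = g * x := by
  rw [Subgroup.mem_centralizer_iff]
  constructor
  · intro h; exact h x (Set.mem_singleton x)
  · intro h y hy
    rw [Set.mem_singleton_iff] at hy
    rw [hy]; exact h

/-- the set of elements conjugating `x` to `y` is a coset of the centralizer. -/
theorem card_conjugators [Finite G] (x y : G) (h : IsConj x y) :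
    Nat.card {g : G // g * x * g⁻¹ = y} = Nat.card (Subgroup.centralizer ({x} : Set G)) := by
  obtain ⟨g₀, hg₀⟩ := isConj_iff.mp h
  apply Nat.card_congr
  refine
    { toFun := fun g => ⟨g₀⁻¹ * g.1, ?_⟩
      invFun := fun c => ⟨g₀ * c.1, ?_⟩
      left_inv := ?_
      right_inv := ?_ }
  · rw [mem_centralizer_singleton_iff]
    have h1 : g.1 * x * g.1⁻¹ = g₀ * x * g₀⁻¹ := by rw [g.2, hg₀]
    have h2 : x = g₀⁻¹ * (g.1 * x * g.1⁻¹) * g₀ := by rw [h1]; group
    calc x * (g₀⁻¹ * g.1) = (g₀⁻¹ * (g.1 * x * g.1⁻¹) * g₀) * (g₀⁻¹ * g.1) := by rw [← h2]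
      _ = g₀⁻¹ * g.1 * x := by group
  · have h1 : x * c.1 = c.1 * x := (mem_centralizer_singleton_iff x c.1).mp c.2
    calc g₀ * c.1 * x * (g₀ * c.1)⁻¹ = g₀ * (c.1 * x) * c.1⁻¹ * g₀⁻¹ := by group
      _ = g₀ * (x * c.1) * c.1⁻¹ * g₀⁻¹ := by rw [h1]
      _ = g₀ * x * g₀⁻¹ := by group
      _ = y := hg₀
  · intro g
    apply Subtype.ext
    show g₀ * (g₀⁻¹ * g.1) = g.1
    group
  · intro c
    apply Subtype.ext
    show g₀⁻¹ * (g₀ * c.1) = c.1
    group

/-- class equation for one class: `|class of x| * |C(x)| = |G|`. -/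
theorem card_class_mul_card_centralizer [Finite G] (x : G) :
    Nat.card {u : G // IsConj x u} * Nat.card (Subgroup.centralizer ({x} : Set G))
      = Nat.card G := by
  classical
  have : Fintype {u : G // IsConj x u} := Fintype.ofFinite _
  let f : G → {u : G // IsConj x u} := fun g => ⟨g * x * g⁻¹, isConj_iff.mpr ⟨g, rfl⟩⟩
  have e := Equiv.sigmaFiberEquiv f
  rw [← Nat.card_congr e, Nat.card_sigma]
  have hfib : ∀ u : {u : G // IsConj x u},
      Nat.card {g : G // f g = u} = Nat.card (Subgroup.centralizer ({x} : Set G)) := by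
    intro u
    rw [← card_conjugators x u.1 u.2]
    apply Nat.card_congr
    refine Equiv.subtypeEquivRight ?_
    intro g
    constructor
    · intro h; exact congrArg Subtype.val h
    · intro h; exact Subtype.ext h
  rw [Finset.sum_congr rfl (fun u _ => hfib u), Finset.sum_const, Finset.card_univ,
    smul_eq_mul, Nat.card_eq_fintype_card]

end CC

end Cfsg.Agent.Lib.Helper06
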