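import Mathlib
import Cfsg.Agent.Lib.Helper06.Dihedral
import Cfsg.Agent.Lib.Helper06.ConjCount

set_option autoImplicit false

namespace Cfsg.Agent.Lib.Helper06

section IC

variable {G : Type*} [Group G]

/-- number of ordered pairs of involutions with product `g`. -/
noncomputable def pairCount (g : G) : ℕ :=
  Nat.card {p : G × G // orderOf p.1 = 2 ∧ orderOf p.2 = 2 ∧ p.1 * p.2 = g}

/-- number of involutions. -/
noncomputable def invCount (G : Type*) [Group G] : ℕ := Nat.card {t : G // orderOf t = 2}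

theorem sum_pairCount [Fintype G] : ∑ g : G, pairCount g = invCount G * invCount G := by
  classical
  unfold pairCount invCount
  rw [← Nat.card_prod, ← Nat.card_sigma]
  apply Nat.card_congr
  refine
    { toFun := fun s => (⟨s.2.1.1, s.2.2.1⟩, ⟨s.2.1.2, s.2.2.2.1⟩)
      invFun := fun uv => ⟨uv.1.1 * uv.2.1, (uv.1.1, uv.2.1), uv.1.2, uv.2.2, rfl⟩
      left_inv := ?_
      right_inv := ?_ }
  · rintro ⟨g, ⟨u, v⟩, hu, hv, huv⟩
    simp only at huv
    subst huv
    rfl
  · rintro ⟨u, v⟩
    rfl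

theorem pairCount_one : pairCount (1 : G) = invCount G := by
  unfold pairCount invCount
  apply Nat.card_congr
  refine
    { toFun := fun p => ⟨p.1.1, p.2.1⟩
      invFun := fun t => ⟨(t.1, t.1), t.2, t.2, sq_one_of_orderOf_two t.2⟩
      left_inv := ?_
      right_inv := ?_ }
  · rintro ⟨⟨u, v⟩, hu, hv, huv⟩
    simp only at hu hv huv
    apply Subtype.ext
    simp only
    have : v = u := by
      have h1 : v = u⁻¹ := eq_inv_of_mul_eq_one_right huv
      rw [h1, inv_eq_self_of_orderOf_two hu]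
    rw [this]
  · rintro ⟨t, ht⟩
    rfl

/-- pairs of involutions with product `x` (`x² ≠ 1`) correspond to involutions inverting `x`. -/
theorem pairCount_eq_inverting (x : G) (hx : x ^ 2 ≠ 1) :
    pairCount x = Nat.card {t : G // orderOf t = 2 ∧ t * x * t⁻¹ = x⁻¹} := by
  unfold pairCount
  apply Nat.card_congr
  refine
    { toFun := fun p => ⟨p.1.1, p.2.1, ?_⟩
      invFun := fun t => ⟨(t.1, t.1 * x), t.2.1, ?_, ?_⟩
      left_inv := ?_
      right_inv := ?_ }
  · obtain ⟨⟨u, v⟩, hu, hv, huv⟩ := p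
    simp only at hu hv huv ⊢
    have hui := inv_eq_self_of_orderOf_two hu
    have hvi := inv_eq_self_of_orderOf_two hv
    have hu1 := sq_one_of_orderOf_two hu
    rw [← huv, mul_inv_rev, hui, hvi, ← mul_assoc, hu1, one_mul]
  · obtain ⟨t, ht, htx⟩ := t
    simp only
    have hti := inv_eq_self_of_orderOf_two ht
    apply orderOf_two_of_sq_one
    · calc t * x * (t * x) = (t * x * t⁻¹) * x := by rw [hti]; group
        _ = 1 := by rw [htx, inv_mul_cancel]
    · intro h1
      apply hx
      have : x = t⁻¹ := eq_inv_of_mul_eq_one_right h1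
      rw [this, hti, pow_two]
      exact sq_one_of_orderOf_two ht
  · obtain ⟨t, ht, htx⟩ := t
    simp only
    rw [← mul_assoc, sq_one_of_orderOf_two ht, one_mul]
  · rintro ⟨⟨u, v⟩, hu, hv, huv⟩
    simp only at hu hv huv ⊢
    apply Subtype.ext
    simp only
    rw [← huv, ← mul_assoc, sq_one_of_orderOf_two hu, one_mul]
  · rintro ⟨t, ht, htx⟩
    rfl

theorem pairs_equiv_commuting (x : G) (hx : orderOf x = 2) :
    Nonempty ({p : G × G // orderOf p.1 = 2 ∧ orderOf p.2 = 2 ∧ p.1 * p.2 = x} ≃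
      {s : {t : G // orderOf t = 2 ∧ Commute t x} // s ≠ ⟨x, hx, Commute.refl x⟩}) := by
  have hx1 := sq_one_of_orderOf_two hx
  refine ⟨
    { toFun := fun p => ⟨⟨p.1.1, p.2.1, ?_⟩, ?_⟩
      invFun := fun s => ⟨(s.1.1, s.1.1 * x), s.1.2.1, ?_, ?_⟩
      left_inv := ?_
      right_inv := ?_ }⟩
  · obtain ⟨⟨u, v⟩, hu, hv, huv⟩ := p
    simp only at hu hv huv ⊢
    have hu1 := sq_one_of_orderOf_two hu
    have hvi := inv_eq_self_of_orderOf_two hv
    show u * x = x * u
    have h1 : u * x = v := by rw [← huv, ← mul_assoc, hu1, one_mul]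
    have h2 : (u * v) * (u * v) = 1 := by rw [huv]; exact hx1
    have h3 : u * v * u = v⁻¹ := by
      apply eq_inv_of_mul_eq_one_left
      rw [← h2]; group
    rw [h1, ← huv, h3, hvi]
  · obtain ⟨⟨u, v⟩, hu, hv, huv⟩ := p
    simp only at hu hv huv ⊢
    intro h
    have h' : u = x := congrArg (fun s => s.1) h
    rw [← huv] at h'
    have : v = 1 := by
      have := mul_left_cancel (a := u) (b := 1) (c := v) (by rw [mul_one]; exact h')
      exact this.symm
    exact ne_one_of_orderOf_two hv this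
  · obtain ⟨⟨t, ht, hc⟩, hne⟩ := s
    simp only
    have ht1 := sq_one_of_orderOf_two ht
    have hti := inv_eq_self_of_orderOf_two ht
    apply orderOf_two_of_sq_one
    · calc t * x * (t * x) = t * (x * t) * x := by group
        _ = t * (t * x) * x := by rw [hc.eq]
        _ = (t * t) * (x * x) := by group
        _ = 1 := by rw [ht1, hx1, one_mul]
    · intro h1
      apply hne
      apply Subtype.ext
      show t = x
      have : x = t⁻¹ := eq_inv_of_mul_eq_one_right h1
      rw [this, hti]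
  · obtain ⟨⟨t, ht, hc⟩, hne⟩ := s
    simp only
    rw [← mul_assoc, sq_one_of_orderOf_two ht, one_mul]
  · rintro ⟨⟨u, v⟩, hu, hv, huv⟩
    simp only at hu hv huv ⊢
    apply Subtype.ext
    simp only
    rw [← huv, ← mul_assoc, sq_one_of_orderOf_two hu, one_mul]
  · rintro ⟨⟨t, ht, hc⟩, hne⟩
    rfl

theorem pairCount_add_one [Finite G] (x : G) (hx : orderOf x = 2) :
    pairCount x + 1 = Nat.card {t : G // orderOf t = 2 ∧ Commute t x} := by
  classical
  unfold pairCount
  obtain ⟨e⟩ := pairs_equiv_commuting x hx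
  rw [Nat.card_congr e, ← Finite.card_option]
  exact Nat.card_congr (Equiv.optionSubtypeNe _)

theorem card_commuting_invol_lt [Finite G] (x : G) :
    Nat.card {t : G // orderOf t = 2 ∧ Commute t x} <
      Nat.card (Subgroup.centralizer ({x} : Set G)) := by
  classical
  have : Fintype {t : G // orderOf t = 2 ∧ Commute t x} := Fintype.ofFinite _
  have : Fintype (Subgroup.centralizer ({x} : Set G)) := Fintype.ofFinite _
  rw [Nat.card_eq_fintype_card, Nat.card_eq_fintype_card]
  let j : {t : G // orderOf t = 2 ∧ Commute t x} → Subgroup.centralizer ({x} : Set G) :=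
    fun z => ⟨z.1, (mem_centralizer_singleton_iff x z.1).mpr z.2.2.eq.symm⟩
  apply Fintype.card_lt_of_injective_of_notMem j (b := 1)
  · intro a b hab
    apply Subtype.ext
    exact congrArg (fun c : Subgroup.centralizer ({x} : Set G) => (c : G)) hab
  · rintro ⟨z, hz⟩
    have : z.1 = 1 := congrArg (fun c : Subgroup.centralizer ({x} : Set G) => (c : G)) hz
    exact ne_one_of_orderOf_two z.2.1 this

theorem pairCount_invol [Finite G] (x : G) (hx : orderOf x = 2) :
    pairCount x + 2 ≤ Nat.card (Subgroup.centralizer ({x} : Set G)) := by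
  have h1 := pairCount_add_one x hx
  have h2 := card_commuting_invol_lt x
  omega

theorem pairCount_real [Finite G] (x : G) (hx : x ^ 2 ≠ 1) :
    pairCount x = 0 ∨
      (IsConj x x⁻¹ ∧ pairCount x ≤ Nat.card (Subgroup.centralizer ({x} : Set G))) := by
  rw [pairCount_eq_inverting x hx]
  by_cases hemp : IsEmpty {t : G // orderOf t = 2 ∧ t * x * t⁻¹ = x⁻¹}
  · left
    exact Nat.card_of_isEmpty
  · right
    rw [not_isEmpty_iff] at hemp
    obtain ⟨⟨t, ht, htx⟩⟩ := hemp
    have hreal : IsConj x x⁻¹ := isConj_iff.mpr ⟨t, htx⟩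
    refine ⟨hreal, ?_⟩
    rw [← card_conjugators x x⁻¹ hreal]
    apply Nat.card_le_card_of_injective
      (fun s : {t : G // orderOf t = 2 ∧ t * x * t⁻¹ = x⁻¹} =>
        (⟨s.1, s.2.2⟩ : {g : G // g * x * g⁻¹ = x⁻¹}))
    intro a b hab
    apply Subtype.ext
    exact congrArg (fun c : {g : G // g * x * g⁻¹ = x⁻¹} => (c : G)) hab

/-- the extended centralizer `{g | g x g⁻¹ = x ∨ g x g⁻¹ = x⁻¹}`. -/
def extCentralizer (x : G) : Subgroup G where
  carrier := {g | g * x * g⁻¹ = x ∨ g * x * g⁻¹ = x⁻¹}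
  one_mem' := by
    left; simp
  mul_mem' := by
    intro a b ha hb
    have e : a * b * x * (a * b)⁻¹ = a * (b * x * b⁻¹) * a⁻¹ := by group
    have hinv : ∀ c : G, c * x⁻¹ * c⁻¹ = (c * x * c⁻¹)⁻¹ := by intro c; group
    show a * b * x * (a * b)⁻¹ = x ∨ a * b * x * (a * b)⁻¹ = x⁻¹
    rw [e]
    rcases hb with hb | hb <;> rcases ha with ha | ha
    · left; rw [hb, ha]
    · right; rw [hb, ha]
    · right; rw [hb, hinv, ha]
    · left; rw [hb, hinv, ha, inv_inv]
  inv_mem' := by
    intro a ha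
    show a⁻¹ * x * a⁻¹⁻¹ = x ∨ a⁻¹ * x * a⁻¹⁻¹ = x⁻¹
    rw [inv_inv]
    rcases ha with ha | ha
    · left
      calc a⁻¹ * x * a = a⁻¹ * (a * x * a⁻¹) * a := by rw [ha]
        _ = x := by group
    · right
      have : x = (a * x * a⁻¹)⁻¹ := by rw [ha, inv_inv]
      calc a⁻¹ * x * a = a⁻¹ * (a * x * a⁻¹)⁻¹ * a := by rw [← this]
        _ = x⁻¹ := by group

theorem mem_extCentralizer (x g : G) :
    g ∈ extCentralizer x ↔ g * x * g⁻¹ = x ∨ g * x * g⁻¹ = x⁻¹ := Iff.rfl

theorem card_extCentralizer [Finite G] (x : G) (hx : x ^ 2 ≠ 1) (hreal : IsConj x x⁻¹) :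
    Nat.card (extCentralizer x) = 2 * Nat.card (Subgroup.centralizer ({x} : Set G)) := by
  classical
  have hne : x ≠ x⁻¹ := by
    intro h
    apply hx
    rw [pow_two]
    calc x * x = x * x⁻¹ := by rw [← h]
      _ = 1 := mul_inv_cancel x
  have hdisj : Disjoint (fun g : G => g * x * g⁻¹ = x) (fun g : G => g * x * g⁻¹ = x⁻¹) := by
    rw [Pi.disjoint_iff]
    intro g
    rw [Prop.disjoint_iff]
    rintro ⟨h1, h2⟩
    exact hne (h1.symm.trans h2)
  have e := subtypeOrEquiv (fun g : G => g * x * g⁻¹ = x) (fun g : G => g * x * g⁻¹ = x⁻¹)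
    hdisj
  have h1 : Nat.card (extCentralizer x) =
      Nat.card {g : G // g * x * g⁻¹ = x ∨ g * x * g⁻¹ = x⁻¹} := rfl
  rw [h1, Nat.card_congr e, Nat.card_sum, card_conjugators x x (IsConj.refl x),
    card_conjugators x x⁻¹ hreal, two_mul]

theorem centralizer_le_extCentralizer (x : G) :
    Subgroup.centralizer ({x} : Set G) ≤ extCentralizer x := by
  intro g hg
  rw [mem_centralizer_singleton_iff] at hg
  left
  rw [← hg, mul_assoc, mul_inv_cancel, mul_one]

end IC

end Cfsg.Agent.Lib.Helper06
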