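import Mathlib
import Cfsg.Agent.Lib.Helper06.InvCount

set_option autoImplicit false

namespace Cfsg.Agent.Lib.Helper06

theorem bf_arith (N m c A : ℕ) (hN : 1 + m + c = N) (hA : A = N * (N + m)) (hm : 1 ≤ m)
    (h : A * (m * m) + 2 * A * m ≤ A * m + 2 * N * m ^ 2 * m + N * m ^ 2 * c) : False := by
  subst hA
  subst hN
  have h1 : (1 + m + c) * (1 + m + c + m) * (m * m) + 2 * ((1 + m + c) * (1 + m + c + m)) * m =
      (1 + m + c) * (1 + m + c + m) * m + 2 * (1 + m + c) * m ^ 2 * m + (1 + m + c) * m ^ 2 * c +
        (1 + m + c) * (2 * m ^ 2 + (1 + m + c) * m) := by ring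
  rw [h1] at h
  have h2 : 0 < (1 + m + c) * (2 * m ^ 2 + (1 + m + c) * m) := by positivity
  omega

theorem sum_ite_const {α : Type*} [Fintype α] (p : α → Prop) [DecidablePred p] (c : ℕ) :
    ∑ g : α, (if p g then c else 0) = c * (Finset.univ.filter p).card := by
  rw [Finset.sum_ite, Finset.sum_const_zero, add_zero, Finset.sum_const, smul_eq_mul, mul_comm]

section BF

variable {G : Type*} [Group G] [Finite G]

theorem invCount_pos (heven : Even (Nat.card G)) : 1 ≤ invCount G := by
  have : Fact (Nat.Prime 2) := ⟨Nat.prime_two⟩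
  obtain ⟨t, ht⟩ := exists_prime_orderOf_dvd_card' 2 (even_iff_two_dvd.mp heven)
  unfold invCount
  have : Nonempty {t : G // orderOf t = 2} := ⟨⟨t, ht⟩⟩
  exact Nat.card_pos

/-- Brauer--Fowler: a group of even order with centre of odd order has a proper subgroup of
index `2` or of small index. -/
theorem brauer_fowler (heven : Even (Nat.card G)) (hZ : Odd (Nat.card (Subgroup.center G))) :
    ∃ H : Subgroup G, H ≠ ⊤ ∧ (H.index = 2 ∨
      2 * H.index * (invCount G) ^ 2 < Nat.card G * (Nat.card G + invCount G)) := by
  classical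
  by_contra hcon
  push Not at hcon
  have : Fintype G := Fintype.ofFinite G
  obtain ⟨N, hNdef⟩ : ∃ N, N = Nat.card G := ⟨_, rfl⟩
  obtain ⟨m, hmdef⟩ : ∃ m, m = invCount G := ⟨_, rfl⟩
  obtain ⟨A, hAdef⟩ : ∃ A, A = N * (N + m) := ⟨_, rfl⟩
  rw [← hNdef, ← hmdef] at hcon
  rw [← hAdef] at hcon
  have hprop : ∀ H : Subgroup G, H ≠ ⊤ → A * Nat.card H ≤ 2 * N * m ^ 2 := by
    intro H hH
    have h1 := (hcon H hH).2
    have h2 : Nat.card H * H.index = N := by rw [hNdef]; exact H.card_mul_index
    calc A * Nat.card H ≤ (2 * H.index * m ^ 2) * Nat.card H := Nat.mul_le_mul_right _ h1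
      _ = 2 * (Nat.card H * H.index) * m ^ 2 := by ring
      _ = 2 * N * m ^ 2 := by rw [h2]
  have hm : 1 ≤ m := by rw [hmdef]; exact invCount_pos heven
  have hinv : ∀ g : G, orderOf g = 2 → A * pairCount g + 2 * A ≤ 2 * N * m ^ 2 := by
    intro g hg
    have hne : Subgroup.centralizer ({g} : Set G) ≠ ⊤ := by
      intro htop
      have hgc : g ∈ Subgroup.center G := by
        rw [Subgroup.mem_center_iff]
        intro h
        have : h ∈ Subgroup.centralizer ({g} : Set G) := by rw [htop]; trivial
        exact ((mem_centralizer_singleton_iff g h).mp this).symm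
      have h2 : 2 ∣ Nat.card (Subgroup.center G) := by
        rw [← hg]; exact Subgroup.orderOf_dvd_natCard _ hgc
      exact (Nat.not_even_iff_odd.mpr hZ) (even_iff_two_dvd.mpr h2)
    have h1 := hprop _ hne
    have h2 := pairCount_invol g hg
    calc A * pairCount g + 2 * A = A * (pairCount g + 2) := by ring
      _ ≤ A * Nat.card (Subgroup.centralizer ({g} : Set G)) := Nat.mul_le_mul_left _ h2
      _ ≤ _ := h1
  have hnon : ∀ g : G, g ^ 2 ≠ 1 → A * pairCount g ≤ N * m ^ 2 := by
    intro g hg
    rcases pairCount_real g hg with h0 | ⟨hreal, hle⟩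
    · rw [h0, mul_zero]; exact Nat.zero_le _
    · have hcard := card_extCentralizer g hg hreal
      have hne : extCentralizer g ≠ ⊤ := by
        intro htop
        have hidx : (Subgroup.centralizer ({g} : Set G)).index = 2 := by
          have h1 : Nat.card (Subgroup.centralizer ({g} : Set G)) *
              (Subgroup.centralizer ({g} : Set G)).index = Nat.card G :=
            Subgroup.card_mul_index _
          have h2 : Nat.card (extCentralizer g) = Nat.card G := by
            rw [htop]; exact Subgroup.card_top
          rw [hcard] at h2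
          have hc : 0 < Nat.card (Subgroup.centralizer ({g} : Set G)) := Nat.card_pos
          apply Nat.eq_of_mul_eq_mul_left hc
          rw [h1, ← h2, mul_comm]
        have hne' : Subgroup.centralizer ({g} : Set G) ≠ ⊤ := by
          intro h
          rw [h, Subgroup.index_top] at hidx
          norm_num at hidx
        exact (hcon _ hne').1 hidx
      have h1 := hprop _ hne
      rw [hcard] at h1
      have h2 : A * pairCount g ≤ A * Nat.card (Subgroup.centralizer ({g} : Set G)) :=
        Nat.mul_le_mul_left _ hle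
      have h3 : A * (2 * Nat.card (Subgroup.centralizer ({g} : Set G))) =
          2 * (A * Nat.card (Subgroup.centralizer ({g} : Set G))) := by ring
      have h4 : 2 * N * m ^ 2 = 2 * (N * m ^ 2) := by ring
      omega
  -- pointwise bound
  have hpt : ∀ g : G, A * pairCount g + (if orderOf g = 2 then 2 * A else 0) ≤
      (if g = 1 then A * m else 0) + (if orderOf g = 2 then 2 * N * m ^ 2 else 0) +
        (if (g ≠ 1 ∧ orderOf g ≠ 2) then N * m ^ 2 else 0) := by
    intro g
    by_cases h1 : g = 1
    · subst h1
      have : orderOf (1 : G) ≠ 2 := by rw [orderOf_one]; norm_num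
      rw [if_neg this, if_pos rfl, if_neg this, if_neg (by simp), pairCount_one, ← hmdef]
    · by_cases h2 : orderOf g = 2
      · rw [if_pos h2, if_neg h1, if_pos h2, if_neg (by simp [h2])]
        have := hinv g h2
        omega
      · rw [if_neg h2, if_neg h1, if_neg h2, if_pos ⟨h1, h2⟩]
        have hg2 : g ^ 2 ≠ 1 := by
          intro hsq
          apply h2
          exact orderOf_eq_prime hsq h1
        have := hnon g hg2
        omega
  have hsum := Finset.sum_le_sum (fun g (_ : g ∈ (Finset.univ : Finset G)) => hpt g)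
  rw [Finset.sum_add_distrib, Finset.sum_add_distrib, Finset.sum_add_distrib, ← Finset.mul_sum,
    sum_pairCount, ← hmdef, sum_ite_const, sum_ite_const, sum_ite_const, sum_ite_const] at hsum
  -- the three counts
  have hk1 : (Finset.univ.filter (fun g : G => g = 1)).card = 1 := by
    rw [Finset.filter_eq' Finset.univ (1 : G), if_pos (Finset.mem_univ _), Finset.card_singleton]
  have hk2 : (Finset.univ.filter (fun g : G => orderOf g = 2)).card = m := by
    rw [hmdef, invCount, Nat.card_eq_fintype_card, Fintype.card_subtype]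
  have hk3 : 1 + m + (Finset.univ.filter (fun g : G => g ≠ 1 ∧ orderOf g ≠ 2)).card = N := by
    have hone : ∑ g : G, ((if g = 1 then 1 else 0) + (if orderOf g = 2 then 1 else 0) +
        (if (g ≠ 1 ∧ orderOf g ≠ 2) then 1 else 0)) = ∑ _g : G, 1 := by
      apply Finset.sum_congr rfl
      intro g _
      by_cases h1 : g = 1
      · subst h1
        have : orderOf (1 : G) ≠ 2 := by rw [orderOf_one]; norm_num
        rw [if_pos rfl, if_neg this, if_neg (by simp)]
      · by_cases h2 : orderOf g = 2
        · rw [if_neg h1, if_pos h2, if_neg (by simp [h2])]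
        · rw [if_neg h1, if_neg h2, if_pos ⟨h1, h2⟩]
    rw [Finset.sum_add_distrib, Finset.sum_add_distrib, sum_ite_const, sum_ite_const,
      sum_ite_const, hk1, hk2, Finset.sum_const, Finset.card_univ, smul_eq_mul, mul_one, one_mul,
      one_mul] at hone
    rw [hone, hNdef, Nat.card_eq_fintype_card, mul_one]
  rw [hk1, hk2] at hsum
  apply bf_arith N m _ A hk3 hAdef hm
  calc A * (m * m) + 2 * A * m ≤ _ := hsum
    _ = _ := by ring

end BF

end Cfsg.Agent.Lib.Helper06
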