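import Mathlib
import Cfsg.Agent.Lib.Helper06.AbelSylowZ

set_option autoImplicit false
set_option linter.style.haveILetI false

/-! Central `2`-extensions of a group with abelian Sylow `2`-subgroups of order `8`.

* `center_of_sixteen`: a nonabelian group of order `16` whose commutators all lie in `{1, z}`
  (`z` a central involution) has centre `{1, z, w, w z}` of order `4`.
* `no_ext_two`: a group `G` with `O(G) = 1`, trivial centre and abelian Sylow `2`-subgroups of
  order `8` has no perfect central extension with kernel of order `2`.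
* `no_ext`: the same for an arbitrary central `2`-group as kernel.
-/

namespace Cfsg.Agent.Lib.Helper06.CentExt

open Cfsg

section sixteen

variable {T : Type*} [Group T]

/-- The commutator map `τ ↦ [τ, a]` is a homomorphism when commutators are central. -/
def commHom (z : T) (hzc : ∀ g : T, z * g = g * z)
    (hcomm : ∀ a b : T, a * b * a⁻¹ * b⁻¹ = 1 ∨ a * b * a⁻¹ * b⁻¹ = z) (a : T) : T →* T where
  toFun τ := τ * a * τ⁻¹ * a⁻¹
  map_one' := by group
  map_mul' σ τ := by
    have hc : ∀ g : T, (τ * a * τ⁻¹ * a⁻¹) * g = g * (τ * a * τ⁻¹ * a⁻¹) := by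
      intro g
      rcases hcomm τ a with h | h <;> rw [h]
      · simp
      · exact hzc g
    calc σ * τ * a * (σ * τ)⁻¹ * a⁻¹
        = σ * ((τ * a * τ⁻¹ * a⁻¹) * (a * σ⁻¹ * a⁻¹)) := by group
      _ = σ * ((a * σ⁻¹ * a⁻¹) * (τ * a * τ⁻¹ * a⁻¹)) := by rw [hc]
      _ = σ * a * σ⁻¹ * a⁻¹ * (τ * a * τ⁻¹ * a⁻¹) := by group

theorem commHom_apply (z : T) (hzc : ∀ g : T, z * g = g * z)
    (hcomm : ∀ a b : T, a * b * a⁻¹ * b⁻¹ = 1 ∨ a * b * a⁻¹ * b⁻¹ = z) (a τ : T) :
    commHom z hzc hcomm a τ = τ * a * τ⁻¹ * a⁻¹ := rfl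

theorem center_of_sixteen [Finite T] (hT : Nat.card T = 16)
    (z : T) (hz1 : z ≠ 1) (hz2 : z * z = 1) (hzc : ∀ g : T, z * g = g * z)
    (hcomm : ∀ a b : T, a * b * a⁻¹ * b⁻¹ = 1 ∨ a * b * a⁻¹ * b⁻¹ = z)
    (u v : T) (huv : u * v ≠ v * u) :
    ∃ w : T, w ≠ 1 ∧ w ≠ z ∧ (∀ g : T, w * g = g * w) ∧
      ∀ c : T, (∀ g : T, c * g = g * c) → c = 1 ∨ c = z ∨ c = w ∨ c = w * z := by
  classical
  haveI : Fact (Nat.Prime 2) := ⟨Nat.prime_two⟩
  set f : T →* T × T := (commHom z hzc hcomm u).prod (commHom z hzc hcomm v) with hf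
  have hfa : ∀ τ : T, f τ = (τ * u * τ⁻¹ * u⁻¹, τ * v * τ⁻¹ * v⁻¹) := fun τ => rfl
  -- commutator of u and v is z
  have huvz : u * v * u⁻¹ * v⁻¹ = z := by
    rcases hcomm u v with h | h
    · exfalso; apply huv
      have : u * v = (u * v * u⁻¹ * v⁻¹) * (v * u) := by group
      rw [this, h, one_mul]
    · exact h
  have hvuz : v * u * v⁻¹ * u⁻¹ = z := by
    rcases hcomm v u with h | h
    · exfalso; apply huv
      have : v * u = (v * u * v⁻¹ * u⁻¹) * (u * v) := by group
      rw [this, h, one_mul]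
    · exact h
  -- range of f
  have hrange : (f.range : Set (T × T)) = ({1, z} : Set T) ×ˢ ({1, z} : Set T) := by
    ext ⟨p, q⟩
    constructor
    · rintro ⟨τ, hτ⟩
      rw [hfa] at hτ
      have h1 : p = τ * u * τ⁻¹ * u⁻¹ := (congrArg Prod.fst hτ).symm
      have h2 : q = τ * v * τ⁻¹ * v⁻¹ := (congrArg Prod.snd hτ).symm
      refine ⟨?_, ?_⟩
      · rw [h1]; exact hcomm τ u
      · rw [h2]; exact hcomm τ v
    · rintro ⟨hp, hq⟩
      simp only [Set.mem_insert_iff, Set.mem_singleton_iff] at hp hq
      rcases hp with hp | hp <;> rcases hq with hq | hq <;> rw [hp, hq]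
      · exact ⟨1, by rw [hfa]; simp⟩
      · refine ⟨u, ?_⟩
        rw [hfa]
        refine Prod.ext ?_ ?_
        · show u * u * u⁻¹ * u⁻¹ = 1
          group
        · exact huvz
      · refine ⟨v, ?_⟩
        rw [hfa]
        refine Prod.ext ?_ ?_
        · exact hvuz
        · show v * v * v⁻¹ * v⁻¹ = 1
          group
      · refine ⟨u * v, ?_⟩
        rw [hfa]
        refine Prod.ext ?_ ?_
        · show u * v * u * (u * v)⁻¹ * u⁻¹ = z
          have : u * v * u * (u * v)⁻¹ * u⁻¹ = u * (v * u * v⁻¹ * u⁻¹) * u⁻¹ := by group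
          rw [this, hvuz, ← hzc u]
          group
        · show u * v * v * (u * v)⁻¹ * v⁻¹ = z
          have : u * v * v * (u * v)⁻¹ * v⁻¹ = u * v * u⁻¹ * v⁻¹ := by group
          rw [this, huvz]
  have hrcard : Nat.card f.range = 4 := by
    have h1 : Nat.card f.range = (f.range : Set (T × T)).ncard := rfl
    rw [h1, hrange, Set.ncard_prod, Set.ncard_pair (Ne.symm hz1)]
  set K : Subgroup T := f.ker with hK
  have hKidx : K.index = 4 := by rw [hK, Subgroup.index_ker, hrcard]
  have hKcard : Nat.card K = 4 := by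
    have := K.card_mul_index
    rw [hKidx, hT] at this
    omega
  have hKmem : ∀ x : T, x ∈ K ↔ x * u = u * x ∧ x * v = v * x := by
    intro x
    rw [hK, MonoidHom.mem_ker, hfa, Prod.mk_eq_one]
    constructor
    · rintro ⟨h1, h2⟩
      constructor
      · have : x * u = (x * u * x⁻¹ * u⁻¹) * (u * x) := by group
        rw [this, h1, one_mul]
      · have : x * v = (x * v * x⁻¹ * v⁻¹) * (v * x) := by group
        rw [this, h2, one_mul]
    · rintro ⟨h1, h2⟩
      constructor
      · rw [h1]; group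
      · rw [h2]; group
  -- K is abelian
  have hKab : ∀ a ∈ K, ∀ b ∈ K, a * b = b * a := by
    intro a ha b hb
    have hc : IsMulCommutative K :=
      IsPGroup.isMulCommutative_of_card_eq_prime_sq (p := 2) (by rw [hKcard]; norm_num)
    have := hc.is_comm.comm (⟨a, ha⟩ : K) ⟨b, hb⟩
    exact congrArg Subtype.val this
  -- K is central
  have hKcen : ∀ k ∈ K, ∀ τ : T, k * τ = τ * k := by
    intro k hk τ
    obtain ⟨hku, hkv⟩ := (hKmem k).mp hk
    -- find g ∈ {1,u,v,uv} with f g = f τ
    have hτr : f τ ∈ ({1, z} : Set T) ×ˢ ({1, z} : Set T) := by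
      rw [← hrange]; exact ⟨τ, rfl⟩
    have key : ∃ g : T, k * g = g * k ∧ f g = f τ := by
      rw [hfa τ] at hτr ⊢
      obtain ⟨hp, hq⟩ := hτr
      simp only [Set.mem_insert_iff, Set.mem_singleton_iff] at hp hq
      rcases hp with hp | hp <;> rcases hq with hq | hq
      · refine ⟨1, by simp, ?_⟩
        rw [hfa, hp, hq]; simp
      · refine ⟨u, hku, ?_⟩
        rw [hfa, hp, hq, huvz]; simp
      · refine ⟨v, hkv, ?_⟩
        rw [hfa, hp, hq, hvuz]; simp
      · refine ⟨u * v, by rw [← mul_assoc, hku, mul_assoc, hkv, mul_assoc], ?_⟩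
        rw [hfa, hp, hq]
        refine Prod.ext ?_ ?_
        · show u * v * u * (u * v)⁻¹ * u⁻¹ = z
          have : u * v * u * (u * v)⁻¹ * u⁻¹ = u * (v * u * v⁻¹ * u⁻¹) * u⁻¹ := by group
          rw [this, hvuz, ← hzc u]
          group
        · show u * v * v * (u * v)⁻¹ * v⁻¹ = z
          have : u * v * v * (u * v)⁻¹ * v⁻¹ = u * v * u⁻¹ * v⁻¹ := by group
          rw [this, huvz]
    obtain ⟨g, hkg, hfg⟩ := key
    have hgk : g⁻¹ * τ ∈ K := by
      rw [hK, MonoidHom.mem_ker, map_mul, map_inv, hfg]; simp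
    have h1 := hKab k hk _ hgk
    calc k * τ = k * (g * (g⁻¹ * τ)) := by group
      _ = (k * g) * (g⁻¹ * τ) := by group
      _ = (g * k) * (g⁻¹ * τ) := by rw [hkg]
      _ = g * (k * (g⁻¹ * τ)) := by group
      _ = g * ((g⁻¹ * τ) * k) := by rw [h1]
      _ = τ * k := by group
  -- central elements lie in K
  have hcenK : ∀ c : T, (∀ g : T, c * g = g * c) → c ∈ K := fun c hc =>
    (hKmem c).mpr ⟨hc u, hc v⟩
  have hzK : z ∈ K := hcenK z hzc
  -- an element of K outside {1, z}
  have hex : ∃ w ∈ K, w ≠ 1 ∧ w ≠ z := by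
    by_contra hno
    push Not at hno
    have hsub : (K : Set T) ⊆ {1, z} := by
      intro x hx
      by_cases h1 : x = 1
      · simp [h1]
      · simp [hno x hx h1]
    have h2 : (K : Set T).ncard ≤ ({1, z} : Set T).ncard :=
      Set.ncard_le_ncard hsub (Set.toFinite _)
    rw [Set.ncard_pair (Ne.symm hz1)] at h2
    have h3 : Nat.card K = (K : Set T).ncard := rfl
    omega
  obtain ⟨w, hwK, hw1, hwz⟩ := hex
  refine ⟨w, hw1, hwz, hKcen w hwK, ?_⟩
  -- the four elements exhaust K
  have hsub : ({1, z, w, w * z} : Set T) ⊆ (K : Set T) := by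
    intro x hx
    simp only [Set.mem_insert_iff, Set.mem_singleton_iff] at hx
    rcases hx with rfl | rfl | rfl | rfl
    · exact K.one_mem
    · exact hzK
    · exact hwK
    · exact K.mul_mem hwK hzK
  have hwz1 : w * z ≠ 1 := by
    intro h
    apply hwz
    have : w = (w * z) * z := by rw [mul_assoc, hz2, mul_one]
    rw [this, h, one_mul]
  have hwzz : w * z ≠ z := by
    intro h
    apply hw1
    have : w = (w * z) * z := by rw [mul_assoc, hz2, mul_one]
    rw [this, h, hz2]
  have hwzw : w * z ≠ w := by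
    intro h
    apply hz1
    have : z = w⁻¹ * (w * z) := by group
    rw [this, h]; group
  have h4 : ({1, z, w, w * z} : Set T).ncard = 4 := by
    rw [Set.ncard_insert_of_notMem, Set.ncard_insert_of_notMem, Set.ncard_pair (Ne.symm hwzw)]
    · simp only [Set.mem_insert_iff, Set.mem_singleton_iff, not_or]
      exact ⟨Ne.symm hwz, Ne.symm hwzz⟩
    · simp only [Set.mem_insert_iff, Set.mem_singleton_iff, not_or]
      exact ⟨Ne.symm hz1, Ne.symm hw1, Ne.symm hwz1⟩
  have heq : ({1, z, w, w * z} : Set T) = (K : Set T) := by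
    apply Set.eq_of_subset_of_ncard_le hsub _ (Set.toFinite _)
    rw [h4]
    have h3 : Nat.card K = (K : Set T).ncard := rfl
    omega
  intro c hc
  have hcK : c ∈ (K : Set T) := hcenK c hc
  rw [← heq] at hcK
  simpa only [Set.mem_insert_iff, Set.mem_singleton_iff] using hcK

end sixteen

section ext

universe u v

variable {G : Type u} [Group G] [Finite G]

/-- No perfect central extension with kernel of order `2`. -/
theorem no_ext_two
    (hO : Cfsg.oddCore G = ⊥) (hZ : ∀ y : G, (∀ g : G, y * g = g * y) → y = 1)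
    (hab : ∀ S : Sylow 2 G, ∀ a ∈ (S : Subgroup G), ∀ b ∈ (S : Subgroup G), a * b = b * a)
    (h8 : ∀ S : Sylow 2 G, Nat.card S = 8)
    {L : Type v} [Group L] [Finite L] (π : L →* G) (hπ : Function.Surjective π)
    (hperf : commutator L = ⊤)
    (z : L) (hz1 : z ≠ 1) (hzc : ∀ g : L, z * g = g * z)
    (hker : ∀ x : L, π x = 1 ↔ x = 1 ∨ x = z) : False := by
  classical
  haveI : Fact (Nat.Prime 2) := ⟨Nat.prime_two⟩
  have hπz : π z = 1 := (hker z).mpr (Or.inr rfl)
  have hz2 : z * z = 1 := by
    have h0 : π (z * z) = 1 := by rw [map_mul, hπz, one_mul]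
    rcases (hker _).mp h0 with h | h
    · exact h
    · exfalso; apply hz1
      have h1 : z = z⁻¹ * (z * z) := by group
      rw [h1, h]; group
  -- the kernel has two elements
  have hkerset : (π.ker : Set L) = {1, z} := by
    ext x
    simp only [SetLike.mem_coe, MonoidHom.mem_ker, hker, Set.mem_insert_iff,
      Set.mem_singleton_iff]
  have hkercard : Nat.card π.ker = 2 := by
    have h1 : Nat.card π.ker = (π.ker : Set L).ncard := rfl
    rw [h1, hkerset, Set.ncard_pair (Ne.symm hz1)]
  have hLcard : Nat.card L = 2 * Nat.card G := by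
    have h1 := π.ker.card_mul_index
    rw [Subgroup.index_ker, hkercard] at h1
    have h2 : Nat.card π.range = Nat.card G := by
      rw [MonoidHom.range_eq_top.mpr hπ]
      exact Subgroup.card_top
    rw [h2] at h1; exact h1.symm
  -- a Sylow 2-subgroup of L and its image
  obtain ⟨T⟩ : Nonempty (Sylow 2 L) := inferInstance
  set S : Sylow 2 G := T.mapSurjective hπ with hS
  have hScoe : (S : Subgroup G) = (T : Subgroup L).map π := rfl
  have hTcard : Nat.card (T : Subgroup L) = 16 := by
    have h1 := T.card_eq_multiplicity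
    have h2 := S.card_eq_multiplicity
    rw [h8 S] at h2
    rw [hLcard, Nat.factorization_mul (by norm_num) (Nat.card_pos.ne'), Finsupp.add_apply,
      Nat.prime_two.factorization_self, pow_add, ← h2] at h1
    rw [h1]; norm_num
  have hkerT : π.ker ≤ (T : Subgroup L) := by
    have hkp : IsPGroup 2 π.ker := IsPGroup.of_card (n := 1) (by rw [hkercard, pow_one])
    have h1 : IsPGroup 2 ((T : Subgroup L) ⊔ π.ker : Subgroup L) :=
      IsPGroup.to_sup_of_normal_right T.2 hkp
    have h2 := T.is_maximal' h1 le_sup_left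
    calc π.ker ≤ (T : Subgroup L) ⊔ π.ker := le_sup_right
      _ = (T : Subgroup L) := h2
  have hzT : z ∈ (T : Subgroup L) := hkerT hπz
  have hTmem : ∀ x : L, x ∈ (T : Subgroup L) ↔ π x ∈ (S : Subgroup G) := by
    intro x
    constructor
    · intro hx
      rw [hScoe]
      exact Subgroup.mem_map_of_mem π hx
    · intro hx
      rw [hScoe] at hx
      obtain ⟨t, ht, hte⟩ := Subgroup.mem_map.mp hx
      have h1 : x * t⁻¹ ∈ π.ker := by
        rw [MonoidHom.mem_ker, map_mul, map_inv, hte, mul_inv_cancel]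
      have h3 := (T : Subgroup L).mul_mem (hkerT h1) ht
      simpa using h3
  have hTcomm : ∀ a ∈ (T : Subgroup L), ∀ b ∈ (T : Subgroup L),
      a * b * a⁻¹ * b⁻¹ = 1 ∨ a * b * a⁻¹ * b⁻¹ = z := by
    intro a ha b hb
    apply (hker _).mp
    have h1 := hab S (π a) ((hTmem a).mp ha) (π b) ((hTmem b).mp hb)
    rw [map_mul, map_mul, map_mul, map_inv, map_inv, h1]
    group
  by_cases hTab : ∀ a ∈ (T : Subgroup L), ∀ b ∈ (T : Subgroup L), a * b = b * a
  · -- transfer into the abelian Sylow subgroup
    letI : CommGroup ↥(T : Subgroup L) :=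
      { (inferInstance : Group ↥(T : Subgroup L)) with
        mul_comm := fun a b => Subtype.ext (hTab a a.2 b b.2) }
    have key : ∀ (k : ℕ) (g₀ : L), g₀⁻¹ * z ^ k * g₀ ∈ (T : Subgroup L) →
        g₀⁻¹ * z ^ k * g₀ = z ^ k := by
      intro k g₀ _
      have h1 : z ^ k * g₀ = g₀ * z ^ k := (Commute.pow_left (hzc g₀) k).eq
      rw [mul_assoc, h1]
      group
    have h1 := MonoidHom.transfer_eq_pow (H := (T : Subgroup L))
      (MonoidHom.id ↥(T : Subgroup L)) z key
    have h2 : MonoidHom.transfer (MonoidHom.id ↥(T : Subgroup L)) z = 1 := by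
      have hk := Abelianization.commutator_subset_ker
        (MonoidHom.transfer (MonoidHom.id ↥(T : Subgroup L)))
      have hzc' : z ∈ commutator L := by rw [hperf]; trivial
      exact hk hzc'
    rw [h2] at h1
    have h3 : z ^ (T : Subgroup L).index = 1 := by
      have h4 := congrArg Subtype.val h1
      simpa using h4.symm
    have h4 : orderOf z = 2 := orderOf_eq_prime (by rw [pow_two]; exact hz2) hz1
    have h5 : 2 ∣ (T : Subgroup L).index := by
      have h6 := orderOf_dvd_of_pow_eq_one h3
      rwa [h4] at h6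
    exact T.not_dvd_index h5
  · push Not at hTab
    obtain ⟨u, hu, v, hv, huv⟩ := hTab
    obtain ⟨w, hw1, hwz, hwc, hwall⟩ := center_of_sixteen (T := ↥(T : Subgroup L)) hTcard
      ⟨z, hzT⟩ (fun h => hz1 (congrArg Subtype.val h)) (Subtype.ext hz2)
      (fun g => Subtype.ext (hzc g))
      (fun a b => by
        rcases hTcomm a a.2 b b.2 with h | h
        · left; exact Subtype.ext h
        · right; exact Subtype.ext h)
      ⟨u, hu⟩ ⟨v, hv⟩ (fun h => huv (congrArg Subtype.val h))
    have hfix : ∀ n ∈ Subgroup.normalizer ((S : Subgroup G) : Set G),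
        n * π w * n⁻¹ = π w := by
      intro n hn
      obtain ⟨m, rfl⟩ := hπ n
      have hmT : ∀ x : L, x ∈ (T : Subgroup L) → m * x * m⁻¹ ∈ (T : Subgroup L) := by
        intro x hx
        rw [hTmem, map_mul, map_mul, map_inv]
        exact (Subgroup.mem_normalizer_iff.mp hn (π x)).mp ((hTmem x).mp hx)
      have hmT' : ∀ x : L, x ∈ (T : Subgroup L) → m⁻¹ * x * m ∈ (T : Subgroup L) := by
        intro x hx
        rw [hTmem, map_mul, map_mul, map_inv]
        have h1 := (Subgroup.mem_normalizer_iff.mp (inv_mem hn) (π x)).mp ((hTmem x).mp hx)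
        rwa [inv_inv] at h1
      set c : L := m * (w : L) * m⁻¹ with hc
      have hcT : c ∈ (T : Subgroup L) := hmT _ w.2
      have hccen : ∀ g : ↥(T : Subgroup L),
          (⟨c, hcT⟩ : ↥(T : Subgroup L)) * g = g * ⟨c, hcT⟩ := by
        intro g
        apply Subtype.ext
        show c * (g : L) = g * c
        have h1 := hwc ⟨m⁻¹ * g * m, hmT' g g.2⟩
        have h1' : (w : L) * (m⁻¹ * g * m) = (m⁻¹ * g * m) * w := congrArg Subtype.val h1
        calc c * g = m * ((w : L) * (m⁻¹ * g * m)) * m⁻¹ := by rw [hc]; group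
          _ = m * ((m⁻¹ * g * m) * w) * m⁻¹ := by rw [h1']
          _ = g * c := by rw [hc]; group
      have hwc' : (w : L) = m⁻¹ * c * m := by rw [hc]; group
      have hgoal : π m * π w * (π m)⁻¹ = π c := by
        rw [hc, map_mul, map_mul, map_inv]
      rw [hgoal]
      rcases hwall _ hccen with h | h | h | h
      · exfalso; apply hw1
        have hc1 : c = 1 := congrArg Subtype.val h
        apply Subtype.ext
        show (w : L) = 1
        rw [hwc', hc1]; group
      · exfalso; apply hwz
        have hcz : c = z := congrArg Subtype.val h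
        apply Subtype.ext
        show (w : L) = z
        rw [hwc', hcz, mul_assoc, hzc m, ← mul_assoc, inv_mul_cancel, one_mul]
      · have hcw : c = w := congrArg Subtype.val h
        rw [hcw]
      · have hcw : c = w * z := congrArg Subtype.val h
        rw [hcw, map_mul, hπz, mul_one]
    have hwS : π w ∈ (S : Subgroup G) := (hTmem _).mp w.2
    have hcen := AbelSylowZ.central_of_normalizer_fixed hO S (hab S) (π w) hwS hfix
    have h1 := hZ _ hcen
    rcases (hker _).mp h1 with h | h
    · exact hw1 (Subtype.ext h)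
    · exact hwz (Subtype.ext h)

/-- No perfect central extension by a nontrivial `2`-group. -/
theorem no_ext
    (hO : Cfsg.oddCore G = ⊥) (hZ : ∀ y : G, (∀ g : G, y * g = g * y) → y = 1)
    (hab : ∀ S : Sylow 2 G, ∀ a ∈ (S : Subgroup G), ∀ b ∈ (S : Subgroup G), a * b = b * a)
    (h8 : ∀ S : Sylow 2 G, Nat.card S = 8) :
    ∀ (n : ℕ) (L : Type v) [Group L] [Finite L] (π : L →* G), Nat.card L = n →
      Function.Surjective π → commutator L = ⊤ → π.ker ≤ Subgroup.center L →
      IsPGroup 2 π.ker → π.ker = ⊥ := by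
  intro n
  induction n using Nat.strong_induction_on with
  | _ n ih =>
    intro L _ _ π hn hπ hperf hcen hp
    classical
    haveI : Fact (Nat.Prime 2) := ⟨Nat.prime_two⟩
    by_contra hne
    -- an element of order 2 in the kernel
    obtain ⟨k, hk⟩ := IsPGroup.iff_card.mp hp
    have hk0 : k ≠ 0 := by
      intro h0
      rw [h0, pow_zero] at hk
      exact hne (Subgroup.card_eq_one.mp hk)
    have h2dvd : 2 ∣ Nat.card π.ker := by
      rw [hk]; exact dvd_pow_self 2 hk0
    obtain ⟨x, hx⟩ := exists_prime_orderOf_dvd_card' 2 h2dvd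
    set z : L := (x : L) with hzdef
    have hzord : orderOf z = 2 := by rw [hzdef, Subgroup.orderOf_coe, hx]
    have hz1 : z ≠ 1 := by
      intro h
      rw [h, orderOf_one] at hzord
      norm_num at hzord
    have hz2 : z * z = 1 := by
      rw [← pow_two, ← hzord]; exact pow_orderOf_eq_one z
    have hzker : z ∈ π.ker := x.2
    have hzc : ∀ g : L, z * g = g * z := by
      intro g
      exact (Subgroup.mem_center_iff.mp (hcen hzker) g).symm
    -- the quotient by ⟨z⟩
    have hZle : Subgroup.zpowers z ≤ Subgroup.center L := by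
      rw [Subgroup.zpowers_le]; exact hcen hzker
    haveI hZn : (Subgroup.zpowers z).Normal := by
      refine ⟨fun a ha g => ?_⟩
      have h1 := Subgroup.mem_center_iff.mp (hZle ha) g
      have h2 : g * a * g⁻¹ = a := by rw [h1]; group
      rw [h2]; exact ha
    have hZker : Subgroup.zpowers z ≤ π.ker := by
      rw [Subgroup.zpowers_le]; exact hzker
    let L₁ := L ⧸ Subgroup.zpowers z
    let π₁ : L₁ →* G := QuotientGroup.lift (Subgroup.zpowers z) π hZker
    have hπ₁mk : ∀ a : L, π₁ (QuotientGroup.mk a) = π a := fun a => rfl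
    have hcard : Nat.card L = Nat.card L₁ * 2 := by
      have h1 := Subgroup.card_eq_card_quotient_mul_card_subgroup (Subgroup.zpowers z)
      rw [Nat.card_zpowers, hzord] at h1
      exact h1
    have hlt : Nat.card L₁ < n := by
      have hpos : 0 < Nat.card L₁ := Nat.card_pos
      omega
    have hπ₁ : Function.Surjective π₁ := by
      intro g
      obtain ⟨a, rfl⟩ := hπ g
      exact ⟨QuotientGroup.mk a, rfl⟩
    have hperf₁ : commutator L₁ = ⊤ := by
      rw [commutator_def]
      have h1 : Subgroup.map (QuotientGroup.mk' (Subgroup.zpowers z)) (⊤ : Subgroup L) = ⊤ :=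
        Subgroup.map_top_of_surjective _ (QuotientGroup.mk'_surjective _)
      rw [← h1, ← Subgroup.map_commutator, ← commutator_def, hperf, h1]
    have hkermap : π₁.ker = π.ker.map (QuotientGroup.mk' (Subgroup.zpowers z)) := by
      ext y
      obtain ⟨a, rfl⟩ := QuotientGroup.mk_surjective y
      constructor
      · intro hy
        rw [MonoidHom.mem_ker, hπ₁mk] at hy
        exact ⟨a, hy, rfl⟩
      · rintro ⟨b, hb, hbe⟩
        rw [MonoidHom.mem_ker]
        have : π₁ ((QuotientGroup.mk' (Subgroup.zpowers z)) b) = π b := rfl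
        rw [← hbe, this]
        exact hb
    have hcen₁ : π₁.ker ≤ Subgroup.center L₁ := by
      rw [hkermap]
      rintro y ⟨b, hb, rfl⟩
      rw [Subgroup.mem_center_iff]
      intro g
      obtain ⟨a, rfl⟩ := QuotientGroup.mk_surjective g
      have h1 := Subgroup.mem_center_iff.mp (hcen hb) a
      show (QuotientGroup.mk (a * b) : L₁) = QuotientGroup.mk (b * a)
      rw [h1]
    have hp₁ : IsPGroup 2 π₁.ker := by
      rw [hkermap]; exact hp.map _
    have hbot := ih (Nat.card L₁) hlt L₁ π₁ rfl hπ₁ hperf₁ hcen₁ hp₁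
    -- the kernel is {1, z}
    have hker : ∀ a : L, π a = 1 ↔ a = 1 ∨ a = z := by
      intro a
      constructor
      · intro ha
        have h1 : (QuotientGroup.mk a : L₁) ∈ π₁.ker := by
          rw [MonoidHom.mem_ker, hπ₁mk]; exact ha
        rw [hbot, Subgroup.mem_bot, QuotientGroup.eq_one_iff] at h1
        obtain ⟨j, rfl⟩ := Subgroup.mem_zpowers_iff.mp h1
        rcases Int.even_or_odd' j with ⟨m, rfl | rfl⟩
        · left
          rw [zpow_mul, zpow_two, hz2, one_zpow]
        · right
          rw [zpow_add, zpow_mul, zpow_two, hz2, one_zpow, one_mul, zpow_one]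
      · rintro (rfl | rfl)
        · exact map_one π
        · exact hzker
    exact no_ext_two hO hZ hab h8 π hπ hperf z hz1 hzc hker

end ext

end Cfsg.Agent.Lib.Helper06.CentExt
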