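import Mathlib

/-!
Helper06: tools for S2277 (`G = N ⋊ P`, `P = ⟨C⟩ = ⟨D⟩`, `⟨c^x, d⟩` always a `p`-group ⇒ `[P, N] = 1`).
-/

namespace Cfsg.Agent.Lib.Helper06

open scoped Pointwise

/-- Three "eigenspaces" of `T` for the eigenvalues `1, Z⁻¹, Z⁻²` are independent when `Z` and `Z²`
are fixed-point-free; the conjugating automorphism `A` makes them equinumerous. -/
theorem card_fix_cube_le {V : Type*} [CommGroup V] [Finite V] (T A Z : MulAut V)
    (hAT : A * T * A⁻¹ = T * Z) (hAZ : A * Z = Z * A) (hTZ : T * Z = Z * T)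
    (h1 : ∀ v, Z v = v → v = 1) (h2 : ∀ v, Z (Z v) = v → v = 1) :
    (Nat.card {v : V // T v = v}) ^ 3 ≤ Nat.card V := by
  have cTZ : ∀ v, T (Z v) = Z (T v) := fun v => by
    have := DFunLike.congr_fun hTZ v
    simpa [MulAut.mul_apply] using this
  have cAZ : ∀ v, A (Z v) = Z (A v) := fun v => by
    have := DFunLike.congr_fun hAZ v
    simpa [MulAut.mul_apply] using this
  have cAT : ∀ v, A (T v) = T (Z (A v)) := fun v => by
    have h : A * T = T * Z * A := by rw [← hAT]; group
    have := DFunLike.congr_fun h v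
    simpa [MulAut.mul_apply] using this
  -- equinumerosity
  let e01 : {v : V // T v = v} ≃ {v : V // T (Z v) = v} :=
    { toFun := fun v => ⟨A v.1, by rw [← cAT, v.2]⟩
      invFun := fun v => ⟨A⁻¹ v.1, by
        apply A.injective
        rw [cAT]
        simp [v.2]⟩
      left_inv := fun v => by simp
      right_inv := fun v => by simp }
  let e12 : {v : V // T (Z v) = v} ≃ {v : V // T (Z (Z v)) = v} :=
    { toFun := fun v => ⟨A v.1, by rw [← cAZ, ← cAT, v.2]⟩
      invFun := fun v => ⟨A⁻¹ v.1, by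
        apply A.injective
        rw [cAT, cAZ]
        simp [v.2]⟩
      left_inv := fun v => by simp
      right_inv := fun v => by simp }
  have c1 : Nat.card {v : V // T (Z v) = v} = Nat.card {v : V // T v = v} :=
    (Nat.card_congr e01).symm
  have c2 : Nat.card {v : V // T (Z (Z v)) = v} = Nat.card {v : V // T v = v} := by
    rw [← c1]; exact (Nat.card_congr e12).symm
  -- independence
  have key : ∀ w0 w1 w2 : V, T w0 = w0 → T (Z w1) = w1 → T (Z (Z w2)) = w2 → w0 * w1 * w2 = 1 →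
      w0 = 1 ∧ w1 = 1 ∧ w2 = 1 := by
    intro w0 w1 w2 h0 hw1 hw2 hprod
    have E1 : Z (Z w0) * Z w1 * w2 = 1 := by
      have := congrArg (fun v => T (Z (Z v))) hprod
      simp only [map_mul, map_one] at this
      rw [hw2, cTZ (Z w1), hw1, cTZ (Z w0), cTZ w0, h0] at this
      exact this
    have E2 : (w0 / Z (Z w0)) * (w1 / Z w1) = 1 := by
      have : w0 * w1 * w2 = Z (Z w0) * Z w1 * w2 := by rw [hprod, E1]
      have h' : w0 * w1 = Z (Z w0) * Z w1 := mul_right_cancel this
      rw [div_mul_div_comm, h', div_self']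
    have E3 : Z (w0 / Z (Z w0)) * (w1 / Z w1) = 1 := by
      have := congrArg (fun v => T (Z v)) E2
      simp only [map_mul, map_one, map_div] at this
      rw [cTZ w0, h0, cTZ (Z (Z w0)), cTZ (Z w0), cTZ w0, h0, hw1, cTZ (Z w1), hw1] at this
      simpa [map_div] using this
    have hx0 : w0 / Z (Z w0) = 1 := by
      apply h1
      have : Z (w0 / Z (Z w0)) * (w1 / Z w1) = (w0 / Z (Z w0)) * (w1 / Z w1) := by rw [E3, E2]
      exact mul_right_cancel this
    have hx1 : w1 / Z w1 = 1 := by rw [hx0, one_mul] at E2; exact E2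
    have hw0' : w0 = 1 := h2 w0 (by rw [div_eq_one] at hx0; exact hx0.symm)
    have hw1' : w1 = 1 := h1 w1 (by rw [div_eq_one] at hx1; exact hx1.symm)
    refine ⟨hw0', hw1', ?_⟩
    rw [hw0', hw1', one_mul, one_mul] at hprod
    exact hprod
  let f : {v : V // T v = v} × {v : V // T (Z v) = v} × {v : V // T (Z (Z v)) = v} → V :=
    fun t => t.1.1 * t.2.1.1 * t.2.2.1
  have hf : Function.Injective f := by
    rintro ⟨⟨a0, ha0⟩, ⟨a1, ha1⟩, ⟨a2, ha2⟩⟩ ⟨⟨b0, hb0⟩, ⟨b1, hb1⟩, ⟨b2, hb2⟩⟩ hab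
    simp only [f] at hab
    have hprod : (a0 / b0) * (a1 / b1) * (a2 / b2) = 1 := by
      rw [div_mul_div_comm, div_mul_div_comm, hab, div_self']
    obtain ⟨k0, k1, k2⟩ := key (a0 / b0) (a1 / b1) (a2 / b2)
      (by rw [map_div, ha0, hb0]) (by rw [map_div, map_div, ha1, hb1])
      (by rw [map_div, map_div, map_div, ha2, hb2]) hprod
    rw [div_eq_one] at k0 k1 k2
    subst k0 k1 k2
    rfl
  have := Nat.card_le_card_of_injective f hf
  rw [Nat.card_prod, Nat.card_prod, c1, c2] at this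
  calc (Nat.card {v : V // T v = v}) ^ 3
      = Nat.card {v : V // T v = v} * (Nat.card {v : V // T v = v} * Nat.card {v : V // T v = v}) := by ring
    _ ≤ Nat.card V := this

/-- Coprime action: an element of `p`-power order commuting with its commutator `[g,x]`, the latter of
order prime to `p`, commutes with `x`. -/
theorem comm_eq_one_of_commute {G : Type*} [Group G] {g x : G} {k m p : ℕ} (hg : g ^ (p ^ k) = 1)
    (hy : (g * x * g⁻¹ * x⁻¹) ^ m = 1) (hc : Nat.Coprime m p)
    (hcomm : Commute g (g * x * g⁻¹ * x⁻¹)) : g * x * g⁻¹ * x⁻¹ = 1 := by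
  obtain ⟨y, hy'⟩ : ∃ y, y = g * x * g⁻¹ * x⁻¹ := ⟨_, rfl⟩
  rw [← hy'] at hy hcomm ⊢
  have hconj : g * x * g⁻¹ = y * x := by rw [hy']; group
  have key : ∀ j : ℕ, g ^ j * x * (g ^ j)⁻¹ = y ^ j * x := by
    intro j
    induction j with
    | zero => simp
    | succ j ih =>
      have : g ^ (j + 1) * x * (g ^ (j + 1))⁻¹ = g * (g ^ j * x * (g ^ j)⁻¹) * g⁻¹ := by
        rw [pow_succ']; group
      rw [this, ih]
      have h2 : g * (y ^ j * x) * g⁻¹ = (g * y ^ j * g⁻¹) * (g * x * g⁻¹) := by group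
      rw [h2, hconj]
      have h3 : g * y ^ j * g⁻¹ = y ^ j := by
        have := (hcomm.pow_right j).eq
        rw [this]; group
      rw [h3, pow_succ]; group
  have h1 := key (p ^ k)
  rw [hg] at h1
  simp at h1
  have hd1 : orderOf y ∣ p ^ k := orderOf_dvd_of_pow_eq_one h1
  have hd2 : orderOf y ∣ m := orderOf_dvd_of_pow_eq_one hy
  have : orderOf y ∣ Nat.gcd m (p ^ k) := Nat.dvd_gcd hd2 hd1
  rw [Nat.Coprime.pow_right k hc] at this
  exact orderOf_eq_one_iff.mp (Nat.dvd_one.mp this)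


/-- membership in a conjugate Sylow subgroup -/
theorem conj_mem_of_mem_smul {G : Type*} [Group G] {p : ℕ} (P : Sylow p G) (g q : G)
    (h : q ∈ ((g • P : Sylow p G) : Subgroup G)) : g⁻¹ * q * g ∈ (P : Subgroup G) := by
  rw [Sylow.smul_def] at h
  have h2 : q ∈ MulAut.conj g • (P : Subgroup G) := h
  rw [Subgroup.mem_pointwise_smul_iff_inv_smul_mem] at h2
  have : (MulAut.conj g)⁻¹ • q = g⁻¹ * q * g := by
    simp [MulAut.smul_def]
  rw [this] at h2
  exact h2

/-- `P ⊓ N = ⊥` for a `p`-group and a group of order prime to `p`. -/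
theorem eq_one_of_mem_of_mem {G : Type*} [Group G] [Finite G] {p : ℕ} [Fact p.Prime] (P : Sylow p G)
    (N : Subgroup G) (hN : (Nat.card N).Coprime p) {w : G} (hP : w ∈ (P : Subgroup G)) (hw : w ∈ N) :
    w = 1 := by
  obtain ⟨k, hk⟩ := (IsPGroup.iff_orderOf.mp P.2) ⟨w, hP⟩
  have h1 : orderOf w = p ^ k := by
    rw [← hk]; exact (Subgroup.orderOf_mk w hP).symm
  have h2 : orderOf w ∣ Nat.card N := by
    have := orderOf_dvd_natCard (⟨w, hw⟩ : N)
    rwa [Subgroup.orderOf_mk] at this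
  have h3 : orderOf w ∣ Nat.gcd (Nat.card N) (p ^ k) := Nat.dvd_gcd h2 (h1 ▸ dvd_rfl)
  rw [Nat.Coprime.pow_right k hN] at h3
  exact orderOf_eq_one_iff.mp (Nat.dvd_one.mp h3)

/-- The key factorization: `x ∈ C_N(d) C_N(c)`. -/
theorem exists_factor {G : Type*} [Group G] [Finite G] {p : ℕ} [Fact p.Prime] (P : Sylow p G)
    (N : Subgroup G) [N.Normal] (hN : (Nat.card N).Coprime p) (hNP : N ⊔ (P : Subgroup G) = ⊤)
    {x c d : G} (hx : x ∈ N) (hc : c ∈ (P : Subgroup G)) (hd : d ∈ (P : Subgroup G))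
    (h : IsPGroup p ↥(Subgroup.closure ({x * c * x⁻¹, d} : Set G))) :
    ∃ y ∈ N, y * d = d * y ∧ (y⁻¹ * x) * c = c * (y⁻¹ * x) := by
  obtain ⟨Q, hQ⟩ := h.exists_le_sylow
  obtain ⟨g, hg⟩ := MulAction.exists_smul_eq G P Q
  have hgtop : g ∈ ((N ⊔ (P : Subgroup G) : Subgroup G) : Set G) := by rw [hNP]; trivial
  rw [Subgroup.normal_mul] at hgtop
  obtain ⟨n, hn, u, hu, hnu⟩ := Set.mem_mul.mp hgtop
  have hmem : ∀ q, q ∈ Subgroup.closure ({x * c * x⁻¹, d} : Set G) → n⁻¹ * q * n ∈ (P : Subgroup G) := by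
    intro q hq
    have h1 : q ∈ ((g • P : Sylow p G) : Subgroup G) := by rw [hg]; exact hQ hq
    have h2 := conj_mem_of_mem_smul P g q h1
    have h3 : n⁻¹ * q * n = u * (g⁻¹ * q * g) * u⁻¹ := by rw [← hnu]; group
    rw [h3]
    exact (P : Subgroup G).mul_mem ((P : Subgroup G).mul_mem hu h2) ((P : Subgroup G).inv_mem hu)
  have hd1 := hmem d (Subgroup.subset_closure (by simp))
  have hc1 := hmem (x * c * x⁻¹) (Subgroup.subset_closure (by simp))
  refine ⟨n, hn, ?_, ?_⟩
  · -- d⁻¹ (n⁻¹ d n) ∈ P ∩ N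
    have hP : d⁻¹ * (n⁻¹ * d * n) ∈ (P : Subgroup G) :=
      (P : Subgroup G).mul_mem ((P : Subgroup G).inv_mem hd) hd1
    have hNm : d⁻¹ * (n⁻¹ * d * n) ∈ N := by
      have h1 : d⁻¹ * n⁻¹ * d⁻¹⁻¹ ∈ N := ‹N.Normal›.conj_mem _ (N.inv_mem hn) _
      have : d⁻¹ * (n⁻¹ * d * n) = (d⁻¹ * n⁻¹ * d⁻¹⁻¹) * n := by group
      rw [this]; exact N.mul_mem h1 hn
    have := eq_one_of_mem_of_mem P N hN hP hNm
    have h2 : n⁻¹ * d * n = d := by
      have : d * (d⁻¹ * (n⁻¹ * d * n)) = d * 1 := by rw [this]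
      simpa using this
    calc n * d = n * (n⁻¹ * d * n) := by rw [h2]
      _ = d * n := by group
  · obtain ⟨w, hw⟩ : ∃ w, w = n⁻¹ * x := ⟨_, rfl⟩
    have hwN : w ∈ N := by rw [hw]; exact N.mul_mem (N.inv_mem hn) hx
    have hc2 : w * c * w⁻¹ ∈ (P : Subgroup G) := by
      have : w * c * w⁻¹ = n⁻¹ * (x * c * x⁻¹) * n := by rw [hw]; group
      rw [this]; exact hc1
    have hP : c⁻¹ * (w * c * w⁻¹) ∈ (P : Subgroup G) :=
      (P : Subgroup G).mul_mem ((P : Subgroup G).inv_mem hc) hc2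
    have hNm : c⁻¹ * (w * c * w⁻¹) ∈ N := by
      have h1 : c⁻¹ * w * c⁻¹⁻¹ ∈ N := ‹N.Normal›.conj_mem _ hwN _
      have : c⁻¹ * (w * c * w⁻¹) = (c⁻¹ * w * c⁻¹⁻¹) * w⁻¹ := by group
      rw [this]; exact N.mul_mem h1 (N.inv_mem hwN)
    have := eq_one_of_mem_of_mem P N hN hP hNm
    have h2 : w * c * w⁻¹ = c := by
      have : c * (c⁻¹ * (w * c * w⁻¹)) = c * 1 := by rw [this]
      simpa using this
    rw [← hw]
    calc w * c = (w * c * w⁻¹) * w := by group
      _ = c * w := by rw [h2]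


/-- A `P`-invariant Sylow `q`-subgroup of the normal `p'`-subgroup `N`. -/
theorem exists_invariant_sylow {G : Type*} [Group G] [Finite G] {p : ℕ} [Fact p.Prime] (P : Subgroup G)
    (hP : IsPGroup p P) (N : Subgroup G) [hNn : N.Normal] (hN : (Nat.card N).Coprime p) (q : ℕ)
    [Fact q.Prime] :
    ∃ Q : Subgroup G, Q ≤ N ∧ (∀ g ∈ P, ∀ x ∈ Q, g * x * g⁻¹ ∈ Q) ∧
      Nat.card Q = q ^ (Nat.card N).factorization q := by
  let _ : MulDistribMulAction P N :=
    MulDistribMulAction.compHom N ((MulAut.conjNormal : G →* MulAut N).comp P.subtype)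
  have hcard : ¬ p ∣ Nat.card (Sylow q N) := by
    intro hdvd
    have Q0 : Sylow q N := default
    have h1 : Nat.card (Sylow q N) ∣ Nat.card N :=
      (Sylow.card_dvd_index Q0).trans (Subgroup.index_dvd_card _)
    have h2 : p ∣ Nat.card N := hdvd.trans h1
    have := Nat.Coprime.eq_one_of_dvd hN.symm h2
    exact (Fact.out : p.Prime).one_lt.ne' this
  obtain ⟨Q, hQ⟩ := hP.nonempty_fixed_point_of_prime_not_dvd_card (Sylow q N) hcard
  refine ⟨(Q : Subgroup N).map N.subtype, ?_, ?_, ?_⟩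
  · exact Subgroup.map_subtype_le _
  · rintro g hg _ ⟨x, hx, rfl⟩
    have h1 : (⟨g, hg⟩ : P) • Q = Q := hQ ⟨g, hg⟩
    have h2 : (⟨g, hg⟩ : P) • x ∈ ((⟨g, hg⟩ : P) • (Q : Subgroup N)) :=
      Subgroup.smul_mem_pointwise_smul x _ _ hx
    rw [← Sylow.pointwise_smul_def, h1] at h2
    refine ⟨(⟨g, hg⟩ : P) • x, h2, ?_⟩
    rfl
  · rw [Subgroup.card_map_of_injective N.subtype_injective]
    exact Sylow.card_eq_multiplicity Q

/-- In a nonabelian finite `p`-group there is a noncentral element all of whose commutators are central. -/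
theorem exists_second_center {P : Type*} [Group P] [Finite P] {p : ℕ} [Fact p.Prime] (hP : IsPGroup p P)
    (hna : ∃ u w : P, u * w ≠ w * u) :
    ∃ a : P, (∃ u : P, u * a ≠ a * u) ∧
      ∀ g u : P, u * (g * a * g⁻¹ * a⁻¹) = (g * a * g⁻¹ * a⁻¹) * u := by
  have hcne : Subgroup.center P ≠ ⊤ := by
    intro htop
    obtain ⟨u, w, huw⟩ := hna
    have : w ∈ Subgroup.center P := by rw [htop]; trivial
    exact huw (Subgroup.mem_center_iff.mp this u)
  have hnt : Nontrivial (P ⧸ Subgroup.center P) := by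
    rw [QuotientGroup.nontrivial_iff]
    exact hcne
  have hQ : IsPGroup p (P ⧸ Subgroup.center P) := hP.to_quotient _
  have hcn : Nontrivial (Subgroup.center (P ⧸ Subgroup.center P)) := hQ.center_nontrivial
  obtain ⟨⟨abar, habar⟩, hne⟩ := exists_ne (1 : Subgroup.center (P ⧸ Subgroup.center P))
  obtain ⟨a, rfl⟩ := QuotientGroup.mk_surjective abar
  have hane : (a : P ⧸ Subgroup.center P) ≠ 1 := by
    intro h1
    apply hne
    apply Subtype.ext
    exact h1
  have hanc : a ∉ Subgroup.center P := by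
    intro hac
    exact hane ((QuotientGroup.eq_one_iff a).mpr hac)
  refine ⟨a, ?_, ?_⟩
  · by_contra hcon
    push Not at hcon
    exact hanc (Subgroup.mem_center_iff.mpr hcon)
  · intro g u
    have hmem : g * a * g⁻¹ * a⁻¹ ∈ Subgroup.center P := by
      rw [← QuotientGroup.eq_one_iff]
      have hc := Subgroup.mem_center_iff.mp habar (g : P ⧸ Subgroup.center P)
      -- hc : ↑g * ↑a = ↑a * ↑g
      simp only [QuotientGroup.mk_mul, QuotientGroup.mk_inv]
      rw [hc]
      group
    exact Subgroup.mem_center_iff.mp hmem u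


/-- fixed points of `conjNormal g` are the elements commuting with `g`. -/
theorem conjNormal_fix_iff {G : Type*} [Group G] (N : Subgroup G) [N.Normal] (g : G) (v : N) :
    MulAut.conjNormal g v = v ↔ g * (v : G) = (v : G) * g := by
  constructor
  · intro h1
    have := congrArg Subtype.val h1
    rw [MulAut.conjNormal_apply] at this
    calc g * (v : G) = (g * v * g⁻¹) * g := by group
      _ = v * g := by rw [this]
  · intro h1
    apply Subtype.ext
    rw [MulAut.conjNormal_apply, h1]; group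

/-- version of `card_fix_cube_le` for a group with commutative multiplication -/
theorem card_fix_cube_le' {V : Type*} [Group V] [Finite V] (hcomm : ∀ a b : V, a * b = b * a)
    (T A Z : MulAut V)
    (hAT : A * T * A⁻¹ = T * Z) (hAZ : A * Z = Z * A) (hTZ : T * Z = Z * T)
    (h1 : ∀ v, Z v = v → v = 1) (h2 : ∀ v, Z (Z v) = v → v = 1) :
    (Nat.card {v : V // T v = v}) ^ 3 ≤ Nat.card V := by
  let _ : CommGroup V := { ‹Group V› with mul_comm := hcomm }
  exact card_fix_cube_le T A Z hAT hAZ hTZ h1 h2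


/-- The endgame of S2277: a minimal configuration is impossible. -/
theorem endgame {G : Type*} [Group G] [Finite G] (p : ℕ) [Fact p.Prime] (hp3 : 3 ≤ p) (P : Sylow p G)
    (N : Subgroup G) [hNn : N.Normal] (hN : (Nat.card N).Coprime p)
    (hNP : N ⊔ (P : Subgroup G) = ⊤)
    (C D : Set G) (hC : Subgroup.closure C = (P : Subgroup G))
    (hD : Subgroup.closure D = (P : Subgroup G))
    (h : ∀ x ∈ N, ∀ c ∈ C, ∀ d ∈ D, IsPGroup p ↥(Subgroup.closure ({x * c * x⁻¹, d} : Set G)))
    (ha : ∀ N1 : Subgroup G, N1 ≤ N → N1 ≠ N →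
      (∀ g ∈ (P : Subgroup G), ∀ x ∈ N1, g * x * g⁻¹ ∈ N1) →
        ∀ g ∈ (P : Subgroup G), ∀ x ∈ N1, g * x = x * g)
    (hb : ∀ M : Subgroup G, M.Normal → M ≠ ⊥ →
      ∀ g ∈ (P : Subgroup G), ∀ x ∈ N, g * x * g⁻¹ * x⁻¹ ∈ M) :
    ∀ g ∈ (P : Subgroup G), ∀ x ∈ N, g * x = x * g := by
  have hcommN : ∀ g : G, ∀ x ∈ N, g * x * g⁻¹ * x⁻¹ ∈ N := fun g x hx =>
    N.mul_mem (hNn.conj_mem x hx g) (N.inv_mem hx)
  have hfin : ∀ g x : G, g * x * g⁻¹ * x⁻¹ = 1 → g * x = x * g := by
    intro g x h1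
    calc g * x = (g * x * g⁻¹ * x⁻¹) * x * g := by group
      _ = x * g := by rw [h1, one_mul]
  -- E1
  have hE1 : ∀ g ∈ (P : Subgroup G), ∀ x ∈ N, g * (g * x * g⁻¹ * x⁻¹) = (g * x * g⁻¹ * x⁻¹) * g →
      g * x = x * g := by
    intro g hg x hx hcomm
    obtain ⟨k, hk⟩ := (IsPGroup.iff_orderOf.mp P.2) ⟨g, hg⟩
    have hgk : g ^ (p ^ k) = 1 := by
      have : orderOf g = p ^ k := by rw [← hk]; exact (Subgroup.orderOf_mk g hg).symm
      rw [← this]; exact pow_orderOf_eq_one g
    have hy : (g * x * g⁻¹ * x⁻¹) ^ (Nat.card N) = 1 := by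
      have := pow_card_eq_one' (G := N) (x := ⟨_, hcommN g x hx⟩)
      exact congrArg Subtype.val this
    exact hfin g x (comm_eq_one_of_commute hgk hy hN hcomm)
  have hPN : ∀ w, w ∈ (P : Subgroup G) → w ∈ N → w = 1 :=
    fun w h1 h2 => eq_one_of_mem_of_mem P N hN h1 h2
  have hsplit : ∀ t : G, ∃ n ∈ N, ∃ u ∈ (P : Subgroup G), t = n * u := by
    intro t
    have htop : t ∈ ((N ⊔ (P : Subgroup G) : Subgroup G) : Set G) := by rw [hNP]; trivial
    rw [Subgroup.normal_mul] at htop
    obtain ⟨n, hn, u, hu, rfl⟩ := Set.mem_mul.mp htop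
    exact ⟨n, hn, u, hu, rfl⟩
  -- trivial case P = ⊥
  by_cases hPbot : (P : Subgroup G) = ⊥
  · intro g hg x _
    rw [hPbot, Subgroup.mem_bot] at hg
    rw [hg, one_mul, mul_one]
  -- Step K : faithful
  by_cases hK : ∀ z ∈ (P : Subgroup G), (∀ v ∈ N, z * v = v * z) → z = 1
  swap
  · push Not at hK
    obtain ⟨z, hzP, hzN, hz1⟩ := hK
    have hKn : ((P : Subgroup G) ⊓ Subgroup.centralizer (N : Set G)).Normal := by
      constructor
      intro k hk t
      obtain ⟨n, hn, u, hu, rfl⟩ := hsplit t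
      have hk1 : u * k * u⁻¹ ∈ (P : Subgroup G) :=
        (P : Subgroup G).mul_mem ((P : Subgroup G).mul_mem hu hk.1) ((P : Subgroup G).inv_mem hu)
      have hk2 : u * k * u⁻¹ ∈ Subgroup.centralizer (N : Set G) := by
        rw [Subgroup.mem_centralizer_iff]
        intro v hv
        have hv' : u⁻¹ * v * u⁻¹⁻¹ ∈ N := hNn.conj_mem v hv u⁻¹
        have := (Subgroup.mem_centralizer_iff.mp hk.2) _ hv'
        calc v * (u * k * u⁻¹) = u * ((u⁻¹ * v * u⁻¹⁻¹) * k) * u⁻¹ := by group
          _ = u * (k * (u⁻¹ * v * u⁻¹⁻¹)) * u⁻¹ := by rw [this]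
          _ = (u * k * u⁻¹) * v := by group
      have hcomm : n * (u * k * u⁻¹) = (u * k * u⁻¹) * n :=
        (Subgroup.mem_centralizer_iff.mp hk2) n hn
      have : n * u * k * (n * u)⁻¹ = u * k * u⁻¹ := by
        calc n * u * k * (n * u)⁻¹ = (n * (u * k * u⁻¹)) * n⁻¹ := by group
          _ = (u * k * u⁻¹ * n) * n⁻¹ := by rw [hcomm]
          _ = u * k * u⁻¹ := by group
      rw [this]
      exact ⟨hk1, hk2⟩
    have hKne : ((P : Subgroup G) ⊓ Subgroup.centralizer (N : Set G)) ≠ ⊥ := by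
      intro hbot
      have : z ∈ ((P : Subgroup G) ⊓ Subgroup.centralizer (N : Set G)) := Subgroup.mem_inf.mpr ⟨hzP, by
        rw [Subgroup.mem_centralizer_iff]; intro v hv; exact (hzN v hv).symm⟩
      rw [hbot, Subgroup.mem_bot] at this
      exact hz1 this
    intro g hg x hx
    have h1 := hb _ hKn hKne g hg x hx
    exact hfin g x (hPN _ h1.1 (hcommN g x hx))
  -- Step q : N is a q-group
  by_cases hq : ∃ q : ℕ, q.Prime ∧ IsPGroup q N
  swap
  · push Not at hq
    intro g hg x hx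
    have hZ0 : N ⊓ Subgroup.centralizer ((P : Subgroup G) : Set G) = N := by
      apply Subgroup.eq_of_le_of_card_ge inf_le_left
      apply Nat.le_of_dvd Nat.card_pos
      rw [← Nat.factorization_prime_le_iff_dvd Nat.card_pos.ne' Nat.card_pos.ne']
      intro q hqp
      have : Fact q.Prime := ⟨hqp⟩
      obtain ⟨Q, hQN, hQinv, hQcard⟩ := exists_invariant_sylow (P : Subgroup G) P.2 N hN q
      have hQne : Q ≠ N := by
        intro hQN'
        apply hq q hqp
        rw [← hQN']
        exact IsPGroup.of_card hQcard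
      have hcent := ha Q hQN hQne hQinv
      have hle : Q ≤ N ⊓ Subgroup.centralizer ((P : Subgroup G) : Set G) := by
        intro v hv
        refine Subgroup.mem_inf.mpr ⟨hQN hv, ?_⟩
        rw [Subgroup.mem_centralizer_iff]
        intro g hg
        exact hcent g hg v hv
      have hdvd : Nat.card Q ∣ Nat.card ↥(N ⊓ Subgroup.centralizer ((P : Subgroup G) : Set G)) :=
        Subgroup.card_dvd_of_le hle
      rw [hQcard] at hdvd
      exact (Nat.Prime.pow_dvd_iff_le_factorization hqp Nat.card_pos.ne').mp hdvd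
    have : x ∈ N ⊓ Subgroup.centralizer ((P : Subgroup G) : Set G) := by rw [hZ0]; exact hx
    exact ((Subgroup.mem_centralizer_iff.mp this.2) g hg)
  obtain ⟨q, hqp, hqN⟩ := hq
  -- Step abelian
  by_cases hab : ∀ v ∈ N, ∀ w ∈ N, v * w = w * v
  swap
  · intro g hg x hx
    have hN'ne : ⁅N, N⁆ ≠ ⊥ := by
      intro hbot
      apply hab
      intro v hv w hw
      have := Subgroup.commutator_eq_bot_iff_le_centralizer.mp hbot
      exact ((Subgroup.mem_centralizer_iff.mp (this hv)) w hw).symm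
    have hN'le : ⁅N, N⁆ ≤ N := Subgroup.commutator_le_left N N
    have hN'ne' : ⁅N, N⁆ ≠ N := by
      intro heq
      have : Fact q.Prime := ⟨hqp⟩
      have hnil : Group.IsNilpotent N := hqN.isNilpotent
      have hnt : Nontrivial N := by
        rw [Subgroup.nontrivial_iff_ne_bot]
        intro hNbot
        apply hN'ne
        rw [eq_bot_iff, ← hNbot]
        exact hN'le
      have hlt := Group.IsSolvable.commutator_lt_top_of_nontrivial N
      have hmap := Subgroup.map_subtype_commutator N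
      rw [heq] at hmap
      have : commutator N = ⊤ := by
        apply Subgroup.map_injective N.subtype_injective
        rw [hmap, ← MonoidHom.range_eq_map, Subgroup.range_subtype]
      exact hlt.ne this
    have hcent := ha ⁅N, N⁆ hN'le hN'ne'
      (fun g _ v hv => (Subgroup.commutator_normal N N).conj_mem v hv g)
    apply hE1 g hg x hx
    have h1 := hb ⁅N, N⁆ (Subgroup.commutator_normal N N) hN'ne g hg x hx
    exact hcent g hg _ h1
  -- Step Z0
  by_cases hZ0 : ∀ v ∈ N, (∀ g ∈ (P : Subgroup G), g * v = v * g) → v = 1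
  swap
  · push Not at hZ0
    obtain ⟨v0, hv0N, hv0c, hv01⟩ := hZ0
    intro g hg x hx
    have hZn : (N ⊓ Subgroup.centralizer ((P : Subgroup G) : Set G)).Normal := by
      constructor
      intro k hk t
      obtain ⟨n, hn, u, hu, rfl⟩ := hsplit t
      have h1 : u * k * u⁻¹ = k := by
        have := (Subgroup.mem_centralizer_iff.mp hk.2) u hu
        rw [this]; group
      have h2 : n * u * k * (n * u)⁻¹ = k := by
        calc n * u * k * (n * u)⁻¹ = n * (u * k * u⁻¹) * n⁻¹ := by group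
          _ = n * k * n⁻¹ := by rw [h1]
          _ = k * n * n⁻¹ := by rw [hab n hn k hk.1]
          _ = k := by group
      rw [h2]; exact hk
    have hZne : (N ⊓ Subgroup.centralizer ((P : Subgroup G) : Set G)) ≠ ⊥ := by
      intro hbot
      have : v0 ∈ (N ⊓ Subgroup.centralizer ((P : Subgroup G) : Set G)) := Subgroup.mem_inf.mpr ⟨hv0N, by
        rw [Subgroup.mem_centralizer_iff]; intro g hg; exact hv0c g hg⟩
      rw [hbot, Subgroup.mem_bot] at this
      exact hv01 this
    apply hE1 g hg x hx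
    have h1 := hb _ hZn hZne g hg x hx
    exact ((Subgroup.mem_centralizer_iff.mp h1.2) g hg)
  -- Step C5
  have hC5 : ∀ z ∈ (P : Subgroup G), (∀ u ∈ (P : Subgroup G), u * z = z * u) → z ≠ 1 →
      ∀ v ∈ N, z * v = v * z → v = 1 := by
    intro z hzP hzc hz1 v hv hzv
    have hinv : ∀ g ∈ (P : Subgroup G), ∀ x ∈ N ⊓ Subgroup.centralizer ({z} : Set G),
        g * x * g⁻¹ ∈ N ⊓ Subgroup.centralizer ({z} : Set G) := by
      intro g hg x hx
      obtain ⟨hx1, hx2⟩ := Subgroup.mem_inf.mp hx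
      refine Subgroup.mem_inf.mpr ⟨hNn.conj_mem x hx1 g, ?_⟩
      have h1 : z * x = x * z := (Subgroup.mem_centralizer_singleton_iff.mp hx2).symm
      rw [Subgroup.mem_centralizer_singleton_iff]
      have h2 := hzc g hg
      have h3 : z * g⁻¹ = g⁻¹ * z := by
        calc z * g⁻¹ = g⁻¹ * (g * z) * g⁻¹ := by group
          _ = g⁻¹ * (z * g) * g⁻¹ := by rw [h2]
          _ = g⁻¹ * z := by group
      symm
      calc z * (g * x * g⁻¹) = (z * g) * x * g⁻¹ := by group
        _ = (g * z) * x * g⁻¹ := by rw [h2]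
        _ = g * (z * x) * g⁻¹ := by group
        _ = g * (x * z) * g⁻¹ := by rw [h1]
        _ = g * x * (z * g⁻¹) := by group
        _ = g * x * (g⁻¹ * z) := by rw [h3]
        _ = g * x * g⁻¹ * z := by group
    have hne : N ⊓ Subgroup.centralizer ({z} : Set G) ≠ N := by
      intro heq
      apply hz1
      apply hK z hzP
      intro w hw
      have : w ∈ N ⊓ Subgroup.centralizer ({z} : Set G) := by rw [heq]; exact hw
      exact (Subgroup.mem_centralizer_singleton_iff.mp (Subgroup.mem_inf.mp this).2).symm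
    have hcent := ha _ inf_le_left hne hinv
    apply hZ0 v hv
    intro g hg
    exact hcent g hg v (Subgroup.mem_inf.mpr ⟨hv, Subgroup.mem_centralizer_singleton_iff.mpr hzv.symm⟩)
  have hcommN' : ∀ a b : N, a * b = b * a := by
    intro a b
    apply Subtype.ext
    exact hab a a.2 b b.2
  -- good elements
  have hgood : ∃ M : Subgroup G, ¬ ((P : Subgroup G) ≤ M) ∧ ∀ g ∈ (P : Subgroup G), g ∉ M →
      (Nat.card {v : N // MulAut.conjNormal g v = v}) ^ 3 ≤ Nat.card N := by
    by_cases hPab : ∀ u ∈ (P : Subgroup G), ∀ w ∈ (P : Subgroup G), u * w = w * u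
    · refine ⟨⊥, ?_, ?_⟩
      · intro hle
        exact hPbot (le_bot_iff.mp hle)
      · intro g hg hgM
        have hg1 : g ≠ 1 := fun h1 => hgM (by rw [h1]; exact Subgroup.one_mem _)
        have hall : ∀ v : {v : N // MulAut.conjNormal g v = v}, (v : N) = 1 := by
          intro ⟨v, hv⟩
          apply Subtype.ext
          exact hC5 g hg (fun u hu => hPab u hu g hg) hg1 v v.2 ((conjNormal_fix_iff N g v).mp hv)
        have hss : Subsingleton {v : N // MulAut.conjNormal g v = v} :=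
          ⟨fun a b => Subtype.ext (by rw [hall a, hall b])⟩
        have hc1 := Finite.card_le_one_iff_subsingleton.mpr hss
        calc (Nat.card {v : N // MulAut.conjNormal g v = v}) ^ 3 ≤ 1 ^ 3 :=
              Nat.pow_le_pow_left hc1 3
          _ = 1 := one_pow 3
          _ ≤ Nat.card N := Nat.card_pos
    · push Not at hPab
      obtain ⟨u0, hu0, w0, hw0, huw0⟩ := hPab
      obtain ⟨⟨a, haP⟩, ⟨⟨u1, hu1P⟩, hu1⟩, hacent⟩ :=
        exists_second_center (P := (P : Subgroup G)) P.2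
          ⟨⟨u0, hu0⟩, ⟨w0, hw0⟩, fun heq => huw0 (congrArg Subtype.val heq)⟩
      have hacent' : ∀ g ∈ (P : Subgroup G), ∀ u ∈ (P : Subgroup G),
          u * (g * a * g⁻¹ * a⁻¹) = (g * a * g⁻¹ * a⁻¹) * u := by
        intro g hg u hu
        exact congrArg Subtype.val (hacent ⟨g, hg⟩ ⟨u, hu⟩)
      refine ⟨Subgroup.centralizer {a}, ?_, ?_⟩
      · intro hle
        apply hu1
        apply Subtype.ext
        have := Subgroup.mem_centralizer_singleton_iff.mp (hle hu1P)
        exact this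
      · intro g hg hgM
        have hga : a * g ≠ g * a := fun h1 => hgM (Subgroup.mem_centralizer_singleton_iff.mpr h1.symm)
        obtain ⟨z, hz⟩ : ∃ z, z = g⁻¹ * a * g⁻¹⁻¹ * a⁻¹ := ⟨_, rfl⟩
        have hginv : g⁻¹ ∈ (P : Subgroup G) := (P : Subgroup G).inv_mem hg
        have hzP : z ∈ (P : Subgroup G) := by
          rw [hz]
          exact (P : Subgroup G).mul_mem ((P : Subgroup G).mul_mem
            ((P : Subgroup G).mul_mem hginv haP) ((P : Subgroup G).inv_mem hginv))
            ((P : Subgroup G).inv_mem haP)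
        have hzc : ∀ u ∈ (P : Subgroup G), u * z = z * u := by
          intro u hu; rw [hz]; exact hacent' g⁻¹ hginv u hu
        have hagz : a * g * a⁻¹ = g * z := by rw [hz]; group
        have hz1 : z ≠ 1 := by
          intro h1
          apply hga
          rw [h1, mul_one] at hagz
          calc a * g = (a * g * a⁻¹) * a := by group
            _ = g * a := by rw [hagz]
        have hzzP : z * z ∈ (P : Subgroup G) := (P : Subgroup G).mul_mem hzP hzP
        have hzzc : ∀ u ∈ (P : Subgroup G), u * (z * z) = (z * z) * u := by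
          intro u hu
          rw [← mul_assoc, hzc u hu, mul_assoc, hzc u hu, mul_assoc]
        have hzz1 : z * z ≠ 1 := by
          intro h1
          apply hz1
          obtain ⟨k, hk⟩ := (IsPGroup.iff_orderOf.mp P.2) ⟨z, hzP⟩
          have hk' : orderOf z = p ^ k := by rw [← hk]; exact (Subgroup.orderOf_mk z hzP).symm
          have h2 : orderOf z ∣ 2 := orderOf_dvd_of_pow_eq_one (by rw [pow_two]; exact h1)
          rw [hk'] at h2
          have hk0 : k = 0 := by
            by_contra hk0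
            have hp2 : p ∣ 2 := (dvd_pow_self p hk0).trans h2
            have := Nat.le_of_dvd (by norm_num) hp2
            omega
          rw [hk0, pow_zero] at hk'
          exact orderOf_eq_one_iff.mp hk'
        refine card_fix_cube_le' hcommN' (MulAut.conjNormal g) (MulAut.conjNormal a)
          (MulAut.conjNormal z) ?_ ?_ ?_ ?_ ?_
        · rw [← map_inv, ← map_mul, ← map_mul, ← map_mul, hagz]
        · rw [← map_mul, ← map_mul, hzc a haP]
        · rw [← map_mul, ← map_mul, hzc g hg]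
        · intro v hv
          apply Subtype.ext
          exact hC5 z hzP hzc hz1 v v.2 ((conjNormal_fix_iff N z v).mp hv)
        · intro v hv
          apply Subtype.ext
          have hv' : MulAut.conjNormal (z * z) v = v := by
            rw [map_mul, MulAut.mul_apply]; exact hv
          exact hC5 (z * z) hzzP hzzc hzz1 v v.2 ((conjNormal_fix_iff N (z * z) v).mp hv')
  obtain ⟨M, hPM, hMgood⟩ := hgood
  have hCP : ∀ c ∈ C, c ∈ (P : Subgroup G) := fun c hc => by
    rw [← hC]; exact Subgroup.subset_closure hc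
  have hDP : ∀ d ∈ D, d ∈ (P : Subgroup G) := fun d hd => by
    rw [← hD]; exact Subgroup.subset_closure hd
  obtain ⟨c, hcC, hcM⟩ : ∃ c ∈ C, c ∉ M := by
    by_contra hcon
    push Not at hcon
    apply hPM
    rw [← hC, Subgroup.closure_le]
    exact hcon
  obtain ⟨d, hdD, hdM⟩ : ∃ d ∈ D, d ∉ M := by
    by_contra hcon
    push Not at hcon
    apply hPM
    rw [← hD, Subgroup.closure_le]
    exact hcon
  have hcg := hMgood c (hCP c hcC) hcM
  have hdg := hMgood d (hDP d hdD) hdM
  have hle : Nat.card N ≤ Nat.card {v : N // MulAut.conjNormal d v = v} *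
      Nat.card {v : N // MulAut.conjNormal c v = v} := by
    have hch : ∀ x : N, ∃ y : N, (d * (y : G) = (y : G) * d) ∧
        (c * ((y⁻¹ * x : N) : G) = ((y⁻¹ * x : N) : G) * c) := by
      intro x
      obtain ⟨y, hyN, hy1, hy2⟩ := exists_factor P N hN hNP x.2 (hCP c hcC) (hDP d hdD)
        (h x x.2 c hcC d hdD)
      exact ⟨⟨y, hyN⟩, hy1.symm, hy2.symm⟩
    choose φ hφ using hch
    let f : N → {v : N // MulAut.conjNormal d v = v} × {v : N // MulAut.conjNormal c v = v} :=
      fun x => (⟨φ x, (conjNormal_fix_iff N d _).mpr (hφ x).1⟩,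
        ⟨(φ x)⁻¹ * x, (conjNormal_fix_iff N c _).mpr (hφ x).2⟩)
    have hf : Function.Injective f := by
      intro x1 x2 h12
      have h1 : φ x1 = φ x2 := congrArg (fun t => t.1.1) h12
      have h2 : (φ x1)⁻¹ * x1 = (φ x2)⁻¹ * x2 := congrArg (fun t => t.2.1) h12
      rw [h1] at h2; exact mul_left_cancel h2
    have := Nat.card_le_card_of_injective f hf
    rwa [Nat.card_prod] at this
  have hN1 : Nat.card N ≤ 1 := by
    obtain ⟨n, hn⟩ : ∃ n, n = Nat.card N := ⟨_, rfl⟩
    obtain ⟨a, ha'⟩ : ∃ a, a = Nat.card {v : N // MulAut.conjNormal d v = v} := ⟨_, rfl⟩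
    obtain ⟨b, hb'⟩ : ∃ b, b = Nat.card {v : N // MulAut.conjNormal c v = v} := ⟨_, rfl⟩
    rw [← hn, ← ha', ← hb'] at hle
    rw [← hn, ← ha'] at hdg
    rw [← hn, ← hb'] at hcg
    rw [← hn]
    have hnpos : 0 < n := by rw [hn]; exact Nat.card_pos
    by_contra hgt
    push Not at hgt
    have h3 : n ^ 3 ≤ n ^ 2 := calc n ^ 3 ≤ (a * b) ^ 3 := Nat.pow_le_pow_left hle 3
      _ = a ^ 3 * b ^ 3 := by ring
      _ ≤ n * n := Nat.mul_le_mul hdg hcg
      _ = n ^ 2 := by ring
    have h4 : n ^ 2 * n ≤ n ^ 2 * 1 := by rw [← pow_succ]; simpa using h3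
    have := Nat.le_of_mul_le_mul_left h4 (by positivity)
    omega
  intro g hg x hx
  have hss : Subsingleton N := Finite.card_le_one_iff_subsingleton.mp hN1
  have : (⟨x, hx⟩ : N) = 1 := Subsingleton.elim _ _
  have hx1 : x = 1 := congrArg Subtype.val this
  rw [hx1, mul_one, one_mul]

end Cfsg.Agent.Lib.Helper06
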