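import Cfsg.Agent.Lib.Helper06.CoprimePairs

/-!
Helper06: the induction for S2277.
-/

namespace Cfsg.Agent.Lib.Helper06

open scoped Pointwise

universe u

/-- Pull back the `p`-group property of a closure along an injective homomorphism. -/
theorem isPGroup_closure_of_image {G H : Type*} [Group G] [Group H] (f : H →* G)
    (hf : Function.Injective f) (p : ℕ) (S : Set H)
    (hS : IsPGroup p ↥(Subgroup.closure (f '' S))) : IsPGroup p ↥(Subgroup.closure S) := by
  rintro ⟨g, hg⟩
  have hfg : f g ∈ Subgroup.closure (f '' S) := by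
    rw [← MonoidHom.map_closure]
    exact Subgroup.mem_map_of_mem f hg
  obtain ⟨k, hk⟩ := hS ⟨f g, hfg⟩
  refine ⟨k, ?_⟩
  have hk' : f g ^ p ^ k = 1 := by
    have := congrArg Subtype.val hk
    simpa using this
  apply Subtype.ext
  apply hf
  simp [hk']

/-- Push forward the `p`-group property of a closure along a homomorphism. -/
theorem isPGroup_closure_image {G H : Type*} [Group G] [Group H] (f : G →* H)
    (p : ℕ) (S : Set G)
    (hS : IsPGroup p ↥(Subgroup.closure S)) : IsPGroup p ↥(Subgroup.closure (f '' S)) := by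
  rintro ⟨g, hg⟩
  rw [← MonoidHom.map_closure] at hg
  obtain ⟨y, hy, rfl⟩ := hg
  obtain ⟨k, hk⟩ := hS ⟨y, hy⟩
  refine ⟨k, ?_⟩
  have hk' : y ^ p ^ k = 1 := by
    have := congrArg Subtype.val hk
    simpa using this
  apply Subtype.ext
  simp [← map_pow, hk']

theorem coprimePairs_main : ∀ n : ℕ, ∀ (G : Type u) [Group G] [Finite G], Nat.card G = n →
    ∀ (p : ℕ) [Fact p.Prime], 3 ≤ p → ∀ (P : Sylow p G) (N : Subgroup G) [N.Normal],
      (Nat.card N).Coprime p → N ⊔ (P : Subgroup G) = ⊤ →
      ∀ (C D : Set G), Subgroup.closure C = (P : Subgroup G) →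
        Subgroup.closure D = (P : Subgroup G) →
      (∀ x ∈ N, ∀ c ∈ C, ∀ d ∈ D, IsPGroup p ↥(Subgroup.closure ({x * c * x⁻¹, d} : Set G))) →
      ∀ g ∈ (P : Subgroup G), ∀ x ∈ N, g * x = x * g := by
  intro n
  induction n using Nat.strong_induction_on with
  | _ n ih =>
  intro G _ _ hn p _ hp3 P N _ hN hNP C D hC hD h
  have hCP : C ⊆ ((P : Subgroup G) : Set G) := by
    rw [← hC]; exact Subgroup.subset_closure
  have hDP : D ⊆ ((P : Subgroup G) : Set G) := by
    rw [← hD]; exact Subgroup.subset_closure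
  apply endgame p hp3 P N hN hNP C D hC hD h
  · -- (a) proper `P`-invariant subgroups of `N`
    intro N1 hN1 hne hinv g hg x hx
    set H : Subgroup G := N1 ⊔ (P : Subgroup G) with hH
    have hPH : (P : Subgroup G) ≤ H := le_sup_right
    have hN1H : N1 ≤ H := le_sup_left
    have hPnorm : (P : Subgroup G) ≤ Subgroup.normalizer (N1 : Set G) := by
      intro q hq
      rw [Subgroup.mem_normalizer_iff]
      intro y
      constructor
      · intro hy; exact hinv q hq y hy
      · intro hy
        have := hinv q⁻¹ ((P : Subgroup G).inv_mem hq) _ hy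
        have e : q⁻¹ * (q * y * q⁻¹) * q⁻¹⁻¹ = y := by group
        rwa [e] at this
    have hHnorm : H ≤ Subgroup.normalizer (N1 : Set G) := sup_le Subgroup.le_normalizer hPnorm
    have hHne : H ≠ ⊤ := by
      intro htop
      apply hne
      apply le_antisymm hN1
      intro y hy
      have hyH : y ∈ (H : Set G) := by rw [htop]; trivial
      rw [hH, Subgroup.coe_mul_of_right_le_normalizer_left N1 (P : Subgroup G) hPnorm] at hyH
      obtain ⟨a, ha, b, hb, hab⟩ := hyH
      change a * b = y at hab
      have hbN : b ∈ N := by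
        have : b = a⁻¹ * y := by rw [← hab]; group
        rw [this]
        exact N.mul_mem (N.inv_mem (hN1 ha)) hy
      have hb1 : b = 1 := eq_one_of_mem_of_mem P N hN hb hbN
      have : y = a := by rw [← hab, hb1, mul_one]
      rw [this]; exact ha
    have hlt : Nat.card H < n := by
      rw [← hn]
      apply lt_of_le_of_ne (Subgroup.card_le_card_group H)
      intro heq
      exact hHne ((Subgroup.card_eq_iff_eq_top H).mp heq)
    have hnormal : (N1.subgroupOf H).Normal :=
      (Subgroup.normal_subgroupOf_iff_le_normalizer hN1H).mpr hHnorm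
    have hcop : (Nat.card (N1.subgroupOf H)).Coprime p := by
      rw [Nat.card_congr (Subgroup.subgroupOfEquivOfLe hN1H).toEquiv]
      exact Nat.Coprime.coprime_dvd_left (Subgroup.card_dvd_of_le hN1) hN
    have hsup : N1.subgroupOf H ⊔ ((P.subtype hPH : Sylow p H) : Subgroup H) = ⊤ := by
      rw [Sylow.coe_subtype, ← Subgroup.subgroupOf_sup hN1H hPH]
      exact Subgroup.subgroupOf_self H
    have hclos : ∀ S : Set G, Subgroup.closure S = (P : Subgroup G) →
        Subgroup.closure (H.subtype ⁻¹' S) = ((P.subtype hPH : Sylow p H) : Subgroup H) := by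
      intro S hS
      have hSP : S ⊆ ((P : Subgroup G) : Set G) := by
        rw [← hS]; exact Subgroup.subset_closure
      apply Subgroup.map_injective H.subtype_injective
      rw [MonoidHom.map_closure, Sylow.coe_subtype, Subgroup.map_subgroupOf_eq_of_le hPH,
        Set.image_preimage_eq_of_subset, hS]
      intro s hs
      exact ⟨⟨s, hPH (hSP hs)⟩, rfl⟩
    have hpg : ∀ x ∈ N1.subgroupOf H, ∀ c ∈ H.subtype ⁻¹' C, ∀ d ∈ H.subtype ⁻¹' D,
        IsPGroup p ↥(Subgroup.closure ({x * c * x⁻¹, d} : Set H)) := by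
      intro x hx c hc d hd
      apply isPGroup_closure_of_image H.subtype H.subtype_injective
      have := h (x : G) (hN1 (Subgroup.mem_subgroupOf.mp hx)) (c : G) hc (d : G) hd
      have e : (H.subtype '' ({x * c * x⁻¹, d} : Set H)) =
          ({(x : G) * (c : G) * (x : G)⁻¹, (d : G)} : Set G) := by
        rw [Set.image_pair]
        simp
      rw [e]
      exact this
    have key := @ih (Nat.card H) hlt H _ _ rfl p _ hp3 (P.subtype hPH) (N1.subgroupOf H) hnormal
      hcop hsup (H.subtype ⁻¹' C) (H.subtype ⁻¹' D) (hclos C hC) (hclos D hD) hpg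
    have hgP : (⟨g, hPH hg⟩ : H) ∈ ((P.subtype hPH : Sylow p H) : Subgroup H) := by
      rw [Sylow.coe_subtype, Subgroup.mem_subgroupOf]
      exact hg
    have hxN : (⟨x, hN1H hx⟩ : H) ∈ N1.subgroupOf H := by
      rw [Subgroup.mem_subgroupOf]
      exact hx
    have := key _ hgP _ hxN
    exact congrArg Subtype.val this
  · -- (b) quotients by nontrivial normal subgroups
    intro M hM hMne g hg x hx
    have hlt : Nat.card (G ⧸ M) < n := by
      rw [← hn, Subgroup.card_eq_card_quotient_mul_card_subgroup M]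
      have h1 : 1 < Nat.card M := (Subgroup.one_lt_card_iff_ne_bot M).mpr hMne
      have h0 : 0 < Nat.card (G ⧸ M) := Nat.card_pos
      nlinarith
    have hsurj := QuotientGroup.mk'_surjective M
    set π : G →* G ⧸ M := QuotientGroup.mk' M with hπ
    have hnormal : (N.map π).Normal := Subgroup.Normal.map inferInstance π hsurj
    have hcop : (Nat.card (N.map π)).Coprime p :=
      Nat.Coprime.coprime_dvd_left (Subgroup.card_map_dvd N π) hN
    have hsup : N.map π ⊔ ((P.mapSurjective hsurj : Sylow p (G ⧸ M)) : Subgroup (G ⧸ M)) = ⊤ := by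
      rw [Sylow.coe_mapSurjective, ← Subgroup.map_sup, hNP]
      exact Subgroup.map_top_of_surjective π hsurj
    have hclos : ∀ S : Set G, Subgroup.closure S = (P : Subgroup G) →
        Subgroup.closure (π '' S) =
          ((P.mapSurjective hsurj : Sylow p (G ⧸ M)) : Subgroup (G ⧸ M)) := by
      intro S hS
      rw [Sylow.coe_mapSurjective, ← MonoidHom.map_closure, hS]
    have hpg : ∀ x ∈ N.map π, ∀ c ∈ π '' C, ∀ d ∈ π '' D,
        IsPGroup p ↥(Subgroup.closure ({x * c * x⁻¹, d} : Set (G ⧸ M))) := by
      rintro _ ⟨x, hx, rfl⟩ _ ⟨c, hc, rfl⟩ _ ⟨d, hd, rfl⟩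
      have := isPGroup_closure_image π p _ (h x hx c hc d hd)
      have e : (π '' ({x * c * x⁻¹, d} : Set G)) =
          ({π x * π c * (π x)⁻¹, π d} : Set (G ⧸ M)) := by
        rw [Set.image_pair]
        simp
      rw [e] at this
      exact this
    have key := @ih (Nat.card (G ⧸ M)) hlt (G ⧸ M) _ _ rfl p _ hp3 (P.mapSurjective hsurj)
      (N.map π) hnormal hcop hsup (π '' C) (π '' D) (hclos C hC) (hclos D hD) hpg
    have hgP : π g ∈ ((P.mapSurjective hsurj : Sylow p (G ⧸ M)) : Subgroup (G ⧸ M)) := by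
      rw [Sylow.coe_mapSurjective]
      exact Subgroup.mem_map_of_mem π hg
    have hxN : π x ∈ N.map π := Subgroup.mem_map_of_mem π hx
    have hcomm := key _ hgP _ hxN
    have : π (g * x * g⁻¹ * x⁻¹) = 1 := by
      rw [map_mul, map_mul, map_mul, map_inv, map_inv, hcomm]
      group
    rw [hπ, QuotientGroup.mk'_apply, QuotientGroup.eq_one_iff] at this
    exact this

end Cfsg.Agent.Lib.Helper06
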