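import Mathlib
import Cfsg.Agent.Lib.Helper06.NormalFour
import Cfsg.Agent.Lib.Helper06.ConjCount

set_option autoImplicit false

namespace Cfsg.Agent.Lib.Helper06

open Subgroup

variable {S : Type*} [Group S]

/-- Adjoin to a finite subgroup `U` an involution `y ∉ U` centralizing `U`: the result
`U ∪ yU` is a subgroup of twice the order. -/
theorem exists_double (U : Subgroup S) [Finite U] (y : S) (hy2 : y ^ 2 = 1) (hyU : y ∉ U)
    (hcomm : ∀ g ∈ U, y * g = g * y) :
    ∃ F : Subgroup S, U ≤ F ∧ y ∈ F ∧ Nat.card F = 2 * Nat.card U ∧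
      (∀ f ∈ F, f ∈ U ∨ y * f ∈ U) := by
  have hyy : y * y = 1 := by rw [← pow_two]; exact hy2
  have hyinv : y⁻¹ = y := inv_eq_of_mul_eq_one_left hyy
  have hc' : ∀ g, y * g ∈ U → y * g = g * y := by
    intro g hg
    have h1 := hcomm _ hg
    have : y * (y * g) = y * (g * y) := by rw [h1]; group
    exact mul_left_cancel this
  let F : Subgroup S :=
    { carrier := {g | g ∈ U ∨ y * g ∈ U}
      mul_mem' := by
        rintro a b (ha | ha) (hb | hb)
        · left; exact U.mul_mem ha hb
        · right
          have : y * (a * b) = a * (y * b) := by rw [← mul_assoc, hcomm a ha, mul_assoc]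
          rw [this]; exact U.mul_mem ha hb
        · right; rw [← mul_assoc]; exact U.mul_mem ha hb
        · left
          have h1 := hc' a ha
          have : a * b = (y * a) * (y * b) := by
            calc a * b = a * (y * y) * b := by rw [hyy, mul_one]
              _ = (a * y) * (y * b) := by group
              _ = (y * a) * (y * b) := by rw [h1]
          rw [this]; exact U.mul_mem ha hb
      one_mem' := Or.inl U.one_mem
      inv_mem' := by
        rintro a (ha | ha)
        · left; exact U.inv_mem ha
        · right
          have h1 := hc' a ha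
          have : y * a⁻¹ = (y * a)⁻¹ := by
            rw [h1, mul_inv_rev, hyinv]
          rw [this]; exact U.inv_mem ha }
  have hFmem : ∀ g, g ∈ F ↔ g ∈ U ∨ y * g ∈ U := fun g => Iff.rfl
  refine ⟨F, fun g hg => Or.inl hg, ?_, ?_, fun f hf => hf⟩
  · right; rw [hyy]; exact U.one_mem
  · have hset : (F : Set S) = (U : Set S) ∪ (fun g => y * g) '' (U : Set S) := by
      ext g
      simp only [SetLike.mem_coe, Set.mem_union, Set.mem_image]
      rw [hFmem]
      constructor
      · rintro (h | h)
        · exact Or.inl h
        · exact Or.inr ⟨y * g, h, by rw [← mul_assoc, hyy, one_mul]⟩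
      · rintro (h | ⟨h, hh, rfl⟩)
        · exact Or.inl h
        · right; rw [← mul_assoc, hyy, one_mul]; exact hh
    have hdisj : Disjoint (U : Set S) ((fun g => y * g) '' (U : Set S)) := by
      rw [Set.disjoint_left]
      rintro g hg ⟨h, hh, rfl⟩
      apply hyU
      have : y = (y * h) * h⁻¹ := by group
      rw [this]; exact U.mul_mem hg (U.inv_mem hh)
    have hfin : (U : Set S).Finite := Set.toFinite _
    have h1 : Nat.card F = Set.ncard (F : Set S) := (Nat.card_coe_set_eq (F : Set S))
    have h2 : Nat.card U = Set.ncard (U : Set S) := (Nat.card_coe_set_eq (U : Set S))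
    rw [h1, hset, Set.ncard_union_eq hdisj hfin (hfin.image _),
      Set.ncard_image_of_injective _ (mul_right_injective y), ← h2]
    ring

/-- if `u` has at most the two conjugates `u`, `uz` (with `z` central), its centralizer has index
at most `2`. -/
theorem centralizer_index_le_two (z u : S) (hz2 : z ^ 2 = 1) (hzc : z ∈ center S)
    (hconj : ∀ s : S, s * u * s⁻¹ = u ∨ s * u * s⁻¹ = u * z) :
    centralizer ({u} : Set S) = ⊤ ∨ (centralizer ({u} : Set S)).index = 2 := by
  have hzcomm : ∀ s : S, s * z = z * s := fun s => Subgroup.mem_center_iff.mp hzc s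
  have hzz : z * z = 1 := by rw [← pow_two]; exact hz2
  have hmem : ∀ g : S, g ∈ centralizer ({u} : Set S) ↔ g * u * g⁻¹ = u := by
    intro g
    rw [mem_centralizer_singleton_iff]
    constructor
    · intro h; rw [← h]; group
    · intro h
      calc u * g = (g * u * g⁻¹) * g := by rw [h]
        _ = g * u := by group
  by_cases hall : ∀ a : S, a * u * a⁻¹ = u
  · left
    rw [eq_top_iff]
    intro g _
    exact (hmem g).mpr (hall g)
  · right
    push Not at hall
    obtain ⟨a, ha⟩ := hall
    have ha' : a * u * a⁻¹ = u * z := (hconj a).resolve_left ha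
    have huz : u * z ≠ u := fun h => ha (ha'.trans h)
    rw [Subgroup.index_eq_two_iff]
    refine ⟨a, fun b => ?_⟩
    have hba : (b * a) * u * (b * a)⁻¹ = (b * u * b⁻¹) * z := by
      calc (b * a) * u * (b * a)⁻¹ = b * (a * u * a⁻¹) * b⁻¹ := by group
        _ = b * (u * z) * b⁻¹ := by rw [ha']
        _ = (b * u * b⁻¹) * (b * z * b⁻¹) := by group
        _ = (b * u * b⁻¹) * z := by
            congr 1
            rw [hzcomm b]; group
    by_cases hb : b * u * b⁻¹ = u
    · right
      refine ⟨(hmem b).mpr hb, ?_⟩
      rw [hmem, hba, hb]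
      exact huz
    · left
      have hb' := (hconj b).resolve_left hb
      refine ⟨?_, fun h => hb ((hmem b).mp h)⟩
      rw [hmem, hba, hb', mul_assoc, hzz, mul_one]

/-- Main `2`-group step: if `{1, z, u, uz}` is a normal four-subgroup of the finite group `S`
(with `z` central) and `S` contains an elementary abelian subgroup of order `8`, then the
centralizer of every involution `y` commuting with `u` contains such a subgroup. -/
theorem exists_E8_le_centralizer [Finite S]
    (z u : S) (hz1 : z ≠ 1) (hz2 : z ^ 2 = 1) (hu1 : u ≠ 1) (hu2 : u ^ 2 = 1) (huz : u ≠ z)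
    (hzc : z ∈ center S) (hconj : ∀ s : S, s * u * s⁻¹ = u ∨ s * u * s⁻¹ = u * z)
    (E : Subgroup S) (hE8 : Nat.card E = 8) (hE2 : ∀ e ∈ E, e ^ 2 = 1)
    (y : S) (hy2 : y ^ 2 = 1) (hyu : y * u = u * y) :
    ∃ F : Subgroup S, F ≤ centralizer ({y} : Set S) ∧ Nat.card F = 8 ∧ ∀ f ∈ F, f ^ 2 = 1 := by
  have hzcomm : ∀ s : S, s * z = z * s := fun s => Subgroup.mem_center_iff.mp hzc s
  have hzz : z * z = 1 := by rw [← pow_two]; exact hz2
  have huu : u * u = 1 := by rw [← pow_two]; exact hu2
  -- U₀ = ⟨z⟩
  have hcardZ : Nat.card (zpowers z) = 2 := by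
    rw [Nat.card_zpowers]
    exact orderOf_eq_prime hz2 hz1
  have huZ : u ∉ zpowers z := by
    intro h
    rcases mem_zpowers_of_sq_one hz2 h with h | h
    · exact hu1 h
    · exact huz h
  obtain ⟨U, hZU, huU, hUcard, hUmem⟩ := exists_double (zpowers z) u hu2 huZ (by
    intro g hg
    rcases mem_zpowers_of_sq_one hz2 hg with h | h
    · rw [h, mul_one, one_mul]
    · rw [h]; exact hzcomm u)
  rw [hcardZ] at hUcard
  have hzU : z ∈ U := hZU (mem_zpowers z)
  have hUelts : ∀ g ∈ U, g = 1 ∨ g = z ∨ g = u ∨ g = u * z := by
    intro g hg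
    rcases hUmem g hg with h | h
    · rcases mem_zpowers_of_sq_one hz2 h with h | h
      · exact Or.inl h
      · exact Or.inr (Or.inl h)
    · rcases mem_zpowers_of_sq_one hz2 h with h | h
      · right; right; left
        have : g = u * (u * g) := by rw [← mul_assoc, huu, one_mul]
        rw [this, h, mul_one]
      · right; right; right
        have : g = u * (u * g) := by rw [← mul_assoc, huu, one_mul]
        rw [this, h]
  -- anything commuting with `u` commutes with all of `U`
  have hUcomm : ∀ t : S, t * u = u * t → ∀ g ∈ U, t * g = g * t := by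
    intro t ht g hg
    rcases hUelts g hg with h | h | h | h
    · rw [h, mul_one, one_mul]
    · rw [h]; exact hzcomm t
    · rw [h]; exact ht
    · rw [h, ← mul_assoc, ht, mul_assoc, hzcomm t, mul_assoc]
  have hU2 : ∀ g ∈ U, g ^ 2 = 1 := by
    intro g hg
    rcases hUelts g hg with h | h | h | h
    · rw [h, one_pow]
    · rw [h]; exact hz2
    · rw [h]; exact hu2
    · rw [h, pow_two]
      calc u * z * (u * z) = u * (z * u) * z := by group
        _ = u * (u * z) * z := by rw [← hzcomm u]
        _ = (u * u) * (z * z) := by group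
        _ = 1 := by rw [huu, hzz, one_mul]
  -- the key step: given an involution `w ∉ U` commuting with `u` and `y`, with `y ∈ U` or `y = w`
  have key : ∀ w : S, w ^ 2 = 1 → w * u = u * w → w ∉ U → (y ∈ U ∨ y = w) →
      ∃ F : Subgroup S, F ≤ centralizer ({y} : Set S) ∧ Nat.card F = 8 ∧ ∀ f ∈ F, f ^ 2 = 1 := by
    intro w hw2 hwu hwU hy
    have hww : w * w = 1 := by rw [← pow_two]; exact hw2
    obtain ⟨F, hUF, hwF, hFcard, hFmem⟩ := exists_double U w hw2 hwU (hUcomm w hwu)
    refine ⟨F, ?_, by rw [hFcard, hUcard], ?_⟩
    · -- F ≤ C(y)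
      have hyw : y * w = w * y := by
        rcases hy with h | h
        · exact (hUcomm w hwu y h).symm
        · rw [h]
      have hyU' : ∀ g ∈ U, y * g = g * y := hUcomm y hyu
      intro f hf
      rw [mem_centralizer_singleton_iff]
      rcases hFmem f hf with h | h
      · exact hyU' f h
      · obtain ⟨g, hg⟩ : ∃ g, g = w * f := ⟨_, rfl⟩
        rw [← hg] at h
        have h1 := hyU' _ h
        have hf' : f = w * g := by rw [hg, ← mul_assoc, hww, one_mul]
        rw [hf']
        calc y * (w * g) = (y * w) * g := by group
          _ = (w * y) * g := by rw [hyw]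
          _ = w * (y * g) := by group
          _ = w * (g * y) := by rw [h1]
          _ = w * g * y := by group
    · intro f hf
      rcases hFmem f hf with h | h
      · exact hU2 f h
      · obtain ⟨g, hg⟩ : ∃ g, g = w * f := ⟨_, rfl⟩
        rw [← hg] at h
        have h1 := hU2 _ h
        have h2 := hUcomm w hwu _ h
        have hf' : f = w * g := by rw [hg, ← mul_assoc, hww, one_mul]
        rw [hf', pow_two]
        calc w * g * (w * g) = w * (g * w) * g := by group
          _ = w * (w * g) * g := by rw [h2]
          _ = (w * w) * (g * g) := by group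
          _ = 1 := by rw [hww, ← pow_two, h1, one_mul]
  by_cases hyU : y ∈ U
  · -- need e ∈ E commuting with u, outside U
    obtain ⟨e, heE, heu, heU⟩ : ∃ e ∈ E, e * u = u * e ∧ e ∉ U := by
      by_contra hno
      push Not at hno
      set C := centralizer ({u} : Set S) with hC
      have hle : E ⊓ C ≤ U := by
        intro e he
        rw [Subgroup.mem_inf] at he
        have := (mem_centralizer_singleton_iff u e).mp he.2
        exact hno e he.1 this.symm
      have hidx : C.relIndex E ≤ 2 := by
        have h1 : C.relIndex E ≤ C.relIndex ⊤ :=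
          Subgroup.relIndex_le_of_le_right le_top (by
            rw [Subgroup.relIndex_top_right]
            exact Subgroup.index_ne_zero_of_finite)
        rw [Subgroup.relIndex_top_right] at h1
        rcases centralizer_index_le_two z u hz2 hzc hconj with h | h
        · rw [← hC] at h
          rw [h, Subgroup.relIndex_top_left]; norm_num
        · rw [← hC] at h
          rw [h] at h1; exact h1
      have hcard : Nat.card (E ⊓ C : Subgroup S) * (E ⊓ C).relIndex E = Nat.card E := by
        have := Subgroup.relIndex_mul_relIndex (⊥ : Subgroup S) (E ⊓ C) E bot_le inf_le_left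
        rwa [Subgroup.relIndex_bot_left, Subgroup.relIndex_bot_left] at this
      rw [Subgroup.inf_relIndex_left, hE8] at hcard
      have h4 : 4 ≤ Nat.card (E ⊓ C : Subgroup S) := by
        by_contra hlt
        push Not at hlt
        have : Nat.card (E ⊓ C : Subgroup S) * C.relIndex E ≤ 3 * 2 :=
          Nat.mul_le_mul (by omega) hidx
        omega
      have heq : E ⊓ C = U := Subgroup.eq_of_le_of_card_ge hle (by rw [hUcard]; exact h4)
      have huE : u ∈ E := by
        have : u ∈ E ⊓ C := by rw [heq]; exact huU
        exact (Subgroup.mem_inf.mp this).1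
      have hEC : E ≤ C := by
        intro e he
        rw [hC, mem_centralizer_singleton_iff]
        -- E has exponent 2 hence abelian
        have h1 : (u * e) ^ 2 = 1 := hE2 _ (E.mul_mem huE he)
        have h2 : e * e = 1 := by rw [← pow_two]; exact hE2 e he
        rw [pow_two] at h1
        calc u * e = u * e * ((u * e) * (u * e))⁻¹ := by rw [h1, inv_one, mul_one]
          _ = e⁻¹ * u⁻¹ := by group
          _ = e * u := by
              rw [inv_eq_of_mul_eq_one_left h2, inv_eq_of_mul_eq_one_left huu]
      have : E ⊓ C = E := inf_eq_left.mpr hEC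
      rw [this] at heq
      rw [heq, hUcard] at hE8
      omega
    exact key e (hE2 e heE) heu heU (Or.inl hyU)
  · exact key y hy2 hyu hyU (Or.inr rfl)

end Cfsg.Agent.Lib.Helper06
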