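import Mathlib

/-!
# K-GS pack (S4840), leaf 484009 K3 `card_eq_sq_of_quaternion_action` (helper6, parallel hand)

The eigenspace trick: `V` of exponent 3 with `i² = j² = -1`, `i j = - j i`; `s = i + j` is an involution,
`U = ker (s - 1)`, `U' = ker (s + 1)`, `i ∘ j` swaps them, so `|V| = |U|²`.
-/

set_option autoImplicit false

namespace Cfsg.Agent.Lib.Helper06.GS

universe u

variable {V : Type u} [CommGroup V] [Finite V]

theorem card_eq_sq_of_quaternion_action (hV3 : ∀ v : V, v ^ 3 = 1) (i j : MulAut V)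
    (hi : ∀ v : V, i (i v) = v⁻¹) (hj : ∀ v : V, j (j v) = v⁻¹)
    (hij : ∀ v : V, i (j v) = (j (i v))⁻¹)
    (U : Subgroup V) (hU : ∀ v : V, v ∈ U ↔ i v * j v = v) :
    Nat.card V = Nat.card U * Nat.card U := by
  classical
  have hinv2 : ∀ v : V, v⁻¹ * v⁻¹ = v := by
    intro v
    rw [← mul_inv]
    apply inv_eq_of_mul_eq_one_left
    have := hV3 v
    rw [pow_three] at this
    exact this
  -- the involution `s`
  let s : V →* V := i.toMonoidHom * j.toMonoidHom
  have hs : ∀ v, s v = i v * j v := fun v => rfl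
  have hss : ∀ v, s (s v) = v := by
    intro v
    rw [hs (s v), hs v, map_mul, map_mul, hi, hj, hij v]
    rw [mul_assoc, inv_mul_cancel_left]
    exact hinv2 v
  -- `π = 1 + s`
  let π : V →* V := MonoidHom.id V * s
  have hπ : ∀ v, π v = v * s v := fun v => rfl
  have hrange : π.range = U := by
    ext u
    constructor
    · rintro ⟨v, rfl⟩
      rw [hU, ← hs, hπ, map_mul, hss, mul_comm]
    · intro hu
      rw [hU, ← hs] at hu
      refine ⟨u⁻¹, ?_⟩
      rw [hπ, map_inv, hu]
      exact hinv2 u
  -- `k = i ∘ j` anticommutes with `s`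
  have hks : ∀ v, s (i (j v)) = (i (j (s v)))⁻¹ := by
    intro v
    have h1 : j (i (j v)) = i v := by
      have := hij (j v)
      rw [hj, map_inv] at this
      -- this : (i v)⁻¹ = (j (i (j v)))⁻¹
      exact (inv_injective this).symm
    have h2 : i (j (i v)) = j v := by
      have := hij (i v)
      rw [hi, map_inv] at this
      -- this : i (j (i v)) = ((j v)⁻¹)⁻¹
      rw [this, inv_inv]
    rw [hs (i (j v)), hi, h1, hs v, map_mul, map_mul, h2, hj, map_inv, mul_inv, inv_inv, mul_comm]
  have hker : ∀ v, v ∈ π.ker ↔ i (j v) ∈ U := by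
    intro v
    rw [MonoidHom.mem_ker, hπ, hU, ← hs, hks]
    constructor
    · intro h
      have h1 : s v = v⁻¹ := (eq_inv_of_mul_eq_one_right h)
      rw [h1, map_inv, map_inv, inv_inv]
    · intro h
      have h2 : (i (j (s v)))⁻¹ = i (j v) := h
      rw [← map_inv, ← map_inv] at h2
      have h3 : (s v)⁻¹ = v := j.injective (i.injective h2)
      have h4 : s v = v⁻¹ := by
        have := congrArg (·⁻¹) h3
        simpa using this
      rw [h4, mul_inv_cancel]
  have hcardker : Nat.card π.ker = Nat.card U :=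
    Nat.card_congr (Equiv.subtypeEquiv ((j.toEquiv).trans i.toEquiv) (fun v => hker v))
  have h1 := Subgroup.card_mul_index π.ker
  rw [Subgroup.index_ker, hrange, hcardker] at h1
  exact h1.symm

end Cfsg.Agent.Lib.Helper06.GS
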