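import Mathlib
import Cfsg.Agent.Lib.Helper06.Dihedral

set_option autoImplicit false

namespace Cfsg.Agent.Lib.Helper06

open scoped Pointwise

section Iso

variable {G : Type*} [Group G]

theorem pgroup_closure_pair {u w : G} (hu : u * u = 1) (hw : w * w = 1) (a : ℕ)
    (h : (u * w) ^ (2 ^ a) = 1) : IsPGroup 2 (Subgroup.closure ({u, w} : Set G)) := by
  intro d
  obtain ⟨k, hk | hk⟩ := (mem_closure_pair_iff hu hw d.1).mp d.2
  · refine ⟨a, ?_⟩
    apply Subtype.ext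
    rw [Subgroup.coe_pow, hk, ← zpow_natCast, ← zpow_mul, mul_comm, zpow_mul, zpow_natCast, h,
      one_zpow]
    rfl
  · refine ⟨1, ?_⟩
    apply Subtype.ext
    rw [Subgroup.coe_pow, hk, pow_one, pow_two, refl_sq hu hw]
    rfl

/-- if `Q` is a `2`-subgroup containing `u` and a conjugate `w` of `u`, and `u` is
the only conjugate of itself inside the Sylow subgroup `P`, then `w = u`. -/
theorem isolated_eq_of_mem_pgroup [Finite G] (P : Sylow 2 G) (u : G)
    (hiso : ∀ g : G, g * u * g⁻¹ ∈ P → g * u * g⁻¹ = u)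
    (Q : Subgroup G) (hQ : IsPGroup 2 Q) (huQ : u ∈ Q) (c : G) (hwQ : c * u * c⁻¹ ∈ Q) :
    c * u * c⁻¹ = u := by
  have : Fact (Nat.Prime 2) := ⟨Nat.prime_two⟩
  obtain ⟨Q', hQ'⟩ := hQ.exists_le_sylow
  obtain ⟨h, hh⟩ := MulAction.exists_smul_eq G Q' P
  have hmem : ∀ y ∈ Q, h * y * h⁻¹ ∈ P := by
    intro y hy
    have hy' : y ∈ (Q' : Subgroup G) := hQ' hy
    rw [← hh, Sylow.smul_def]
    show h * y * h⁻¹ ∈ (MulAut.conj h • (Q' : Subgroup G))
    have : h * y * h⁻¹ = MulAut.conj h • y := rfl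
    rw [this]
    exact Subgroup.smul_mem_pointwise_smul y _ _ hy'
  have h1 : h * u * h⁻¹ = u := hiso h (hmem u huQ)
  have h2 : (h * c) * u * (h * c)⁻¹ = u := by
    apply hiso
    have := hmem _ hwQ
    have e : h * c * u * (h * c)⁻¹ = h * (c * u * c⁻¹) * h⁻¹ := by group
    rw [e]; exact this
  have e : h * c * u * (h * c)⁻¹ = h * (c * u * c⁻¹) * h⁻¹ := by group
  rw [e] at h2
  have h3 : h * (c * u * c⁻¹) * h⁻¹ = h * u * h⁻¹ := by rw [h2, h1]
  have h4 := mul_right_cancel h3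
  exact mul_left_cancel h4

theorem isolated_eq_of_two_power [Finite G] (P : Sylow 2 G) (u : G) (hu : u * u = 1)
    (hiso : ∀ g : G, g * u * g⁻¹ ∈ P → g * u * g⁻¹ = u) (c : G) (a : ℕ)
    (h : (u * (c * u * c⁻¹)) ^ (2 ^ a) = 1) : c * u * c⁻¹ = u := by
  have hw : (c * u * c⁻¹) * (c * u * c⁻¹) = 1 := by
    calc (c * u * c⁻¹) * (c * u * c⁻¹) = c * (u * u) * c⁻¹ := by group
      _ = 1 := by rw [hu]; group
  apply isolated_eq_of_mem_pgroup P u hiso _ (pgroup_closure_pair hu hw a h)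
  · exact Subgroup.subset_closure (by simp)
  · exact Subgroup.subset_closure (by simp)

end Iso

end Cfsg.Agent.Lib.Helper06
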