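import Mathlib
import Cfsg.Agent.S0803
import Cfsg.Agent.Lib.Helper19.DicksonUse
import Cfsg.Agent.Lib.Helper06.AbelSylowInner

set_option autoImplicit false
set_option linter.style.haveILetI false

/-! Structure of groups of Janko–Ree type: Sylow `2`-subgroups have order `8`.

* `sylow_card_four`: if `N ⊴ E`, `N ≅ PSL(2, q)` with `q > 3` odd, `C_E(N) = 1` and all
  `2`-subgroups of `E` are abelian, then the Sylow `2`-subgroups of `E` have order `4`.
* `sylow_card_eight`: if moreover `C_G(t) = ⟨t⟩ × E` for an involution `t` of a group `G` with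
  abelian Sylow `2`-subgroups, then the Sylow `2`-subgroups of `G` have order `8`.
-/

namespace Cfsg.Agent.Lib.Helper06.JRStruct

open Cfsg

/-- The involution `(0 2)(1 3)` of `S₄`. -/
def sigma4 : Equiv.Perm (Fin 4) := Equiv.swap 0 2 * Equiv.swap 1 3

set_option maxRecDepth 100000 in
theorem perm4_pow_four : ∀ x : Equiv.Perm (Fin 4), sigma4 * x = x * sigma4 → x ^ 4 = 1 := by
  decide

theorem perm4_rot_comm : sigma4 * finRotate 4 = finRotate 4 * sigma4 := by decide

theorem perm4_swap_comm : sigma4 * Equiv.swap 0 2 = Equiv.swap 0 2 * sigma4 := by decide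

theorem perm4_not_comm : finRotate 4 * Equiv.swap (0 : Fin 4) 2 ≠ Equiv.swap 0 2 * finRotate 4 := by
  decide

universe u w

theorem sylow_card_four {E : Type u} [Group E] [Finite E] {F : Type w} [Field F] [Fintype F]
    (hFo : Odd (Fintype.card F)) (hF3 : 3 < Fintype.card F)
    (N : Subgroup E) [hNn : N.Normal]
    (hN : Nonempty (↥N ≃* Matrix.ProjectiveSpecialLinearGroup (Fin 2) F))
    (hNc : Subgroup.centralizer (N : Set E) = ⊥)
    (h2ab : ∀ P : Subgroup E, IsPGroup 2 P → ∀ a ∈ P, ∀ b ∈ P, a * b = b * a)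
    (Q : Sylow 2 E) : Nat.card Q = 4 := by
  classical
  haveI : Fact (Nat.Prime 2) := ⟨Nat.prime_two⟩
  obtain ⟨e⟩ := hN
  have hcardN : Nat.card N = Nat.card (Matrix.ProjectiveSpecialLinearGroup (Fin 2) F) :=
    Nat.card_congr e.toEquiv
  have hpsl := Cfsg.Agent.Lib.Helper19.DicksonUse.card_psl_mul_d (F := F)
  obtain ⟨m, hm⟩ := hFo
  have hgcd : Nat.gcd 2 (Fintype.card F - 1) = 2 := by
    rw [hm]; simp
  -- case q² ≡ 1 mod 16 is impossible
  have hcaseA : Fintype.card F ^ 2 % 16 ≠ 1 := by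
    intro h1
    obtain ⟨H, ⟨e'⟩⟩ := (Cfsg.Agent.S0803.result (F := F) (q := Fintype.card F) rfl).mpr h1
    let ι : Equiv.Perm (Fin 4) →* E :=
      N.subtype.comp (e.symm.toMonoidHom.comp (H.subtype.comp e'.symm.toMonoidHom))
    have hι : Function.Injective ι := by
      intro x y hxy
      have h1 : e.symm (H.subtype (e'.symm x)) = e.symm (H.subtype (e'.symm y)) :=
        Subtype.ext hxy
      have h2 := e.symm.injective h1
      have h3 : e'.symm x = e'.symm y := Subtype.ext h2
      exact e'.symm.injective h3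
    let K₀ : Subgroup (Equiv.Perm (Fin 4)) := Subgroup.centralizer {sigma4}
    have hK₀ : IsPGroup 2 K₀ := by
      rintro ⟨x, hx⟩
      refine ⟨2, Subtype.ext ?_⟩
      have h4 := perm4_pow_four x (Subgroup.mem_centralizer_iff.mp hx sigma4 rfl)
      simpa using h4
    have haK : finRotate 4 ∈ K₀ := by
      rw [Subgroup.mem_centralizer_iff]
      intro y hy
      rw [Set.mem_singleton_iff] at hy
      rw [hy]; exact perm4_rot_comm
    have hbK : Equiv.swap (0 : Fin 4) 2 ∈ K₀ := by
      rw [Subgroup.mem_centralizer_iff]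
      intro y hy
      rw [Set.mem_singleton_iff] at hy
      rw [hy]; exact perm4_swap_comm
    have hc := h2ab (K₀.map ι) (hK₀.map ι) (ι (finRotate 4)) (Subgroup.mem_map_of_mem ι haK)
      (ι (Equiv.swap (0 : Fin 4) 2)) (Subgroup.mem_map_of_mem ι hbK)
    rw [← map_mul, ← map_mul] at hc
    exact perm4_not_comm (hι hc)
  -- hence |PSL| = 4 * odd
  obtain ⟨j, hj⟩ := Nat.even_mul_succ_self m
  have hq2 : Fintype.card F ^ 2 = 8 * j + 1 := by
    have h0 : Fintype.card F ^ 2 = 4 * (m * (m + 1)) + 1 := by rw [hm]; ring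
    rw [h0, hj]; ring
  have hjodd : j % 2 = 1 := by
    by_contra hj2
    apply hcaseA
    rw [hq2]; omega
  obtain ⟨i, hi⟩ : ∃ i, j = 2 * i + 1 := ⟨j / 2, by omega⟩
  have hcardPSL : Nat.card (Matrix.ProjectiveSpecialLinearGroup (Fin 2) F) =
      4 * ((2 * m + 1) * (2 * i + 1)) := by
    have h1 : Fintype.card F * Fintype.card F - 1 = 4 * (m * (m + 1)) := by
      have h0 : Fintype.card F * Fintype.card F = 4 * (m * (m + 1)) + 1 := by rw [hm]; ring
      omega
    rw [hgcd, h1, hj, hi, hm] at hpsl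
    have h2 : (2 * m + 1) * (4 * (2 * i + 1 + (2 * i + 1))) =
        (4 * ((2 * m + 1) * (2 * i + 1))) * 2 := by ring
    rw [h2] at hpsl
    exact Nat.eq_of_mul_eq_mul_right (by norm_num) hpsl
  -- N is simple of even order, so O(N) = 1
  haveI : IsSimpleGroup (Matrix.ProjectiveSpecialLinearGroup (Fin 2) F) :=
    Matrix.ProjectiveSpecialLinearGroup.rank_two_simple (by rw [Nat.card_eq_fintype_card]; omega)
  haveI : IsSimpleGroup ↥N := e.isSimpleGroup
  have hcore : Cfsg.pPrimeCore 2 ↥N = ⊥ := by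
    unfold Cfsg.pPrimeCore
    rw [eq_bot_iff]
    apply sSup_le
    rintro M ⟨hMn, hMc⟩
    rcases hMn.eq_bot_or_eq_top with h | h
    · rw [h]
    · exfalso
      rw [h, Subgroup.card_top, hcardN, hcardPSL] at hMc
      have h2 : (2 : ℕ) ∣ Nat.gcd (4 * ((2 * m + 1) * (2 * i + 1))) 2 :=
        Nat.dvd_gcd ⟨2 * ((2 * m + 1) * (2 * i + 1)), by ring⟩ (dvd_refl 2)
      rw [Nat.Coprime] at hMc
      rw [hMc] at h2
      norm_num at h2
  -- a Sylow 2-subgroup of N has order 4
  obtain ⟨P⟩ : Nonempty (Sylow 2 ↥N) := inferInstance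
  have hPcard : Nat.card P = 4 := by
    obtain ⟨k, hk⟩ := IsPGroup.iff_card.mp P.2
    have h4 : 2 ^ 2 ∣ Nat.card P := P.pow_dvd_card_of_pow_dvd_card (by
      rw [hcardN, hcardPSL]; exact ⟨(2 * m + 1) * (2 * i + 1), by ring⟩)
    have hdvd : Nat.card P ∣ Nat.card N := Subgroup.card_subgroup_dvd_card _
    rw [hcardN, hcardPSL, hk] at hdvd
    have hcop : Nat.Coprime (2 ^ k) ((2 * m + 1) * (2 * i + 1)) := by
      apply Nat.Coprime.pow_left
      rw [Nat.coprime_two_left]
      exact ⟨2 * m * i + m + i, by ring⟩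
    have h5 : 2 ^ k ∣ 4 := hcop.dvd_of_dvd_mul_right hdvd
    rw [hk] at h4 ⊢
    exact Nat.dvd_antisymm h5 h4
  -- embed P in a Sylow 2-subgroup Q' of E
  obtain ⟨Q', hQ'⟩ := (P.2.map N.subtype).exists_le_sylow
  have habQ' := h2ab Q' Q'.2
  have hPQ' : ∀ y ∈ (P : Subgroup ↥N), (y : E) ∈ (Q' : Subgroup E) := fun y hy =>
    hQ' (Subgroup.mem_map_of_mem N.subtype hy)
  have hPab : ∀ a ∈ (P : Subgroup ↥N), ∀ b ∈ (P : Subgroup ↥N), a * b = b * a := by
    intro a ha b hb
    exact Subtype.ext (habQ' a (hPQ' a ha) b (hPQ' b hb))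
  have hQ'N : (Q' : Subgroup E) ≤ N := by
    intro x hx
    let α : MulAut ↥N := MulAut.conjNormal x
    have hαfix : ∀ y ∈ (P : Subgroup ↥N), α y = y := by
      intro y hy
      apply Subtype.ext
      rw [MulAut.conjNormal_apply]
      have h1 := habQ' x hx y (hPQ' y hy)
      rw [h1]; group
    have hαord : ∃ j : ℕ, orderOf α = 2 ^ j := by
      obtain ⟨k, hk⟩ := Q'.2 ⟨x, hx⟩
      have hxk : x ^ 2 ^ k = 1 := by
        have := congrArg Subtype.val hk
        simpa using this
      have h1 : α ^ 2 ^ k = 1 := by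
        show (MulAut.conjNormal x : MulAut ↥N) ^ 2 ^ k = 1
        rw [← map_pow, hxk, map_one]
      obtain ⟨j, -, hj⟩ := (Nat.dvd_prime_pow Nat.prime_two).mp (orderOf_dvd_of_pow_eq_one h1)
      exact ⟨j, hj⟩
    obtain ⟨g, hg⟩ := Cfsg.Agent.Lib.Helper06.AbelSylowInner.inner_of_fixes_abelian_sylow
      hcore P hPab α hαord hαfix
    have hcent : (g : E)⁻¹ * x ∈ Subgroup.centralizer (N : Set E) := by
      rw [Subgroup.mem_centralizer_iff]
      intro y hy
      have h1 := congrArg Subtype.val (hg ⟨y, hy⟩)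
      rw [MulAut.conjNormal_apply] at h1
      have h2 : x * y * x⁻¹ = (g : E) * y * (g : E)⁻¹ := by simpa using h1
      calc y * ((g : E)⁻¹ * x) = (g : E)⁻¹ * ((g : E) * y * (g : E)⁻¹) * x := by group
        _ = (g : E)⁻¹ * (x * y * x⁻¹) * x := by rw [h2]
        _ = (g : E)⁻¹ * x * y := by group
    rw [hNc, Subgroup.mem_bot] at hcent
    have hxg : x = g := by
      have h1 : x = (g : E) * ((g : E)⁻¹ * x) := by group
      rw [h1, hcent, mul_one]
    rw [hxg]; exact g.2
  -- hence Q' = P inside N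
  have hQ''p : IsPGroup 2 ((Q' : Subgroup E).subgroupOf N) := Q'.2.comap_subtype
  have hPle : (P : Subgroup ↥N) ≤ (Q' : Subgroup E).subgroupOf N := by
    intro y hy
    rw [Subgroup.mem_subgroupOf]
    exact hPQ' y hy
  have hQ''eq := P.is_maximal' hQ''p hPle
  have hQ'card : Nat.card Q' = 4 := by
    rw [← Nat.card_congr (Subgroup.subgroupOfEquivOfLe hQ'N).toEquiv, hQ''eq]
    exact hPcard
  rw [Q.card_eq_multiplicity, ← Q'.card_eq_multiplicity]
  exact hQ'card

theorem sylow_card_eight {G : Type u} [Group G] [Finite G]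
    (hab : ∀ S : Sylow 2 G, ∀ a ∈ (S : Subgroup G), ∀ b ∈ (S : Subgroup G), a * b = b * a)
    (t : G) (ht : orderOf t = 2) (E : Subgroup G)
    (hE : Cfsg.IsInternalDirectProduct (Subgroup.zpowers t) E
      (Subgroup.centralizer ({t} : Set G)))
    {F : Type w} [Field F] [Fintype F] (hFo : Odd (Fintype.card F)) (hF3 : 3 < Fintype.card F)
    (N : Subgroup ↥E) [N.Normal]
    (hN : Nonempty (↥N ≃* Matrix.ProjectiveSpecialLinearGroup (Fin 2) F))
    (hNc : Subgroup.centralizer (N : Set ↥E) = ⊥)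
    (S : Sylow 2 G) : Nat.card S = 8 := by
  classical
  haveI : Fact (Nat.Prime 2) := ⟨Nat.prime_two⟩
  obtain ⟨h1, h2, h3, h4, h5⟩ := hE
  -- 2-subgroups of E are abelian
  have h2ab : ∀ P : Subgroup ↥E, IsPGroup 2 P → ∀ a ∈ P, ∀ b ∈ P, a * b = b * a := by
    intro P hP a ha b hb
    obtain ⟨S', hS'⟩ := (hP.map E.subtype).exists_le_sylow
    have h := hab S' a (hS' (Subgroup.mem_map_of_mem E.subtype ha)) b
      (hS' (Subgroup.mem_map_of_mem E.subtype hb))
    exact Subtype.ext h
  obtain ⟨Q⟩ : Nonempty (Sylow 2 ↥E) := inferInstance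
  have hQ4 := sylow_card_four hFo hF3 N hN hNc h2ab Q
  have hEfac : (Nat.card E).factorization 2 = 2 := by
    have h := Q.card_eq_multiplicity
    rw [hQ4] at h
    have h' : (2 : ℕ) ^ 2 = 2 ^ (Nat.card E).factorization 2 := by rw [← h]; norm_num
    exact (Nat.pow_right_injective (le_refl 2) h').symm
  -- |C(t)| = 2 |E|
  let M : Subgroup G :=
    { carrier := {x | ∃ a ∈ Subgroup.zpowers t, ∃ e ∈ E, x = a * e}
      one_mem' := ⟨1, one_mem _, 1, one_mem _, by simp⟩
      mul_mem' := by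
        rintro x y ⟨a, ha, e, he, rfl⟩ ⟨a', ha', e', he', rfl⟩
        refine ⟨a * a', mul_mem ha ha', e * e', mul_mem he he', ?_⟩
        have h := h3 a' ha' e he
        calc a * e * (a' * e') = a * (e * a') * e' := by group
          _ = a * (a' * e) * e' := by rw [h]
          _ = a * a' * (e * e') := by group
      inv_mem' := by
        rintro x ⟨a, ha, e, he, rfl⟩
        refine ⟨a⁻¹, inv_mem ha, e⁻¹, inv_mem he, ?_⟩
        have h := h3 a⁻¹ (inv_mem ha) e⁻¹ (inv_mem he)
        rw [mul_inv_rev, h] }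
  have hCM : Subgroup.centralizer ({t} : Set G) ≤ M := by
    rw [← h5]
    apply sup_le
    · intro a ha; exact ⟨a, ha, 1, one_mem _, by simp⟩
    · intro e he; exact ⟨1, one_mem _, e, he, by simp⟩
  let f : ↥(Subgroup.zpowers t) × ↥E → ↥(Subgroup.centralizer ({t} : Set G)) := fun p =>
    ⟨(p.1 : G) * p.2, mul_mem (h1 p.1.2) (h2 p.2.2)⟩
  have hf : Function.Bijective f := by
    constructor
    · rintro ⟨a, e⟩ ⟨a', e'⟩ hp
      have hp' : (a : G) * e = a' * e' := congrArg Subtype.val hp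
      have hx : (a' : G)⁻¹ * a = e' * (e : G)⁻¹ := by
        calc (a' : G)⁻¹ * a = (a' : G)⁻¹ * (a * e) * (e : G)⁻¹ := by group
          _ = (a' : G)⁻¹ * (a' * e') * (e : G)⁻¹ := by rw [hp']
          _ = e' * (e : G)⁻¹ := by group
      have hmem : (a' : G)⁻¹ * a ∈ Subgroup.zpowers t ⊓ E :=
        Subgroup.mem_inf.mpr
          ⟨mul_mem (inv_mem a'.2) a.2, by rw [hx]; exact mul_mem e'.2 (inv_mem e.2)⟩
      rw [h4, Subgroup.mem_bot] at hmem
      have haa : a = a' := by
        apply Subtype.ext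
        exact (inv_mul_eq_one.mp hmem).symm
      have hee : e = e' := by
        apply Subtype.ext
        rw [hmem] at hx
        exact (mul_inv_eq_one.mp hx.symm).symm
      rw [haa, hee]
    · rintro ⟨x, hx⟩
      obtain ⟨a, ha, e, he, rfl⟩ := hCM hx
      exact ⟨(⟨a, ha⟩, ⟨e, he⟩), rfl⟩
  have hcardC : Nat.card (Subgroup.centralizer ({t} : Set G)) = 2 * Nat.card E := by
    rw [← Nat.card_congr (Equiv.ofBijective f hf), Nat.card_prod, Nat.card_zpowers, ht]
  have hCfac : (Nat.card (Subgroup.centralizer ({t} : Set G))).factorization 2 = 3 := by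
    rw [hcardC, Nat.factorization_mul (by norm_num) Nat.card_pos.ne', Finsupp.add_apply,
      Nat.prime_two.factorization_self, hEfac]
  -- t lies in a Sylow 2-subgroup contained in C(t)
  have htp : IsPGroup 2 (Subgroup.zpowers t) :=
    IsPGroup.of_card (n := 1) (by rw [Nat.card_zpowers, ht, pow_one])
  obtain ⟨St, hSt⟩ := htp.exists_le_sylow
  have htSt : t ∈ (St : Subgroup G) := hSt (Subgroup.mem_zpowers t)
  have hStC : (St : Subgroup G) ≤ Subgroup.centralizer ({t} : Set G) := by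
    intro x hx
    rw [Subgroup.mem_centralizer_iff]
    intro y hy
    rw [Set.mem_singleton_iff] at hy
    rw [hy]
    exact hab St t htSt x hx
  have hSta : Nat.card St = 2 ^ (Nat.card G).factorization 2 := St.card_eq_multiplicity
  have ha_le : (Nat.card G).factorization 2 ≤ 3 := by
    have hd : 2 ^ (Nat.card G).factorization 2 ∣
        Nat.card (Subgroup.centralizer ({t} : Set G)) := by
      rw [← hSta]; exact Subgroup.card_dvd_of_le hStC
    have h := (Nat.prime_two.pow_dvd_iff_le_factorization Nat.card_pos.ne').mp hd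
    rwa [hCfac] at h
  have ha_ge : 3 ≤ (Nat.card G).factorization 2 := by
    have hd : 2 ^ 3 ∣ Nat.card G := by
      have h1 : 2 ^ 3 ∣ Nat.card (Subgroup.centralizer ({t} : Set G)) := by
        rw [← hCfac]; exact Nat.ordProj_dvd _ 2
      exact h1.trans (Subgroup.card_subgroup_dvd_card _)
    exact (Nat.prime_two.pow_dvd_iff_le_factorization Nat.card_pos.ne').mp hd
  rw [S.card_eq_multiplicity, le_antisymm ha_le ha_ge]
  norm_num

end Cfsg.Agent.Lib.Helper06.JRStruct
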