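import Mathlib
import Cfsg.Agent.Lib.Helper06.Dihedral

set_option autoImplicit false

namespace Cfsg.Agent.Lib.Helper06

open scoped Pointwise

section KS

variable {G : Type*} [Group G]

/-- every involution is conjugate into a given Sylow 2-subgroup. -/
theorem exists_conj_mem_sylow [Finite G] (P : Sylow 2 G) (t : G) (ht : orderOf t = 2) :
    ∃ g : G, g * t * g⁻¹ ∈ P := by
  have : Fact (Nat.Prime 2) := ⟨Nat.prime_two⟩
  have hps : IsPGroup 2 (Subgroup.zpowers t) := by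
    apply IsPGroup.of_card (n := 1)
    rw [Nat.card_zpowers, ht, pow_one]
  obtain ⟨Q, hQ⟩ := hps.exists_le_sylow
  have htQ : t ∈ (Q : Subgroup G) := hQ (Subgroup.mem_zpowers t)
  obtain ⟨g, hg⟩ := MulAction.exists_smul_eq G Q P
  refine ⟨g, ?_⟩
  rw [← hg, Sylow.smul_def]
  show g * t * g⁻¹ ∈ (MulAut.conj g • (Q : Subgroup G))
  have : g * t * g⁻¹ = MulAut.conj g • t := rfl
  rw [this]
  exact Subgroup.smul_mem_pointwise_smul t _ _ htQ

theorem zpowers_isPGroup_of_pow_eq_one (y : G) (e : ℕ) (h : y ^ (2 ^ e) = 1) :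
    IsPGroup 2 (Subgroup.zpowers y) := by
  intro d
  obtain ⟨k, hk⟩ := Subgroup.mem_zpowers_iff.mp d.2
  refine ⟨e, ?_⟩
  apply Subtype.ext
  rw [Subgroup.coe_pow, ← hk, ← zpow_natCast, ← zpow_mul, mul_comm, zpow_mul, zpow_natCast, h,
    one_zpow]
  rfl

/-- an element of the normalizer of a Sylow 2-subgroup has an odd power inside it. -/
theorem exists_odd_pow_mem [Finite G] (P : Sylow 2 G) (n : G)
    (hn : n ∈ Subgroup.normalizer ((P : Subgroup G) : Set G)) :
    ∃ m : ℕ, Odd m ∧ n ^ m ∈ P := by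
  have : Fact (Nat.Prime 2) := ⟨Nat.prime_two⟩
  have hn0 : orderOf n ≠ 0 := (orderOf_pos n).ne'
  obtain ⟨e, m, hm, ho⟩ := Nat.exists_eq_two_pow_mul_odd hn0
  refine ⟨m, hm, ?_⟩
  have hpow : (n ^ m) ^ (2 ^ e) = 1 := by
    rw [← pow_mul, mul_comm, ← ho, pow_orderOf_eq_one]
  have hp := zpowers_isPGroup_of_pow_eq_one (n ^ m) e hpow
  have h1 := hp.inf_normalizer_sylow P
  have hmem : n ^ m ∈ Subgroup.zpowers (n ^ m) ⊓ Subgroup.normalizer ((P : Subgroup G) : Set G) :=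
    Subgroup.mem_inf.mpr ⟨Subgroup.mem_zpowers _, Subgroup.pow_mem _ hn m⟩
  have hmem2 := h1.le hmem
  exact (Subgroup.mem_inf.mp hmem2).2

variable [Finite G] (P : Sylow 2 G) (hP : IsKleinFour (P : Subgroup G))

include hP

theorem klein_comm {x y : G} (hx : x ∈ P) (hy : y ∈ P) : x * y = y * x := by
  have := hP
  have hc := IsKleinFour.isMulCommutative (G := (P : Subgroup G))
  have := hc.is_comm.comm ⟨x, hx⟩ ⟨y, hy⟩
  exact congrArg Subtype.val this

theorem klein_sq {x : G} (hx : x ∈ P) : x * x = 1 := by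
  have := hP
  have := IsKleinFour.mul_self (⟨x, hx⟩ : (P : Subgroup G))
  exact congrArg Subtype.val this

theorem klein_orderOf {x : G} (hx : x ∈ P) (h1 : x ≠ 1) : orderOf x = 2 :=
  orderOf_two_of_sq_one (klein_sq P hP hx) h1

theorem klein_third {x y z : G} (hx : x ∈ P) (hy : y ∈ P) (hz : z ∈ P) (hx1 : x ≠ 1)
    (hy1 : y ≠ 1) (hxy : x ≠ y) (hz1 : z ≠ 1) (hzx : z ≠ x) (hzy : z ≠ y) : z = x * y := by
  have := hP
  have := IsKleinFour.eq_mul_of_ne_all (G := (P : Subgroup G)) (x := ⟨x, hx⟩) (y := ⟨y, hy⟩)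
    (z := ⟨z, hz⟩) (fun h => hx1 (congrArg Subtype.val h)) (fun h => hy1 (congrArg Subtype.val h))
    (fun h => hxy (congrArg Subtype.val h)) (fun h => hz1 (congrArg Subtype.val h))
    (fun h => hzx (congrArg Subtype.val h)) (fun h => hzy (congrArg Subtype.val h))
  exact congrArg Subtype.val this

/-- Burnside fusion inside an abelian Sylow subgroup. -/
theorem klein_fusion {x : G} (hx : x ∈ P) (g : G) (hy : g * x * g⁻¹ ∈ P) :
    ∃ n ∈ Subgroup.normalizer ((P : Subgroup G) : Set G), g * x * g⁻¹ = n * x * n⁻¹ := by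
  have : Fact (Nat.Prime 2) := ⟨Nat.prime_two⟩
  have := hP
  have hc := IsKleinFour.isMulCommutative (G := (P : Subgroup G))
  have hy' : (g⁻¹)⁻¹ * x * g⁻¹ ∈ P := by rw [inv_inv]; exact hy
  obtain ⟨n, hn, h⟩ := P.conj_eq_normalizer_conj_of_mem x g⁻¹ hx hy'
  refine ⟨n⁻¹, Subgroup.inv_mem _ hn, ?_⟩
  rw [inv_inv] at h ⊢
  exact h

theorem klein_conj_third {a b : G} (ha : a ∈ P) (hb : b ∈ P) (ha1 : a ≠ 1) (hb1 : b ≠ 1)
    (hab : a ≠ b) (hconj : IsConj a b) : IsConj a (a * b) := by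
  obtain ⟨g, hg⟩ := isConj_iff.mp hconj
  have hgP : g * a * g⁻¹ ∈ P := by rw [hg]; exact hb
  obtain ⟨n, hn, hna⟩ := klein_fusion P hP ha g hgP
  rw [hg] at hna
  -- hna : b = n * a * n⁻¹
  have hnb : n * b * n⁻¹ ∈ P := (Subgroup.mem_normalizer_iff.mp hn b).mp hb
  have hb'1 : n * b * n⁻¹ ≠ 1 := by
    intro h
    apply hb1
    have : b = n⁻¹ * (n * b * n⁻¹) * n := by group
    rw [this, h]; group
  have hb'b : n * b * n⁻¹ ≠ b := by
    intro h
    apply hab
    rw [hna] at h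
    have h2 := mul_right_cancel h
    have h3 := mul_left_cancel h2
    rw [← hna] at h3
    exact h3.symm
  by_cases hb'a : n * b * n⁻¹ = a
  · exfalso
    obtain ⟨m, hm, hmP⟩ := exists_odd_pow_mem P n hn
    have hodd : ∀ k : ℕ, n ^ (2 * k + 1) * a * (n ^ (2 * k + 1))⁻¹ = b := by
      intro k
      induction k with
      | zero => simpa using hna.symm
      | succ k ih =>
        have e : 2 * (k + 1) + 1 = (2 * k + 1) + 1 + 1 := by ring
        rw [e, pow_succ', pow_succ']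
        calc n * (n * n ^ (2 * k + 1)) * a * (n * (n * n ^ (2 * k + 1)))⁻¹
            = n * (n * (n ^ (2 * k + 1) * a * (n ^ (2 * k + 1))⁻¹) * n⁻¹) * n⁻¹ := by
              simp only [mul_inv_rev, mul_assoc]
          _ = n * (n * b * n⁻¹) * n⁻¹ := by rw [ih]
          _ = n * a * n⁻¹ := by rw [hb'a]
          _ = b := hna.symm
    obtain ⟨k, hk⟩ := hm
    have h1 := hodd k
    rw [← hk] at h1
    have h2 : n ^ m * a = a * n ^ m := klein_comm P hP hmP ha
    rw [h2, mul_assoc, mul_inv_cancel, mul_one] at h1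
    exact hab h1
  · have h3 : n * b * n⁻¹ = a * b :=
      klein_third P hP ha hb hnb ha1 hb1 hab hb'1 hb'a hb'b
    have h4 : IsConj b (a * b) := isConj_iff.mpr ⟨n, h3⟩
    exact hconj.trans h4

/-- the map from the non-identity elements of a Klein four Sylow subgroup to the classes of
involutions. -/
def kleinMap : {t : G // t ∈ P ∧ t ≠ 1} →
    {C : ConjClasses G // ∃ t : G, orderOf t = 2 ∧ ConjClasses.mk t = C} :=
  fun t => ⟨ConjClasses.mk t.1, t.1, klein_orderOf P hP t.2.1 t.2.2, rfl⟩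

theorem kleinMap_eq_iff (a b : {t : G // t ∈ P ∧ t ≠ 1}) :
    kleinMap P hP a = kleinMap P hP b ↔ IsConj a.1 b.1 := by
  unfold kleinMap
  rw [Subtype.mk.injEq, ConjClasses.mk_eq_mk_iff_isConj]

theorem kleinMap_surjective : Function.Surjective (kleinMap P hP) := by
  rintro ⟨C, t, ht, rfl⟩
  obtain ⟨g, hg⟩ := exists_conj_mem_sylow P t ht
  have hne : g * t * g⁻¹ ≠ 1 := by
    intro h
    apply ne_one_of_orderOf_two ht
    have : t = g⁻¹ * (g * t * g⁻¹) * g := by group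
    rw [this, h]; group
  refine ⟨⟨g * t * g⁻¹, hg, hne⟩, ?_⟩
  unfold kleinMap
  rw [Subtype.mk.injEq, ConjClasses.mk_eq_mk_iff_isConj, isConj_comm, isConj_iff]
  exact ⟨g, rfl⟩

theorem card_kleinDom : Nat.card {t : G // t ∈ P ∧ t ≠ 1} = 3 := by
  classical
  have h4 : Nat.card (P : Subgroup G) = 4 := hP.card_four
  have e1 : {t : G // t ∈ P ∧ t ≠ 1} ≃ {s : (P : Subgroup G) // s ≠ 1} :=
    { toFun := fun t => ⟨⟨t.1, t.2.1⟩, fun h => t.2.2 (congrArg Subtype.val h)⟩
      invFun := fun s => ⟨s.1.1, s.1.2, fun h => s.2 (Subtype.ext h)⟩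
      left_inv := fun t => rfl
      right_inv := fun s => rfl }
  have h2 : Nat.card {s : (P : Subgroup G) // s ≠ 1} + 1 = 4 := by
    rw [← Finite.card_option, ← h4]
    exact Nat.card_congr (Equiv.optionSubtypeNe _)
  rw [Nat.card_congr e1]
  omega

end KS

end Cfsg.Agent.Lib.Helper06
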