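import Mathlib

set_option autoImplicit false

/-!
# K-S3620-B: quasiprimitive + Jordan set of size `< n/2` ⇒ primitive (given the primitive case)

Delivered for helper64 (S3620, Marggraf).  Main theorem: `quasi_reduction`.
-/

namespace Cfsg.Agent.Lib.Helper06.Marggraf

open MulAction SubMulAction
open scoped Pointwise

section Perm

variable {α : Type*} [DecidableEq α]

/-- A permutation moving a finite set `A` into a disjoint set `D` with `|A| ≤ |D|`, and fixing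
everything outside `A ∪ D`. -/
theorem exists_perm_mapsTo (A : Finset α) : ∀ D : Finset α, Disjoint A D → A.card ≤ D.card →
    ∃ π : Equiv.Perm α, (∀ a ∈ A, π a ∈ D) ∧ (∀ a, a ∉ A → a ∉ D → π a = a) := by
  induction A using Finset.induction_on with
  | empty => intro D _ _; exact ⟨1, by simp, by simp⟩
  | insert a A' ha ih =>
    intro D hdisj hcard
    rw [Finset.card_insert_of_notMem ha] at hcard
    have hDne : D.Nonempty := Finset.card_pos.mp (by omega)
    obtain ⟨d, hd⟩ := hDne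
    have hdA : d ∉ insert a A' := fun h => (Finset.disjoint_left.mp hdisj h) hd
    have hdisj' : Disjoint A' (D.erase d) := by
      rw [Finset.disjoint_left]
      intro y hy hy'
      exact Finset.disjoint_left.mp hdisj (Finset.mem_insert_of_mem hy) (Finset.mem_of_mem_erase hy')
    have hcard' : A'.card ≤ (D.erase d).card := by
      rw [Finset.card_erase_of_mem hd]; omega
    obtain ⟨π', h1, h2⟩ := ih (D.erase d) hdisj' hcard'
    refine ⟨π' * Equiv.swap a d, ?_, ?_⟩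
    · intro y hy
      rw [Finset.mem_insert] at hy
      rcases hy with rfl | hy
      · simp only [Equiv.Perm.mul_apply, Equiv.swap_apply_left]
        rw [h2 d (fun h => hdA (Finset.mem_insert_of_mem h)) (Finset.notMem_erase d D)]
        exact hd
      · have hya : y ≠ a := fun h => ha (h ▸ hy)
        have hyd : y ≠ d := fun h => hdA (h ▸ Finset.mem_insert_of_mem hy)
        simp only [Equiv.Perm.mul_apply, Equiv.swap_apply_of_ne_of_ne hya hyd]
        exact Finset.mem_of_mem_erase (h1 y hy)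
    · intro y hyA hyD
      have hya : y ≠ a := fun h => hyA (h ▸ Finset.mem_insert_self _ _)
      have hyd : y ≠ d := fun h => hyD (h ▸ hd)
      simp only [Equiv.Perm.mul_apply, Equiv.swap_apply_of_ne_of_ne hya hyd]
      exact h2 y (fun h => hyA (Finset.mem_insert_of_mem h))
        (fun h => hyD (Finset.mem_of_mem_erase h))

/-- An *even* permutation moving `A` into a disjoint set `D` with `|A| + 2 ≤ |D|`, fixing everything
outside `A ∪ D`. -/
theorem exists_even_perm_mapsTo [Fintype α] (A D : Finset α) (hdisj : Disjoint A D)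
    (hcard : A.card + 2 ≤ D.card) :
    ∃ π : Equiv.Perm α, Equiv.Perm.sign π = 1 ∧ (∀ a ∈ A, π a ∈ D) ∧
      (∀ a, a ∉ A → a ∉ D → π a = a) := by
  obtain ⟨π, h1, h2⟩ := exists_perm_mapsTo A D hdisj (by omega)
  rcases Int.units_eq_one_or (Equiv.Perm.sign π) with hs | hs
  · exact ⟨π, hs, h1, h2⟩
  · have hlt : 1 < (D \ A.image π).card := by
      have h3 := Finset.card_image_le (s := A) (f := π)
      have h4 := Finset.le_card_sdiff (A.image π) D
      omega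
    obtain ⟨c₁, hc₁, c₂, hc₂, hne⟩ := Finset.one_lt_card.mp hlt
    rw [Finset.mem_sdiff] at hc₁ hc₂
    refine ⟨Equiv.swap c₁ c₂ * π, ?_, ?_, ?_⟩
    · rw [Equiv.Perm.sign_mul, Equiv.Perm.sign_swap hne, hs]; rfl
    · intro a ha
      have hπa : π a ∈ A.image π := Finset.mem_image_of_mem π ha
      have h1' : π a ≠ c₁ := fun h => hc₁.2 (h ▸ hπa)
      have h2' : π a ≠ c₂ := fun h => hc₂.2 (h ▸ hπa)
      simp only [Equiv.Perm.mul_apply, Equiv.swap_apply_of_ne_of_ne h1' h2']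
      exact h1 a ha
    · intro a haA haD
      rw [Equiv.Perm.mul_apply, h2 a haA haD]
      exact Equiv.swap_apply_of_ne_of_ne (fun h => haD (h ▸ hc₁.1)) (fun h => haD (h ▸ hc₂.1))

end Perm

section Jordan

variable {G : Type*} {Ω : Type*} [Group G] [MulAction G Ω]

/-- A quasiprimitive group having a Jordan set with at least two points is transitive. -/
theorem isPretransitive_of_jordan
    (hqp : ∀ N : Subgroup G, N.Normal → N ≠ ⊥ → MulAction.IsPretransitive ↥N Ω)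
    (Γ : Set Ω) [Finite Ω] (hΓ1 : 1 < Γ.ncard)
    (hJ : MulAction.IsPretransitive ↥(fixingSubgroup G Γᶜ) ↥(SubMulAction.ofFixingSubgroup G Γᶜ)) :
    MulAction.IsPretransitive G Ω := by
  obtain ⟨x0, hx0, y0, hy0, hxy0⟩ := (Set.one_lt_ncard (Set.toFinite Γ)).mp hΓ1
  have hxm : x0 ∈ SubMulAction.ofFixingSubgroup G Γᶜ := by
    rw [mem_ofFixingSubgroup_iff]; simpa using hx0
  have hym : y0 ∈ SubMulAction.ofFixingSubgroup G Γᶜ := by
    rw [mem_ofFixingSubgroup_iff]; simpa using hy0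
  obtain ⟨h0, hh0⟩ := hJ.exists_smul_eq ⟨x0, hxm⟩ ⟨y0, hym⟩
  have hh0' : (h0 : G) • x0 = y0 := congrArg Subtype.val hh0
  have hh0ne : (h0 : G) ≠ 1 := by
    intro h1
    rw [h1, one_smul] at hh0'
    exact hxy0 hh0'
  have hGnt : (⊤ : Subgroup G) ≠ ⊥ := by
    intro h
    have : (h0 : G) ∈ (⊥ : Subgroup G) := by rw [← h]; trivial
    exact hh0ne (Subgroup.mem_bot.mp this)
  have htop := hqp ⊤ inferInstance hGnt
  constructor
  intro a b
  obtain ⟨g, hg⟩ := htop.exists_smul_eq a b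
  exact ⟨(g : G), hg⟩

/-- The core of the reduction, for an abstract equivariant surjection `f : Ω → T` which is neither
injective nor constant: quasiprimitivity and the Jordan set pass to `T`, and if this forces `G` to
induce all even permutations of `T`, we get a contradiction. -/
theorem core {T : Type*} [Fintype Ω] [MulAction G T] [Fintype T] [DecidableEq T] [Nontrivial T]
    (f : Ω → T) (hf : ∀ (g : G) (a : Ω), f (g • a) = g • f a) (hsurj : Function.Surjective f)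
    (hninj : ¬ Function.Injective f)
    (hqp : ∀ N : Subgroup G, N.Normal → N ≠ ⊥ → MulAction.IsPretransitive ↥N Ω)
    (Γ : Set Ω) (hΓ1 : 1 < Γ.ncard) (hΓ2 : 2 * Γ.ncard < Fintype.card Ω)
    (hJ : MulAction.IsPretransitive ↥(fixingSubgroup G Γᶜ) ↥(SubMulAction.ofFixingSubgroup G Γᶜ))
    (hAlt : FaithfulSMul G T →
      (∀ N : Subgroup G, N.Normal → N ≠ ⊥ → MulAction.IsPretransitive ↥N T) →
      ∀ Δ : Set T, 1 < Δ.ncard → 2 * Δ.ncard < Fintype.card T →
      MulAction.IsPretransitive ↥(fixingSubgroup G Δᶜ) ↥(SubMulAction.ofFixingSubgroup G Δᶜ) →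
      ∀ σ : Equiv.Perm T, Equiv.Perm.sign σ = 1 →
        ∃ x : G, (MulAction.toPerm x : Equiv.Perm T) = σ) : False := by
  classical
  set H := fixingSubgroup G Γᶜ with hH
  -- basic facts on `H`
  have H1 : ∀ h ∈ H, ∀ a, a ∉ Γ → h • a = a := by
    intro h hh a ha
    exact (mem_fixingSubgroup_iff G).mp hh a ha
  have H2 : ∀ h ∈ H, ∀ a, a ∈ Γ → h • a ∈ Γ := by
    intro h hh a ha
    by_contra hnot
    have hinv : h⁻¹ ∈ H := Subgroup.inv_mem _ hh
    have := H1 h⁻¹ hinv (h • a) hnot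
    rw [inv_smul_smul] at this
    exact hnot (this ▸ ha)
  have H3 : ∀ a ∈ Γ, ∀ c ∈ Γ, ∃ h ∈ H, h • a = c := by
    intro a ha c hc
    have ham : a ∈ SubMulAction.ofFixingSubgroup G Γᶜ := by
      rw [mem_ofFixingSubgroup_iff]; simpa using ha
    have hcm : c ∈ SubMulAction.ofFixingSubgroup G Γᶜ := by
      rw [mem_ofFixingSubgroup_iff]; simpa using hc
    obtain ⟨h, hh⟩ := hJ.exists_smul_eq ⟨a, ham⟩ ⟨c, hcm⟩
    exact ⟨(h : G), h.2, congrArg Subtype.val hh⟩
  obtain ⟨x0, hx0, y0, hy0, hxy0⟩ := (Set.one_lt_ncard (Set.toFinite Γ)).mp hΓ1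
  obtain ⟨h0, hh0, hh0'⟩ := H3 x0 hx0 y0 hy0
  have hh0ne : h0 ≠ 1 := by
    rintro rfl
    rw [one_smul] at hh0'
    exact hxy0 hh0'
  have htrans : MulAction.IsPretransitive G Ω := isPretransitive_of_jordan hqp Γ hΓ1 hJ
  have htransT : MulAction.IsPretransitive G T := by
    constructor
    intro τ₁ τ₂
    obtain ⟨a₁, rfl⟩ := hsurj τ₁
    obtain ⟨a₂, rfl⟩ := hsurj τ₂
    obtain ⟨g, hg⟩ := htrans.exists_smul_eq a₁ a₂
    exact ⟨g, by rw [← hf, hg]⟩
  -- the action on `T` is faithful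
  have hfaith : FaithfulSMul G T := by
    have hker : (MulAction.toPermHom G T).ker = ⊥ := by
      by_contra hK
      have hKt := hqp _ (MonoidHom.normal_ker _) hK
      obtain ⟨τ₁, τ₂, hne⟩ := exists_pair_ne T
      obtain ⟨a₁, rfl⟩ := hsurj τ₁
      obtain ⟨a₂, rfl⟩ := hsurj τ₂
      obtain ⟨n, hn⟩ := hKt.exists_smul_eq a₁ a₂
      apply hne
      have hn1 : MulAction.toPermHom G T (n : G) = 1 := MonoidHom.mem_ker.mp n.2
      have hfix : (n : G) • f a₁ = f a₁ := by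
        have := congrArg (fun p : Equiv.Perm T => p (f a₁)) hn1
        simpa using this
      rw [← hfix, ← hf]
      exact congrArg f hn
    constructor
    intro g₁ g₂ h
    have hinj := (MonoidHom.ker_eq_bot_iff _).mp hker
    apply hinj
    ext τ
    exact h τ
  have hqpT : ∀ N : Subgroup G, N.Normal → N ≠ ⊥ → MulAction.IsPretransitive ↥N T := by
    intro N hN hNb
    have hNt := hqp N hN hNb
    constructor
    intro τ₁ τ₂
    obtain ⟨a₁, rfl⟩ := hsurj τ₁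
    obtain ⟨a₂, rfl⟩ := hsurj τ₂
    obtain ⟨n, hn⟩ := hNt.exists_smul_eq a₁ a₂
    refine ⟨n, ?_⟩
    change (n : G) • f a₁ = f a₂
    rw [← hf]
    exact congrArg f hn
  -- the induced Jordan set
  set Δ : Set T := {τ | ∀ a, f a = τ → a ∈ Γ} with hΔ
  have c1 : ∀ τ, τ ∉ Δ → ∀ h ∈ H, h • τ = τ := by
    intro τ hτ h hh
    simp only [hΔ, Set.mem_ofPred_eq, not_forall] at hτ
    obtain ⟨a, ha, haΓ⟩ := hτ
    rw [← ha, ← hf, H1 h hh a haΓ]
  have hfaithH : ∀ h : G, (∀ τ : T, h • τ = τ) → h = 1 := by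
    intro h hall
    apply hfaith.eq_of_smul_eq_smul
    intro τ; rw [hall τ, one_smul]
  have c2 : Δ.Nonempty := by
    by_contra hne
    rw [Set.not_nonempty_iff_eq_empty] at hne
    apply hh0ne
    apply hfaithH h0
    intro τ
    exact c1 τ (by rw [hne]; exact Set.notMem_empty τ) h0 hh0
  obtain ⟨σ₁, hσ₁⟩ := c2
  have c3 : ∀ a, a ∈ Γ → f a ∈ Δ := by
    intro a ha
    obtain ⟨a₁, ha₁⟩ := hsurj σ₁
    have ha₁Γ : a₁ ∈ Γ := hσ₁ a₁ ha₁
    obtain ⟨h, hh, hha⟩ := H3 a₁ ha₁Γ a ha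
    intro c hc
    have hfc : f (h⁻¹ • c) = σ₁ := by
      rw [hf, hc, ← hha, hf, inv_smul_smul, ha₁]
    have hmem := hσ₁ _ hfc
    have := H2 h hh _ hmem
    rwa [smul_inv_smul] at this
  have c3' : ∀ a, a ∈ Γ ↔ f a ∈ Δ := fun a => ⟨c3 a, fun h => h a rfl⟩
  have c6 : ∀ h ∈ H, ∀ τ ∈ Δ, h • τ ∈ Δ := by
    intro h hh τ hτ
    obtain ⟨a, rfl⟩ := hsurj τ
    rw [← hf]
    exact c3 _ (H2 h hh a ((c3' a).mpr hτ))
  have c4 : ∀ τ₁ ∈ Δ, ∀ τ₂ ∈ Δ, ∃ h ∈ H, h • τ₁ = τ₂ := by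
    intro τ₁ h₁ τ₂ h₂
    obtain ⟨a₁, rfl⟩ := hsurj τ₁
    obtain ⟨a₂, rfl⟩ := hsurj τ₂
    obtain ⟨h, hh, hha⟩ := H3 a₁ ((c3' a₁).mpr h₁) a₂ ((c3' a₂).mpr h₂)
    exact ⟨h, hh, by rw [← hf, hha]⟩
  have hΔ1 : 1 < Δ.ncard := by
    by_contra hle
    have hsub : Δ.Subsingleton :=
      (Set.ncard_le_one_iff_subsingleton (s := Δ)).mp (by omega)
    apply hh0ne
    apply hfaithH h0
    intro τ
    by_cases hτ : τ ∈ Δ
    · exact hsub (c6 h0 hh0 τ hτ) hτ
    · exact c1 τ hτ h0 hh0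
  -- counting
  let fib : T → Finset Ω := fun τ => Finset.univ.filter (fun a => f a = τ)
  have hfibmem : ∀ τ a, a ∈ fib τ ↔ f a = τ := by
    intro τ a
    simp only [fib, Finset.mem_filter, Finset.mem_univ, true_and]
  have hfib : ∀ τ τ', (fib τ).card = (fib τ').card := by
    intro τ τ'
    obtain ⟨g, rfl⟩ := htransT.exists_smul_eq τ τ'
    apply Finset.card_bij (fun a _ => g • a)
    · intro a ha
      rw [hfibmem] at ha ⊢
      rw [hf, ha]
    · intro a _ c _ h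
      exact smul_left_cancel g h
    · intro c hc
      rw [hfibmem] at hc
      exact ⟨g⁻¹ • c, by rw [hfibmem, hf, hc, inv_smul_smul], smul_inv_smul g c⟩
  set b := (fib σ₁).card with hb
  have hΩcard : Fintype.card Ω = Fintype.card T * b := by
    rw [← Finset.card_univ, Finset.card_eq_sum_card_fiberwise (f := f) (t := Finset.univ)
      (fun _ _ => Finset.mem_univ _)]
    rw [Finset.sum_congr rfl (fun τ _ => hfib τ σ₁)]
    rw [Finset.sum_const, smul_eq_mul, Finset.card_univ]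
  have hΓcard : Γ.ncard = Δ.ncard * b := by
    rw [Set.ncard_eq_toFinset_card' Γ, Set.ncard_eq_toFinset_card' Δ]
    rw [Finset.card_eq_sum_card_fiberwise (f := f) (t := Δ.toFinset)
      (by intro a ha; simpa using (c3 a (by simpa using ha)))]
    have : ∀ τ ∈ Δ.toFinset, (Γ.toFinset.filter (fun a => f a = τ)).card = b := by
      intro τ hτ
      rw [hb, hfib σ₁ τ]
      congr 1
      ext a
      simp only [Finset.mem_filter, Set.mem_toFinset, hfibmem]
      constructor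
      · rintro ⟨_, h⟩; exact h
      · intro h
        refine ⟨?_, h⟩
        rw [Set.mem_toFinset] at hτ
        exact hτ a h
    rw [Finset.sum_congr rfl this, Finset.sum_const, smul_eq_mul]
  have hb2 : 2 ≤ b := by
    rw [Function.Injective] at hninj
    push Not at hninj
    obtain ⟨a, a', haa', hne⟩ := hninj
    rw [hb, hfib σ₁ (f a)]
    have h1 : a ∈ fib (f a) := (hfibmem _ _).mpr rfl
    have h2 : a' ∈ fib (f a) := (hfibmem _ _).mpr haa'.symm
    exact Finset.one_lt_card.mpr ⟨a, h1, a', h2, hne⟩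
  have hΔ2 : 2 * Δ.ncard < Fintype.card T := by
    rw [hΩcard, hΓcard] at hΓ2
    have : 2 * Δ.ncard * b < Fintype.card T * b := by rw [mul_assoc]; exact hΓ2
    exact lt_of_mul_lt_mul_right this (Nat.zero_le b)
  have hJΔ : MulAction.IsPretransitive ↥(fixingSubgroup G Δᶜ)
      ↥(SubMulAction.ofFixingSubgroup G Δᶜ) := by
    constructor
    intro x y
    have hx : (x : T) ∈ Δ := by
      have := x.2; rw [mem_ofFixingSubgroup_iff] at this; simpa using this
    have hy : (y : T) ∈ Δ := by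
      have := y.2; rw [mem_ofFixingSubgroup_iff] at this; simpa using this
    obtain ⟨h, hh, hxy⟩ := c4 _ hx _ hy
    have hmem : h ∈ fixingSubgroup G Δᶜ := by
      rw [mem_fixingSubgroup_iff]
      intro τ hτ
      exact c1 τ hτ h hh
    exact ⟨⟨h, hmem⟩, Subtype.ext hxy⟩
  have hA := hAlt hfaith hqpT Δ hΔ1 hΔ2 hJΔ
  -- two points in the fibre of `σ₁`
  obtain ⟨α₁, hα₁, α₁', hα₁', hαne⟩ := Finset.one_lt_card.mp (show 1 < (fib σ₁).card from hb2)
  rw [hfibmem] at hα₁ hα₁'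
  have hα₁Γ : α₁ ∈ Γ := hσ₁ _ hα₁
  have hα₁'Γ : α₁' ∈ Γ := hσ₁ _ hα₁'
  obtain ⟨h₁, hh₁, hh₁'⟩ := H3 α₁ hα₁Γ α₁' hα₁'Γ
  have hh₁σ : h₁ • σ₁ = σ₁ := by
    calc h₁ • σ₁ = h₁ • f α₁ := by rw [hα₁]
      _ = f (h₁ • α₁) := (hf _ _).symm
      _ = σ₁ := by rw [hh₁', hα₁']
  obtain ⟨σ₂, hσ₂, hσ₂ne⟩ : ∃ σ₂ ∈ Δ, σ₂ ≠ σ₁ := by
    obtain ⟨u, hu, v, hv, huv⟩ := (Set.one_lt_ncard (Set.toFinite Δ)).mp hΔ1
    by_cases h : u = σ₁
    · exact ⟨v, hv, fun hv' => huv (h.trans hv'.symm)⟩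
    · exact ⟨u, hu, h⟩
  obtain ⟨α₂, hα₂⟩ := hsurj σ₂
  have hα₂Γ : α₂ ∈ Γ := hσ₂ _ hα₂
  -- the even permutation
  have hdisj : Disjoint (Δ.toFinset.erase σ₁) (Δᶜ).toFinset := by
    rw [Finset.disjoint_left]
    intro τ hτ hτ'
    rw [Set.mem_toFinset] at hτ'
    exact hτ' (Set.mem_toFinset.mp (Finset.mem_of_mem_erase hτ))
  have hcardΔ : (Δ.toFinset.erase σ₁).card + 2 ≤ (Δᶜ).toFinset.card := by
    rw [Finset.card_erase_of_mem (Set.mem_toFinset.mpr hσ₁), ← Set.ncard_eq_toFinset_card',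
      ← Set.ncard_eq_toFinset_card']
    have := Set.ncard_add_ncard_compl Δ
    rw [Nat.card_eq_fintype_card] at this
    omega
  obtain ⟨π, hπs, hπ1, hπ2⟩ :=
    exists_even_perm_mapsTo (Δ.toFinset.erase σ₁) (Δᶜ).toFinset hdisj hcardΔ
  obtain ⟨x, hx⟩ := hA π hπs
  have hxτ : ∀ τ, x • τ = π τ := fun τ => by rw [← hx]; rfl
  have hxσ₁ : x • σ₁ = σ₁ := by
    rw [hxτ]
    refine hπ2 σ₁ (Finset.notMem_erase _ _) ?_
    rw [Set.mem_toFinset]
    exact fun h => h hσ₁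
  have hxinvσ₁ : x⁻¹ • σ₁ = σ₁ := inv_smul_eq_iff.mpr hxσ₁.symm
  have hxΔ : ∀ τ ∈ Δ, τ ≠ σ₁ → x • τ ∉ Δ := by
    intro τ hτ hne
    rw [hxτ]
    have := hπ1 τ (Finset.mem_erase.mpr ⟨hne, Set.mem_toFinset.mpr hτ⟩)
    rw [Set.mem_toFinset] at this
    exact this
  obtain ⟨h₂, hh₂⟩ : ∃ h₂ : G, h₂ = x⁻¹ * h₁ * x := ⟨_, rfl⟩
  have cA : ∀ τ ∈ Δ, h₂ • τ = τ := by
    intro τ hτ
    by_cases hτσ : τ = σ₁
    · rw [hτσ, hh₂, mul_smul, mul_smul, hxσ₁, hh₁σ, hxinvσ₁]
    · rw [hh₂, mul_smul, mul_smul, c1 _ (hxΔ τ hτ hτσ) h₁ hh₁, inv_smul_smul]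
  have cB : ∀ h ∈ H, h * h₂ = h₂ * h := by
    intro h hh
    apply hfaith.eq_of_smul_eq_smul
    intro τ
    rw [mul_smul, mul_smul]
    by_cases hτ : τ ∈ Δ
    · rw [cA τ hτ, cA _ (c6 h hh τ hτ)]
    · have hnot : h₂ • τ ∉ Δ := by
        intro hmem
        have h3 := smul_left_cancel h₂ (cA _ hmem)
        exact hτ (h3 ▸ hmem)
      rw [c1 τ hτ h hh, c1 _ hnot h hh]
  have cC : h₂ • α₂ = α₂ := by
    have hxα₂ : x • α₂ ∉ Γ := by
      rw [c3', hf, hα₂]
      exact hxΔ σ₂ hσ₂ hσ₂ne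
    rw [hh₂, mul_smul, mul_smul, H1 h₁ hh₁ _ hxα₂, inv_smul_smul]
  have hβΓ : x⁻¹ • α₁ ∈ Γ := by
    rw [c3', hf, hα₁, hxinvσ₁]
    exact hσ₁
  obtain ⟨h, hh, hhβ⟩ := H3 α₂ hα₂Γ _ hβΓ
  have e1 : h₂ • (x⁻¹ • α₁) = x⁻¹ • α₁ := by
    rw [← hhβ, ← mul_smul, ← cB h hh, mul_smul, cC]
  have e2 : h₂ • (x⁻¹ • α₁) = x⁻¹ • α₁' := by
    rw [hh₂, mul_smul, mul_smul, smul_inv_smul, hh₁']
  rw [e2] at e1
  exact hαne (smul_left_cancel _ e1).symm

end Jordan

section Main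

/-- Strong induction on the degree. -/
theorem quasi_reduction_aux.{u, v}
    (hP : ∀ (G : Type u) (Ω : Type v) [Group G] [Finite G] [MulAction G Ω] [FaithfulSMul G Ω]
      [Fintype Ω] [DecidableEq Ω], MulAction.IsPreprimitive G Ω → ∀ Γ : Set Ω, 1 < Γ.ncard →
      2 * Γ.ncard < Fintype.card Ω →
      MulAction.IsPretransitive ↥(fixingSubgroup G Γᶜ) ↥(SubMulAction.ofFixingSubgroup G Γᶜ) →
      ∀ σ : Equiv.Perm Ω, Equiv.Perm.sign σ = 1 → ∃ x : G, (MulAction.toPerm x : Equiv.Perm Ω) = σ)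
    (n : ℕ) : ∀ (G : Type u) (Ω : Type v) [Group G] [Finite G] [MulAction G Ω] [Finite Ω],
    Nat.card Ω = n →
    (∀ N : Subgroup G, N.Normal → N ≠ ⊥ → MulAction.IsPretransitive ↥N Ω) →
    ∀ Γ : Set Ω, 1 < Γ.ncard → 2 * Γ.ncard < Nat.card Ω →
    MulAction.IsPretransitive ↥(fixingSubgroup G Γᶜ) ↥(SubMulAction.ofFixingSubgroup G Γᶜ) →
    MulAction.IsPreprimitive G Ω := by
  induction n using Nat.strong_induction_on with
  | _ n ih =>
  intro G Ω _ _ _ _ hn hqp Γ hΓ1 hΓ2 hJ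
  classical
  have htrans : MulAction.IsPretransitive G Ω := isPretransitive_of_jordan hqp Γ hΓ1 hJ
  refine { toIsPretransitive := htrans, isTrivialBlock_of_isBlock := ?_ }
  intro B hB
  by_contra hBt
  have hBns : ¬ B.Subsingleton := fun h => hBt (Or.inl h)
  have hBnu : B ≠ Set.univ := fun h => hBt (Or.inr h)
  obtain ⟨b₀, hb₀⟩ : B.Nonempty := by
    by_contra hne
    rw [Set.not_nonempty_iff_eq_empty] at hne
    exact hBns (hne ▸ Set.subsingleton_empty)
  -- the translates of `B`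
  have hex : ∀ a : Ω, ∃ g : G, a ∈ g • B := by
    intro a
    obtain ⟨g, hg⟩ := htrans.exists_smul_eq b₀ a
    exact ⟨g, b₀, hb₀, hg⟩
  let f : Ω → orbit G B := fun a => ⟨Classical.choose (hex a) • B, mem_orbit B _⟩
  have hfmem : ∀ a, a ∈ (f a : Set Ω) := fun a => Classical.choose_spec (hex a)
  have hK : ∀ (τ : orbit G B) (a : Ω), a ∈ (τ : Set Ω) → f a = τ := by
    intro τ a ha
    obtain ⟨g, hg⟩ := τ.2
    apply Subtype.ext
    change Classical.choose (hex a) • B = (τ : Set Ω)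
    rw [← hg]
    apply isBlock_iff_smul_eq_smul_of_nonempty.mp hB
    refine ⟨a, hfmem a, ?_⟩
    have : g • B = (τ : Set Ω) := hg
    rw [this]
    exact ha
  have hf : ∀ (g : G) (a : Ω), f (g • a) = g • f a := by
    intro g a
    apply hK
    rw [orbit.coe_smul]
    exact Set.smul_mem_smul_set (hfmem a)
  have hsurj : Function.Surjective f := by
    intro τ
    obtain ⟨g, hg⟩ := τ.2
    refine ⟨g • b₀, hK τ _ ?_⟩
    have : g • B = (τ : Set Ω) := hg
    rw [← this]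
    exact Set.smul_mem_smul_set hb₀
  have hninj : ¬ Function.Injective f := by
    intro hinj
    apply hBns
    intro a ha c hc
    apply hinj
    rw [hK ⟨B, mem_orbit_self B⟩ a ha, hK ⟨B, mem_orbit_self B⟩ c hc]
  have : Nontrivial (orbit G B) := by
    obtain ⟨c, hc⟩ : ∃ c, c ∉ B := by
      by_contra hall
      push Not at hall
      exact hBnu (Set.eq_univ_of_forall hall)
    refine ⟨⟨f c, ⟨B, mem_orbit_self B⟩, ?_⟩⟩
    intro h
    have := hfmem c
    rw [h] at this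
    exact hc this
  let _ : Fintype Ω := Fintype.ofFinite Ω
  let _ : Fintype (orbit G B) := Fintype.ofFinite _
  have hlt : Nat.card (orbit G B) < n := by
    rw [← hn, Nat.card_eq_fintype_card, Nat.card_eq_fintype_card]
    exact Fintype.card_lt_of_surjective_not_injective f hsurj hninj
  refine core f hf hsurj hninj hqp Γ hΓ1 (by rwa [Nat.card_eq_fintype_card] at hΓ2) hJ ?_
  intro hfaith hqpT Δ hΔ1 hΔ2 hJΔ
  have hprim : MulAction.IsPreprimitive G (orbit G B) :=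
    ih _ hlt G (orbit G B) rfl hqpT Δ hΔ1 (by rwa [Nat.card_eq_fintype_card]) hJΔ
  exact hP G (orbit G B) hprim Δ hΔ1 hΔ2 hJΔ

/-- **K-S3620-B.**  Quasiprimitive + Jordan set of size `< n/2` ⇒ primitive, given the primitive
case `hP` of Marggraf's theorem. -/
theorem quasi_reduction.{u, v}
    (hP : ∀ (G : Type u) (Ω : Type v) [Group G] [Finite G] [MulAction G Ω] [FaithfulSMul G Ω]
      [Fintype Ω] [DecidableEq Ω], MulAction.IsPreprimitive G Ω → ∀ Γ : Set Ω, 1 < Γ.ncard →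
      2 * Γ.ncard < Fintype.card Ω →
      MulAction.IsPretransitive ↥(fixingSubgroup G Γᶜ) ↥(SubMulAction.ofFixingSubgroup G Γᶜ) →
      ∀ σ : Equiv.Perm Ω, Equiv.Perm.sign σ = 1 → ∃ x : G, (MulAction.toPerm x : Equiv.Perm Ω) = σ)
    {G : Type u} {Ω : Type v} [Group G] [Finite G] [MulAction G Ω] [FaithfulSMul G Ω] [Fintype Ω]
    [DecidableEq Ω]
    (hqp : ∀ N : Subgroup G, N.Normal → N ≠ ⊥ → MulAction.IsPretransitive ↥N Ω)
    (Γ : Set Ω) (hΓ1 : 1 < Γ.ncard) (hΓ2 : 2 * Γ.ncard < Fintype.card Ω)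
    (hJ : MulAction.IsPretransitive ↥(fixingSubgroup G Γᶜ) ↥(SubMulAction.ofFixingSubgroup G Γᶜ)) :
    MulAction.IsPreprimitive G Ω :=
  quasi_reduction_aux hP (Nat.card Ω) G Ω rfl hqp Γ hΓ1
    (by rwa [Nat.card_eq_fintype_card]) hJ

end Main

end Cfsg.Agent.Lib.Helper06.Marggraf
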