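import Mathlib

set_option autoImplicit false

/-!
# Definitions for the near-field / solvable sharply 2-transitive project (S0688, S3361)

`adj H A` : the subalgebra of `End V` generated by a subgroup `A` of `H ≤ GL(V)`.
-/

namespace Cfsg.Agent.Lib.Helper06.NF

variable {p : ℕ} [Fact p.Prime] {V : Type*} [AddCommGroup V] [Module (ZMod p) V]

/-- the subalgebra of `End V` generated by a subgroup `A` of `H ≤ GL(V)`. -/
def adj (H : Subgroup (V ≃ₗ[ZMod p] V)) (A : Subgroup H) :
    Subalgebra (ZMod p) (Module.End (ZMod p) V) :=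
  Algebra.adjoin (ZMod p)
    {f | ∃ a ∈ A, f = (((a : H) : V ≃ₗ[ZMod p] V) : V →ₗ[ZMod p] V)}

/-- `GL(V)` is finite for finite `V`. -/
theorem finite_linearEquiv [Finite V] : Finite (V ≃ₗ[ZMod p] V) :=
  Finite.of_injective (fun f : V ≃ₗ[ZMod p] V => (f : V → V))
    (fun _ _ h => LinearEquiv.ext (congrFun h))

/-- a subgroup of `GL(V)` is finite for finite `V`. -/
theorem finite_subgroup_linearEquiv [Finite V] (H : Subgroup (V ≃ₗ[ZMod p] V)) : Finite H :=
  haveI := finite_linearEquiv (p := p) (V := V)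
  inferInstance

end Cfsg.Agent.Lib.Helper06.NF
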