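import Mathlib
import Cfsg.Agent.Lib.Helper06.NFDefs
import Cfsg.Agent.Lib.Helper22.NFCyc
import Cfsg.Agent.Lib.Helper23.NF4a
import Cfsg.Agent.Lib.Helper81.NFGal
import Cfsg.Agent.Lib.Helper18.NF5a
import Cfsg.Agent.Lib.Helper97.NF5d
import Cfsg.Agent.Lib.Helper90.NF5b1
import Cfsg.Agent.Lib.Helper28.NF5b2
import Cfsg.Agent.Lib.Helper28.NF5b3
import Cfsg.Agent.Lib.Helper90.NF5c
import Cfsg.Agent.Lib.Helper80.NF6
import Cfsg.Agent.Lib.Helper86.NFNum
import Cfsg.Agent.Lib.Helper32.NF3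

set_option autoImplicit false

namespace Cfsg.Agent.Lib.Helper06.NF

open Subgroup

theorem zmod_three_sq : ∀ c : ZMod 3, c ≠ 0 → c * c = 1 := by decide

section Basic

variable {G : Type*} [Group G]

theorem relIndex_mul_card {A B : Subgroup G} (h : A ≤ B) :
    A.relIndex B * Nat.card A = Nat.card B := by
  have h1 := Subgroup.card_mul_index (A.subgroupOf B)
  have h2 : Nat.card (A.subgroupOf B) = Nat.card A :=
    Nat.card_congr (Subgroup.subgroupOfEquivOfLe h).toEquiv
  rw [h2] at h1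
  rw [Subgroup.relIndex, mul_comm]
  exact h1

end Basic

section Linear

variable {p : ℕ} [Fact p.Prime] {V : Type*} [AddCommGroup V] [Module (ZMod p) V]

theorem fpf_of_reg (H : Subgroup (V ≃ₗ[ZMod p] V))
    (hreg : ∀ v w : V, v ≠ 0 → w ≠ 0 → ∃! h : H, (h : V ≃ₗ[ZMod p] V) v = w) :
    ∀ h : H, ∀ v : V, v ≠ 0 → (h : V ≃ₗ[ZMod p] V) v = v → h = 1 := by
  intro h v hv hh
  obtain ⟨h0, _, huniq⟩ := hreg v v hv hv
  have h1 : (1 : H) = h0 := huniq 1 (by simp)
  have h2 : h = h0 := huniq h hh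
  rw [h2, ← h1]

theorem card_of_reg [Finite V] [Nontrivial V] (H : Subgroup (V ≃ₗ[ZMod p] V))
    (hreg : ∀ v w : V, v ≠ 0 → w ≠ 0 → ∃! h : H, (h : V ≃ₗ[ZMod p] V) v = w) :
    Nat.card H + 1 = Nat.card V := by
  obtain ⟨v0, hv0⟩ := exists_ne (0 : V)
  have hbij : Function.Bijective (fun h : H => (⟨(h : V ≃ₗ[ZMod p] V) v0, by
      intro h0
      exact hv0 ((LinearEquiv.map_eq_zero_iff _).mp h0)⟩ : {w : V // w ≠ 0})) := by
    constructor
    · intro h1 h2 h12
      simp only [Subtype.mk.injEq] at h12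
      obtain ⟨h0, _, huniq⟩ := hreg v0 ((h2 : V ≃ₗ[ZMod p] V) v0) hv0 (by
        intro h0; exact hv0 ((LinearEquiv.map_eq_zero_iff _).mp h0))
      rw [huniq h1 h12, huniq h2 rfl]
    · rintro ⟨w, hw⟩
      obtain ⟨h0, hh0, _⟩ := hreg v0 w hv0 hw
      exact ⟨h0, Subtype.ext hh0⟩
  have h1 : Nat.card H = Nat.card {w : V // w ≠ 0} := Nat.card_eq_of_bijective _ hbij
  have h2 : Nat.card {w : V // w ≠ 0} = Nat.card V - 1 := by
    have := Fintype.ofFinite V
    classical
    rw [Nat.card_eq_fintype_card, Nat.card_eq_fintype_card, Fintype.card_subtype_compl,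
      Fintype.card_subtype_eq]
  have h3 : 0 < Nat.card V := Nat.card_pos
  omega

theorem neg_of_involution (H : Subgroup (V ≃ₗ[ZMod p] V))
    (hfpf : ∀ h : H, ∀ v : V, v ≠ 0 → (h : V ≃ₗ[ZMod p] V) v = v → h = 1)
    (u : H) (hu : u * u = 1) (hu1 : u ≠ 1) (v : V) : (u : V ≃ₗ[ZMod p] V) v = -v := by
  by_contra hne
  have hw : (u : V ≃ₗ[ZMod p] V) v + v ≠ 0 := by
    intro h0
    exact hne (eq_neg_of_add_eq_zero_left h0)
  apply hu1
  apply hfpf u _ hw
  have h2 : (u : V ≃ₗ[ZMod p] V) ((u : V ≃ₗ[ZMod p] V) v) = v := by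
    have : ((u * u : H) : V ≃ₗ[ZMod p] V) v = v := by rw [hu]; rfl
    exact this
  rw [map_add, h2, add_comm]

theorem unique_involution (H : Subgroup (V ≃ₗ[ZMod p] V))
    (hfpf : ∀ h : H, ∀ v : V, v ≠ 0 → (h : V ≃ₗ[ZMod p] V) v = v → h = 1) :
    ∀ u v : H, u * u = 1 → u ≠ 1 → v * v = 1 → v ≠ 1 → u = v := by
  intro u v hu hu1 hv hv1
  apply Subtype.ext
  apply LinearEquiv.ext
  intro x
  rw [neg_of_involution H hfpf u hu hu1 x, neg_of_involution H hfpf v hv hv1 x]

/-- existence of a maximal normal abelian subgroup -/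
theorem exists_max_normal_abelian {G : Type*} [Group G] [Finite G] :
    ∃ A : Subgroup G, A.Normal ∧ (∀ a ∈ A, ∀ b ∈ A, a * b = b * a) ∧
      ∀ B : Subgroup G, B.Normal → (∀ a ∈ B, ∀ b ∈ B, a * b = b * a) → A ≤ B → B = A := by
  have hfin : (Set.univ : Set (Subgroup G)).Finite := Set.finite_univ
  obtain ⟨A, hA⟩ := Set.Finite.exists_maximal
    (s := {A : Subgroup G | A.Normal ∧ ∀ a ∈ A, ∀ b ∈ A, a * b = b * a})
    (hfin.subset (Set.subset_univ _))
    ⟨⊥, inferInstance, by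
      intro a ha b hb
      rw [Subgroup.mem_bot] at ha hb
      rw [ha, hb]⟩
  refine ⟨A, hA.prop.1, hA.prop.2, ?_⟩
  intro B hBn hBc hAB
  exact le_antisymm (hA.le_of_ge ⟨hBn, hBc⟩ hAB) hAB

/-- The structure theorem for solvable sharply transitive linear groups. -/
theorem structure_thm [Finite V] [Nontrivial V] (H : Subgroup (V ≃ₗ[ZMod p] V))
    (hreg : ∀ v w : V, v ≠ 0 → w ≠ 0 → ∃! h : H, (h : V ≃ₗ[ZMod p] V) v = w)
    (hsolv : Group.IsSolvable H) :
    ∃ A : Subgroup H, A.Normal ∧ (∀ a ∈ A, ∀ b ∈ A, a * b = b * a) ∧ IsCyclic A ∧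
      (∀ B : Subgroup H, B.Normal → (∀ a ∈ B, ∀ b ∈ B, a * b = b * a) → A ≤ B → B = A) ∧
      ((Subgroup.centralizer (A : Set H) = A ∧
          (∀ W : Submodule (ZMod p) V,
            (∀ a ∈ A, ∀ v ∈ W, ((a : H) : V ≃ₗ[ZMod p] V) v ∈ W) → W = ⊥ ∨ W = ⊤)) ∨
        (Nat.card V = p ^ 2 ∧ (p = 3 ∨ p = 5 ∨ p = 7 ∨ p = 11 ∨ p = 23) ∧
          Subgroup.centralizer (A : Set H) = ⊤ ∧ Nat.card A ∣ p - 1 ∧ A.index ∣ 24 ∧
          ∃ Q : Subgroup H, Q.Normal ∧ Nat.card Q = 8 ∧ (∃ u ∈ Q, ∃ v ∈ Q, u * v ≠ v * u) ∧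
            Subgroup.centralizer (Q : Set H) = A)) := by
  have : Finite H := finite_subgroup_linearEquiv H
  have hfpf := fpf_of_reg H hreg
  have hcard := card_of_reg H hreg
  have htrans : ∀ v w : V, v ≠ 0 → w ≠ 0 → ∃ h : H, (h : V ≃ₗ[ZMod p] V) v = w :=
    fun v w hv hw => (hreg v w hv hw).exists
  have hcyc : ∀ M : Subgroup H, (∀ a ∈ M, ∀ b ∈ M, a * b = b * a) → IsCyclic M :=
    fun M hM => Cfsg.Agent.Lib.Helper22.NF.cyc_of_fpf H hfpf M hM
  obtain ⟨A, hAn, hAc, hAmax⟩ := exists_max_normal_abelian (G := H)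
  refine ⟨A, hAn, hAc, hcyc A hAc, hAmax, ?_⟩
  have hK := Cfsg.Agent.Lib.Helper32.NF.adj_injective H htrans A hAn hAc
  obtain ⟨hd, e, he, hV, hAdvd, hW, he1⟩ := Cfsg.Agent.Lib.Helper23.NF.dim_data H A hAc hK
  have hidx := Cfsg.Agent.Lib.Helper81.NF.index_centralizer_dvd_finrank H A hAn hAc hK
  set d := Module.finrank (ZMod p) (adj H A) with hd_def
  set C := Subgroup.centralizer (A : Set H) with hC_def
  have hAC : A ≤ C := by
    intro a ha
    exact Subgroup.mem_centralizer_iff.mpr (fun b hb => hAc b hb a ha)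
  have : A.Normal := hAn
  have hCn : C.Normal := Subgroup.normal_centralizer
  have hHcard : Nat.card H = p ^ (d * e) - 1 := by omega
  have hppos : 1 < p := (Fact.out : p.Prime).one_lt
  by_cases hCA : C = A
  · left
    refine ⟨hCA, ?_⟩
    -- e = 1
    have hdvd : p ^ (d * e) - 1 ∣ d * (p ^ d - 1) := by
      rw [← hHcard, ← Subgroup.card_mul_index C, mul_comm]
      exact Nat.mul_dvd_mul hidx (by rw [hCA]; exact hAdvd)
    have he2 : ¬ 2 ≤ e := fun he2 => Cfsg.Agent.Lib.Helper86.NF.numerics_cyclic p d e Fact.out hd he2 hdvd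
    intro W hWinv
    by_contra hcon
    push Not at hcon
    exact he2 (hW ⟨W, hcon.1, hcon.2, hWinv⟩)
  · right
    have hAltC : A < C := lt_of_le_of_ne hAC (Ne.symm hCA)
    have he2 : 2 ≤ e := by
      by_contra hlt
      have he1' : e = 1 := by omega
      exact hCA (hAmax C hCn (he1 he1') hAC)
    -- the key lemma on Z(B)
    have hZgen : ∀ B : Subgroup H, B.Normal → A ≤ B → B ≤ C →
        ∀ x ∈ B, (∀ y ∈ B, x * y = y * x) → x ∈ A := by
      intro B hBn hAB hBC x hxB hxc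
      have : B.Normal := hBn
      have hZn : (Subgroup.centralizer (B : Set H) ⊓ B).Normal := inferInstance
      have hZc : ∀ a ∈ Subgroup.centralizer (B : Set H) ⊓ B,
          ∀ b ∈ Subgroup.centralizer (B : Set H) ⊓ B, a * b = b * a := by
        intro a ha b hb
        exact ((Subgroup.mem_centralizer_iff.mp ha.1) b hb.2).symm
      have hAZ : A ≤ Subgroup.centralizer (B : Set H) ⊓ B := by
        intro a ha
        refine ⟨Subgroup.mem_centralizer_iff.mpr ?_, hAB ha⟩
        intro b hb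
        have := Subgroup.mem_centralizer_iff.mp (hBC hb) a ha
        exact this.symm
      have hZA := hAmax _ hZn hZc hAZ
      rw [← hZA]
      refine ⟨Subgroup.mem_centralizer_iff.mpr ?_, hxB⟩
      intro y hy
      exact (hxc y hy).symm
    obtain ⟨B, r, hBn, hr, hAB, hBC, hcomm, hexp⟩ :=
      Cfsg.Agent.Lib.Helper18.NF.exists_elementary_section hsolv A C hAn hCn hAltC
    have hZ := hZgen B hBn hAB.le hBC
    have hrel0 := Cfsg.Agent.Lib.Helper90.NF.relIndex_eq_sq hcyc A B r hr hAB hBC hZ hcomm hexp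
      (fun x y hx hy hxy hxr hyr hxA hyA =>
        Cfsg.Agent.Lib.Helper97.NF.no_two_independent hcyc A hAc r hr x y hx hy hxy hxr hyr hxA hyA)
    have hr2 : r = 2 := Cfsg.Agent.Lib.Helper28.NF.prime_eq_two hcyc A B r hr hAB hBC hZ hcomm hexp hrel0
    subst hr2
    have hrel : A.relIndex B = 4 := by
      simpa using hrel0
    have hmod := Cfsg.Agent.Lib.Helper28.NF.card_mod_four hcyc A B hAB hBC hZ hcomm hexp hrel
    have hna : ∃ x ∈ B, ∃ y ∈ B, x * y ≠ y * x := by
      by_contra hcon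
      push Not at hcon
      obtain ⟨x, hxB, hxA⟩ := SetLike.exists_of_lt hAB
      exact hxA (hZ x hxB (fun y hy => hcon x hxB y hy))
    obtain ⟨Q, hQn, hQ8, hQna, hQB, hBQA⟩ :=
      Cfsg.Agent.Lib.Helper90.NF.exists_Q A B hAn hBn hAB.le hBC hcomm hexp hna hrel hmod
    have : Q.Normal := hQn
    -- C(Q) ⊓ C = A
    have hCQ : Subgroup.centralizer (Q : Set H) ⊓ C = A := by
      apply le_antisymm
      · by_contra hnle
        set C1 := Subgroup.centralizer (Q : Set H) ⊓ C with hC1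
        have hAC1 : A ≤ C1 := by
          intro a ha
          refine ⟨Subgroup.mem_centralizer_iff.mpr ?_, hAC ha⟩
          intro q hq
          exact (Subgroup.mem_centralizer_iff.mp (hBC (hQB hq)) a ha).symm
        have hlt : A < C1 := lt_of_le_of_ne hAC1 (fun h => hnle (h ▸ le_refl _))
        have hC1n : C1.Normal := inferInstance
        have hC1B : ∀ c ∈ C1, ∀ b ∈ B, c * b = b * c := by
          intro c hc b hb
          have hle : Q ⊔ A ≤ Subgroup.centralizer ({c} : Set H) := by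
            apply sup_le
            · intro q hq
              exact Subgroup.mem_centralizer_singleton_iff.mpr
                (Subgroup.mem_centralizer_iff.mp hc.1 q hq)
            · intro a ha
              exact Subgroup.mem_centralizer_singleton_iff.mpr
                (Subgroup.mem_centralizer_iff.mp hc.2 a ha)
          exact (Subgroup.mem_centralizer_singleton_iff.mp (hle (hBQA hb))).symm
        obtain ⟨B1, r1, hB1n, hr1, hAB1, hB1C1, hcomm1, hexp1⟩ :=
          Cfsg.Agent.Lib.Helper18.NF.exists_elementary_section hsolv A C1 hAn hC1n hlt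
        have hB1C : B1 ≤ C := fun x hx => (hB1C1 hx).2
        have hZ1 := hZgen B1 hB1n hAB1.le hB1C
        have hrel1 := Cfsg.Agent.Lib.Helper90.NF.relIndex_eq_sq hcyc A B1 r1 hr1 hAB1 hB1C hZ1 hcomm1 hexp1
          (fun x y hx hy hxy hxr hyr hxA hyA =>
            Cfsg.Agent.Lib.Helper97.NF.no_two_independent hcyc A hAc r1 hr1 x y hx hy hxy hxr hyr hxA hyA)
        have hr12 : r1 = 2 := Cfsg.Agent.Lib.Helper28.NF.prime_eq_two hcyc A B1 r1 hr1 hAB1 hB1C hZ1 hcomm1 hexp1 hrel1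
        subst hr12
        obtain ⟨x, hxB, hxA⟩ := SetLike.exists_of_lt hAB
        obtain ⟨x1, hx1B, hx1A⟩ := SetLike.exists_of_lt hAB1
        apply Cfsg.Agent.Lib.Helper97.NF.no_two_independent hcyc A hAc 2 hr x x1 (hBC hxB) (hB1C hx1B)
          ((hC1B x1 (hB1C1 hx1B) x hxB).symm) (hexp x hxB) (hexp1 x1 hx1B) hxA
        intro hmem
        have hx1inB : x1 ∈ B := by
          have hle : A ⊔ Subgroup.zpowers x ≤ B :=
            sup_le hAB.le ((Subgroup.zpowers_le).mpr hxB)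
          exact hle hmem
        exact hx1A (hZ x1 hx1inB (fun y hy => hC1B x1 (hB1C1 hx1B) y hy))
      · intro a ha
        refine ⟨Subgroup.mem_centralizer_iff.mpr ?_, hAC ha⟩
        intro q hq
        exact (Subgroup.mem_centralizer_iff.mp (hBC (hQB hq)) a ha).symm
    -- p ≠ 2
    have h8 : 8 ∣ Nat.card H := hQ8 ▸ Subgroup.card_subgroup_dvd_card Q
    have hp2 : p ≠ 2 := by
      intro hp2
      rw [hHcard, hp2] at h8
      have hpos : 0 < d * e := Nat.mul_pos hd he
      have : 2 ∣ 2 ^ (d * e) := dvd_pow_self 2 hpos.ne'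
      have hge : 1 ≤ 2 ^ (d * e) := Nat.one_le_two_pow
      omega
    have hinv := unique_involution H hfpf
    have h24 := Cfsg.Agent.Lib.Helper80.NF.relIndex_centralizer_dvd A Q hQn hQ8 hQna hinv hAc hCQ
    have hdvd : p ^ (d * e) - 1 ∣ 24 * d * (p ^ d - 1) := by
      rw [← hHcard, ← Subgroup.card_mul_index C, ← relIndex_mul_card hAC]
      have : A.relIndex C * Nat.card A * C.index = C.index * (A.relIndex C) * Nat.card A := by ring
      rw [this]
      have h1 : C.index * A.relIndex C ∣ d * 24 := Nat.mul_dvd_mul hidx h24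
      have h2 := Nat.mul_dvd_mul h1 hAdvd
      have : 24 * d * (p ^ d - 1) = d * 24 * (p ^ d - 1) := by ring
      rw [this]
      exact h2
    obtain ⟨hd1, he2', hpcases⟩ := Cfsg.Agent.Lib.Helper86.NF.numerics_main p d e Fact.out hp2 hd he2 hdvd
    have hCtop : C = ⊤ := by
      rw [hd1] at hidx
      exact Subgroup.index_eq_one.mp (Nat.dvd_one.mp hidx)
    refine ⟨?_, hpcases, hCtop, ?_, ?_, Q, hQn, hQ8, hQna, ?_⟩
    · rw [hV, hd1, he2']
    · rw [hd1, pow_one] at hAdvd
      exact hAdvd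
    · have := Subgroup.relIndex_top_right A
      rw [← this, ← hCtop]
      exact h24
    · rw [hCtop, inf_top_eq] at hCQ
      exact hCQ

/-- In the case `|V| = 9`, `|H| = 8`, `H` nonabelian: a normal cyclic subgroup of order 4 acts
irreducibly. -/
theorem exists_irreducible_cyclic_of_nine [Finite V] (hp3 : p = 3)
    (H : Subgroup (V ≃ₗ[ZMod p] V))
    (hfpf : ∀ h : H, ∀ v : V, v ≠ 0 → (h : V ≃ₗ[ZMod p] V) v = v → h = 1)
    (hcardV : Nat.card V = 9) (hcardH : Nat.card H = 8) (hna : ∃ u v : H, u * v ≠ v * u) :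
    ∃ A : Subgroup H, A.Normal ∧ IsCyclic A ∧ ∀ W : Submodule (ZMod p) V,
      (∀ a ∈ A, ∀ v ∈ W, ((a : H) : V ≃ₗ[ZMod p] V) v ∈ W) → W = ⊥ ∨ W = ⊤ := by
  subst hp3
  have : Finite H := finite_subgroup_linearEquiv H
  -- an element with u*u ≠ 1
  have hex : ∃ u : H, u * u ≠ 1 := by
    by_contra hcon
    push Not at hcon
    obtain ⟨u, v, huv⟩ := hna
    apply huv
    have h1 := hcon (u * v)
    have hu := hcon u
    have hv := hcon v
    have hui : u⁻¹ = u := inv_eq_of_mul_eq_one_left hu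
    have hvi : v⁻¹ = v := inv_eq_of_mul_eq_one_left hv
    have : (u * v)⁻¹ = u * v := inv_eq_of_mul_eq_one_left h1
    rw [mul_inv_rev, hui, hvi] at this
    exact this.symm
  obtain ⟨u, hu⟩ := hex
  have hord : orderOf u ∣ 8 := hcardH ▸ orderOf_dvd_natCard u
  have hord4 : orderOf u = 4 := by
    have hle : orderOf u ≤ 8 := Nat.le_of_dvd (by norm_num) hord
    have hpos : 0 < orderOf u := orderOf_pos u
    interval_cases h : orderOf u
    · exfalso; exact hu (by rw [orderOf_eq_one_iff.mp h]; simp)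
    · exfalso; apply hu; rw [← pow_two, ← h]; exact pow_orderOf_eq_one u
    · omega
    · rfl
    · omega
    · omega
    · omega
    · exfalso
      have hc : IsCyclic H := isCyclic_of_orderOf_eq_card u (by rw [h, hcardH])
      obtain ⟨a, b, hab⟩ := hna
      exact hab (hc.commGroup.mul_comm a b) |> fun x => x
  refine ⟨Subgroup.zpowers u, ?_, inferInstance, ?_⟩
  · apply Subgroup.normal_of_index_eq_two
    have h1 := Subgroup.card_mul_index (Subgroup.zpowers u)
    rw [Nat.card_zpowers, hord4, hcardH] at h1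
    omega
  · intro W hW
    by_contra hcon
    push Not at hcon
    obtain ⟨hW0, hW1⟩ := hcon
    have hfr : Module.finrank (ZMod 3) V = 2 := by
      have := Fintype.ofFinite V
      have h1 := Module.card_eq_pow_finrank (K := ZMod 3) (V := V)
      rw [Nat.card_eq_fintype_card] at hcardV
      rw [hcardV, ZMod.card] at h1
      have h2 : (3 : ℕ) ^ 2 = 3 ^ Module.finrank (ZMod 3) V := by rw [← h1]; norm_num
      exact (Nat.pow_right_injective (show 2 ≤ 3 by norm_num) h2).symm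
    have hWlt : Module.finrank (ZMod 3) W < 2 := hfr ▸ Submodule.finrank_lt hW1
    have hWpos : Module.finrank (ZMod 3) W ≠ 0 := by
      intro h0
      exact hW0 (Submodule.finrank_eq_zero.mp h0)
    have hW1' : Module.finrank (ZMod 3) W = 1 := by omega
    obtain ⟨v, hv0, hv⟩ := finrank_eq_one_iff'.mp hW1'
    have huv : ((u : H) : V ≃ₗ[ZMod 3] V) (v : V) ∈ W :=
      hW u (Subgroup.mem_zpowers u) v v.2
    obtain ⟨c, hc⟩ := hv ⟨_, huv⟩
    have hc' : c • (v : V) = ((u : H) : V ≃ₗ[ZMod 3] V) (v : V) := by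
      have := congrArg Subtype.val hc
      simpa using this
    have hvV : (v : V) ≠ 0 := fun h => hv0 (Subtype.ext h)
    have hc0 : c ≠ 0 := by
      intro h0
      rw [h0, zero_smul] at hc'
      exact hvV ((LinearEquiv.map_eq_zero_iff _).mp hc'.symm)
    have hcc : c * c = 1 := zmod_three_sq c hc0
    apply hu
    apply hfpf (u * u) (v : V) hvV
    show ((u : H) : V ≃ₗ[ZMod 3] V) (((u : H) : V ≃ₗ[ZMod 3] V) (v : V)) = v
    rw [← hc', map_smul, ← hc', smul_smul, hcc, one_smul]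

end Linear

end Cfsg.Agent.Lib.Helper06.NF
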