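import Mathlib
import Cfsg.Agent.Lib.Helper06.NFCore
import Cfsg.Agent.Lib.Helper32.NF2Trc
import Cfsg.Agent.Lib.Helper80.NF2LIa
import Cfsg.Agent.Lib.Helper80.NF2LIb
import Cfsg.Agent.Lib.Helper85.NF2PPD
import Cfsg.Agent.Lib.Helper38.NF2Sym
import Cfsg.Agent.Lib.Helper40.NF2Aut
import Cfsg.Agent.Lib.Helper28.NF2SYMG
import Cfsg.Agent.Lib.Helper28.NF2CA
import Cfsg.Agent.Lib.Helper48.NF2COP
import Cfsg.Agent.Lib.Helper74.NF2Num
import Cfsg.Agent.Lib.Helper51.Singer3

set_option autoImplicit false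

/-!
# Assembly for S3360 (Huppert: solvable linear groups transitive on nonzero vectors)
-/

universe u

namespace Cfsg.Agent.Lib.Helper06.NF2

open Cfsg.Agent.Lib.Helper06.NF

theorem ppd_dvd (p n l : ℕ) (hl : l.Prime) (hord : orderOf ((p : ℕ) : ZMod l) = n) (k : ℕ)
    (hk : l ∣ p ^ k - 1) (hp : 0 < p) : n ∣ k := by
  haveI := Fact.mk hl
  rw [← hord]
  apply orderOf_dvd_of_pow_eq_one
  have h1 : 1 ≤ p ^ k := Nat.one_le_pow _ _ hp
  have h2 : ((p ^ k - 1 : ℕ) : ZMod l) = 0 := (ZMod.natCast_eq_zero_iff _ _).mpr hk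
  rw [Nat.cast_sub h1, Nat.cast_pow, Nat.cast_one, sub_eq_zero] at h2
  exact h2

theorem ppd_lt (p n l : ℕ) (hl : l.Prime) (hn : 0 < n)
    (hord : orderOf ((p : ℕ) : ZMod l) = n) : n + 1 ≤ l := by
  haveI := Fact.mk hl
  have hne : ((p : ℕ) : ZMod l) ≠ 0 := by
    intro h0
    rw [h0] at hord
    have h00 : orderOf (0 : ZMod l) = 0 := by
      rw [orderOf_eq_zero_iff']
      intro k hk
      rw [zero_pow hk.ne']
      exact zero_ne_one
    omega
  have h1 : ((p : ℕ) : ZMod l) ^ (l - 1) = 1 := ZMod.pow_card_sub_one_eq_one hne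
  have h2 : n ∣ l - 1 := hord ▸ orderOf_dvd_of_pow_eq_one h1
  have h3 : 0 < l - 1 := by have := hl.two_le; omega
  have := Nat.le_of_dvd h3 h2
  omega

theorem sq_sub_one_factor (a : ℕ) (ha : 1 ≤ a) : a * a - 1 = (a - 1) * (a + 1) := by
  obtain ⟨b, rfl⟩ : ∃ b, a = b + 1 := ⟨a - 1, by omega⟩
  have : (b + 1) * (b + 1) = b * (b + 1 + 1) + 1 := by ring
  rw [this]
  simp

variable {p : ℕ} [Fact p.Prime] {V : Type u} [AddCommGroup V] [Module (ZMod p) V]

/-- Huppert's theorem for a subgroup of `GL(V)`: either some normal abelian subgroup acts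
irreducibly, or `|V|` is one of the six exceptional values. -/
theorem main_thm [Finite V] [Nontrivial V] (H : Subgroup (V ≃ₗ[ZMod p] V))
    (htrans : ∀ v w : V, v ≠ 0 → w ≠ 0 → ∃ h : H, (h : V ≃ₗ[ZMod p] V) v = w)
    (hsolv : Group.IsSolvable H) :
    (∃ A : Subgroup H, A.Normal ∧ (∀ a ∈ A, ∀ b ∈ A, a * b = b * a) ∧
      ∀ W : Submodule (ZMod p) V,
        (∀ a ∈ A, ∀ v ∈ W, ((a : H) : V ≃ₗ[ZMod p] V) v ∈ W) → W = ⊥ ∨ W = ⊤) ∨
    Nat.card V ∈ ({9, 25, 49, 121, 529, 81} : Set ℕ) := by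
  have : Finite H := finite_subgroup_linearEquiv H
  have hpp : p.Prime := Fact.out
  have hppos : 1 < p := hpp.one_lt
  obtain ⟨A, hAn, hAc, hAmax⟩ := exists_max_normal_abelian (G := H)
  by_cases hirr : ∀ W : Submodule (ZMod p) V,
        (∀ a ∈ A, ∀ v ∈ W, ((a : H) : V ≃ₗ[ZMod p] V) v ∈ W) → W = ⊥ ∨ W = ⊤
  · left
    exact ⟨A, hAn, hAc, hirr⟩
  right
  push Not at hirr
  obtain ⟨W, hWinv, hWbot, hWtop⟩ := hirr
  have hK := Cfsg.Agent.Lib.Helper32.NF.adj_injective H htrans A hAn hAc
  obtain ⟨hd, e, he, hV, hAdvd, hW, he1⟩ := Cfsg.Agent.Lib.Helper23.NF.dim_data H A hAc hK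
  have hidx := Cfsg.Agent.Lib.Helper81.NF.index_centralizer_dvd_finrank H A hAn hAc hK
  have hAcyc : IsCyclic A := Cfsg.Agent.Lib.Helper32.NF2.isCyclic_of_adj H A hAc hK
  have hLI0 := fun B => Cfsg.Agent.Lib.Helper80.NF2.coset_reps_independent H A B hAc hK
  have hLIb := fun B => Cfsg.Agent.Lib.Helper80.NF2.relIndex_le_sq H A B hAc hK
  set d := Module.finrank (ZMod p) (adj H A) with hd_def
  set C := Subgroup.centralizer (A : Set H) with hC_def
  have he2 : 2 ≤ e := hW ⟨W, hWbot, hWtop, hWinv⟩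
  have hAC : A ≤ C := by
    intro a ha
    exact Subgroup.mem_centralizer_iff.mpr (fun b hb => hAc b hb a ha)
  have : A.Normal := hAn
  have hCn : C.Normal := Subgroup.normal_centralizer
  have hHdvd : p ^ (d * e) - 1 ∣ Nat.card H := by
    have := Cfsg.Agent.Lib.Helper32.NF2.card_sub_one_dvd H htrans
    rwa [hV] at this
  have hHcard : Nat.card H = C.index * A.relIndex C * Nat.card A := by
    rw [mul_assoc, relIndex_mul_card hAC, mul_comm, Subgroup.card_mul_index]
  have hCA : C ≠ A := by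
    intro hCA
    have hrel1 : A.relIndex C = 1 := by
      rw [hCA]
      exact Subgroup.relIndex_self A
    have hdvd : p ^ (d * e) - 1 ∣ d * (p ^ d - 1) := by
      rw [hHcard, hrel1, mul_one] at hHdvd
      exact hHdvd.trans (Nat.mul_dvd_mul hidx hAdvd)
    exact Cfsg.Agent.Lib.Helper86.NF.numerics_cyclic p d e hpp hd he2 hdvd
  have hAltC : A < C := lt_of_le_of_ne hAC (Ne.symm hCA)
  -- the key lemma on Z(B)
  have hZgen : ∀ B : Subgroup H, B.Normal → A ≤ B → B ≤ C →
      ∀ x ∈ B, (∀ y ∈ B, x * y = y * x) → x ∈ A := by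
    intro B hBn hAB hBC x hxB hxc
    have : B.Normal := hBn
    have hZn : (Subgroup.centralizer (B : Set H) ⊓ B).Normal := inferInstance
    have hZc : ∀ a ∈ Subgroup.centralizer (B : Set H) ⊓ B,
        ∀ b ∈ Subgroup.centralizer (B : Set H) ⊓ B, a * b = b * a := by
      intro a ha b hb
      exact ((Subgroup.mem_centralizer_iff.mp ha.1) b hb.2).symm
    have hAZ : A ≤ Subgroup.centralizer (B : Set H) ⊓ B := by
      intro a ha
      refine ⟨Subgroup.mem_centralizer_iff.mpr ?_, hAB ha⟩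
      intro b hb
      have := Subgroup.mem_centralizer_iff.mp (hBC hb) a ha
      exact this.symm
    have hZA := hAmax _ hZn hZc hAZ
    rw [← hZA]
    refine ⟨Subgroup.mem_centralizer_iff.mpr ?_, hxB⟩
    intro y hy
    exact (hxc y hy).symm
  obtain ⟨B, r, hBn, hr, hAB, hBC, hcomm, hexp⟩ :=
    Cfsg.Agent.Lib.Helper18.NF.exists_elementary_section hsolv A C hAn hCn hAltC
  have hZ := hZgen B hBn hAB.le hBC
  have hna : ∃ x ∈ B, ∃ y ∈ B, x * y ≠ y * x := by
    by_contra hcon
    push Not at hcon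
    obtain ⟨x, hxB, hxA⟩ := SetLike.exists_of_lt hAB
    exact hxA (hZ x hxB (fun y hy => hcon x hxB y hy))
  obtain ⟨hrA, w, hw2, hrel⟩ := Cfsg.Agent.Lib.Helper48.NF2.relIndex_eq_pow A B r hr hAB.le hBC hcomm hexp hna
  have hLI := hLI0 B hBC hZ hcomm
  obtain ⟨hle, heq⟩ := hLIb B hAB.le hBC e hV hLI
  rw [hrel] at hle heq
  have hCB : r ^ w = e ^ 2 → Subgroup.centralizer (B : Set H) ⊓ C = A := by
    intro h
    have : B.Normal := hBn
    have hn : (Subgroup.centralizer (B : Set H) ⊓ C).Normal := inferInstance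
    apply hAmax _ hn
    · intro a ha b hb
      exact heq h a ha.2
        (fun b' hb' => (Subgroup.mem_centralizer_iff.mp ha.1 b' hb').symm) b hb.2
    · intro a ha
      refine ⟨Subgroup.mem_centralizer_iff.mpr ?_, hAC ha⟩
      intro b hb
      exact (Subgroup.mem_centralizer_iff.mp (hBC hb) a ha).symm
  have hr_dvd : r ∣ p ^ d - 1 := hrA.trans hAdvd
  have hrw4 : 4 ≤ r ^ w := by
    calc 4 = 2 ^ 2 := by norm_num
      _ ≤ r ^ 2 := Nat.pow_le_pow_left hr.two_le 2
      _ ≤ r ^ w := Nat.pow_le_pow_right hr.pos hw2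
  have hCAdvd : r ^ w = e ^ 2 →
      A.relIndex C ∣ r ^ w * ∏ i ∈ Finset.range w, (r ^ w - r ^ i) := fun h =>
    Cfsg.Agent.Lib.Helper28.NF2.relIndex_centralizer_dvd_prod A B r w hr hAcyc hBn hAB.le hBC hcomm hexp hrel (hCB h)
      (fun X _ _ hX hc => Cfsg.Agent.Lib.Helper40.NF2.card_mulAut_dvd r w hr hX hc)
  have hp2_of : r = 2 → p ≠ 2 := by
    intro hr2 hp2
    rw [hr2, hp2] at hr_dvd
    have h1 : 2 ∣ 2 ^ d := dvd_pow_self 2 hd.ne'
    have h2 : 1 ≤ 2 ^ d := Nat.one_le_two_pow
    omega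
  rcases Nat.eq_or_lt_of_le he2 with he2' | he3
  · -- e = 2
    have hle4 : r ^ w ≤ 4 := by
      rw [← he2'] at hle
      simpa using hle
    have hrw : r ^ w = 4 := le_antisymm hle4 hrw4
    have hr2 : r = 2 := by
      have h1 : r ^ 2 ≤ 4 := (Nat.pow_le_pow_right hr.pos hw2).trans hle4
      have h2 := hr.two_le
      nlinarith
    have hw2' : w = 2 := by
      rw [hr2] at hrw
      exact Nat.pow_right_injective (le_refl 2) (by simpa using hrw)
    have h24 : A.relIndex C ∣ 24 := by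
      have h := hCAdvd (by rw [hrw, ← he2']; norm_num)
      rw [hr2, hw2'] at h
      simpa [Finset.prod_range_succ] using h
    have hp2 : p ≠ 2 := hp2_of hr2
    have hdvd : p ^ (d * e) - 1 ∣ 24 * d * (p ^ d - 1) := by
      rw [hHcard] at hHdvd
      refine hHdvd.trans ?_
      have h := Nat.mul_dvd_mul (Nat.mul_dvd_mul hidx h24) hAdvd
      have h' : d * 24 * (p ^ d - 1) = 24 * d * (p ^ d - 1) := by ring
      rwa [h'] at h
    obtain ⟨hd1, _, hpcases⟩ :=
      Cfsg.Agent.Lib.Helper86.NF.numerics_main p d e hpp hp2 hd he2 hdvd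
    rw [hV, hd1, ← he2']
    rcases hpcases with h | h | h | h | h <;> rw [h] <;> norm_num
  · -- e ≥ 3
    have hn3 : 3 ≤ d * e := by nlinarith
    by_cases hex : d * e = 6 ∧ p = 2
    · obtain ⟨hn6, hp2⟩ := hex
      exfalso
      have hd12 : (d = 1 ∧ e = 6) ∨ (d = 2 ∧ e = 3) := by
        have hdle : d ≤ 2 := by nlinarith
        have hd' : d = 1 ∨ d = 2 := by omega
        rcases hd' with h | h
        · left; rw [h] at hn6; exact ⟨h, by omega⟩
        · right; rw [h] at hn6; exact ⟨h, by omega⟩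
      rcases hd12 with ⟨hd1, he6⟩ | ⟨hd2, he3'⟩
      · rw [hd1, hp2] at hr_dvd
        have h1 : r ∣ 1 := by simpa using hr_dvd
        exact hr.one_lt.ne' (Nat.dvd_one.mp h1)
      · have hpd3 : p ^ d - 1 = 3 := by rw [hd2, hp2]; norm_num
        rw [hpd3] at hr_dvd hAdvd
        have hr3 : r ∣ 3 := hr_dvd
        have hr3' : r = 3 := (Nat.prime_dvd_prime_iff_eq hr Nat.prime_three).mp hr3
        have hA3 : Nat.card A ∣ 3 := hAdvd
        have hle9 : r ^ w ≤ 9 := by
          rw [he3'] at hle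
          simpa using hle
        have hw2' : w = 2 := by
          rw [hr3'] at hle9
          by_contra hne
          have h3 : 3 ≤ w := by omega
          have : 3 ^ 3 ≤ 3 ^ w := Nat.pow_le_pow_right (by norm_num) h3
          omega
        have h432 : A.relIndex C ∣ 432 := by
          have h := hCAdvd (by rw [hr3', hw2', he3'])
          rw [hr3', hw2'] at h
          simpa [Finset.prod_range_succ] using h
        have hidx2 : C.index ∣ 2 := by rw [hd2] at hidx; exact hidx
        have h63 : 63 ∣ Nat.card H := by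
          have h63' : p ^ (d * e) - 1 = 63 := by rw [hn6, hp2]; norm_num
          rw [h63'] at hHdvd
          exact hHdvd
        rw [hHcard] at h63
        have h2592 : C.index * A.relIndex C * Nat.card A ∣ 2 * 432 * 3 :=
          Nat.mul_dvd_mul (Nat.mul_dvd_mul hidx2 h432) hA3
        have hfin := h63.trans h2592
        norm_num at hfin
    · -- Zsigmondy prime
      have hex1 : ¬ (d * e = 6 ∧ Fintype.card (ZMod p) = 2) := by
        rw [ZMod.card]
        exact hex
      have hex2 : ¬ (d * e = 2 ∧ (Fintype.card (ZMod p)).Prime ∧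
          ∃ a : ℕ, Fintype.card (ZMod p) + 1 = 2 ^ a) := fun h => by omega
      obtain ⟨l, hl, hldvd, hlord⟩ :=
        Cfsg.Agent.Lib.Helper51.exists_ppd_field (F := ZMod p) (d * e) (by omega) hex1 hex2
      rw [ZMod.card] at hldvd hlord
      set n := d * e with hn_def
      have hnpos : 0 < n := by omega
      have hln : n + 1 ≤ l := ppd_lt p n l hl hnpos hlord
      have hdiv : ∀ k, l ∣ p ^ k - 1 → n ∣ k := fun k hk => ppd_dvd p n l hl hlord k hk hpp.pos
      have hlH : l ∣ Nat.card H := hldvd.trans hHdvd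
      have hd_lt : d < n := by
        rw [hn_def]
        nlinarith
      have hlidx : ¬ l ∣ C.index := by
        intro h
        have h1 := Nat.le_of_dvd hd (h.trans hidx)
        omega
      have hlA : ¬ l ∣ Nat.card A := by
        intro h
        have h1 := hdiv d (h.trans hAdvd)
        have := Nat.le_of_dvd hd h1
        omega
      have hlr : l ≠ r := fun h => hlA (h ▸ hrA)
      have hlC : l ∣ Nat.card C := by
        have h1 : Nat.card C * C.index = Nat.card H := Subgroup.card_mul_index C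
        rw [← h1] at hlH
        exact ((Nat.Prime.dvd_mul hl).mp hlH).resolve_right hlidx
      haveI := Fact.mk hl
      obtain ⟨x', hx'⟩ := exists_prime_orderOf_dvd_card' l hlC
      have hxC : (x' : H) ∈ C := x'.2
      have hxord : orderOf (x' : H) = l := by
        rw [← hx']
        exact Subgroup.orderOf_coe x'
      have hxl : (x' : H) ^ l = 1 := hxord ▸ pow_orderOf_eq_one (x' : H)
      have hppd := fun y z hy hz =>
        Cfsg.Agent.Lib.Helper85.NF2.commute_of_commute_ppd H n l hV hl hlord (x' : H) hxord y z hy hz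
      have hxnc : ¬ ∀ b ∈ B, (x' : H) * b = b * (x' : H) := by
        intro hcon
        obtain ⟨u, hu, v, hv, huv⟩ := hna
        exact huv (hppd u v (hcon u hu) (hcon v hv))
      have hxn : ∃ b ∈ B, (x' : H) * b * (x' : H)⁻¹ * b⁻¹ ∉ A := by
        by_contra hcon
        push Not at hcon
        exact hxnc (Cfsg.Agent.Lib.Helper48.NF2.commute_of_coprime A B r l hr hl hlr hBC hexp (x' : H) hxC hxl hcon)
      have hxB : ∀ b ∈ B, (x' : H) * b * (x' : H)⁻¹ ∈ B := fun b hb => hBn.conj_mem b hb _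
      obtain ⟨j, hj, hjle, hjdvd⟩ := Cfsg.Agent.Lib.Helper28.NF2.prime_bound_of_section A B r l hr hl hlr hAcyc hAB.le hBC hZ
        hcomm hexp (x' : H) hxC hxB hxl hxn
        (fun W Z _ _ _ hZc f h1 h2 h3 h4 y h5 h6 h7 =>
          Cfsg.Agent.Lib.Helper38.NF2.symplectic_prime_bound r l hr hl hlr hZc f h1 h2 h3 h4 y h5 h6 h7)
      rw [hrel] at hjle
      have hrj1 : 1 ≤ r ^ j := Nat.one_le_pow _ _ hr.pos
      have hrj2 : 2 ≤ r ^ j := hr.two_le.trans (Nat.le_self_pow hj.ne' r)
      have hl_le : l ≤ r ^ j + 1 := by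
        have hfac : r ^ (2 * j) - 1 = (r ^ j - 1) * (r ^ j + 1) := by
          have h1 : r ^ (2 * j) = r ^ j * r ^ j := by rw [two_mul, pow_add]
          rw [h1]
          exact sq_sub_one_factor _ hrj1
        rw [hfac] at hjdvd
        rcases (Nat.Prime.dvd_mul hl).mp hjdvd with h | h
        · have := Nat.le_of_dvd (by omega) h
          omega
        · exact Nat.le_of_dvd (by omega) h
      have hrje : r ^ j ≤ e := by
        have h1 : (r ^ j) ^ 2 ≤ e ^ 2 := by
          calc (r ^ j) ^ 2 = r ^ (2 * j) := by rw [← pow_mul, mul_comm]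
            _ ≤ r ^ w := hjle
            _ ≤ e ^ 2 := hle
        exact (Nat.pow_le_pow_iff_left (by norm_num)).mp h1
      have he_n : e ≤ n := Nat.le_mul_of_pos_left e hd
      have hne : n = e := by omega
      have hd1 : d = 1 := by
        have h1 : d * e = 1 * e := by rw [one_mul]; exact hne
        exact Nat.eq_of_mul_eq_mul_right he h1
      have hrje' : r ^ j = e := by omega
      have hl_eq : l = e + 1 := by omega
      have hrw_eq : r ^ w = e ^ 2 := by
        apply le_antisymm hle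
        calc e ^ 2 = (r ^ j) ^ 2 := by rw [hrje']
          _ = r ^ (2 * j) := by rw [← pow_mul, mul_comm]
          _ ≤ r ^ w := hjle
      have hr2 : r = 2 := by
        have hl_odd : Odd l := hl.odd_of_ne_two (by omega)
        have hrj_even : Even (r ^ j) := by
          rcases hl_odd with ⟨k, hk⟩
          exact ⟨k, by omega⟩
        have hre : Even r := (Nat.even_pow.mp hrj_even).1
        exact hr.even_iff.mp hre
      have hp2 : p ≠ 2 := hp2_of hr2
      rw [hr2] at hrje' hrw_eq hCAdvd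
      have hw_eq : w = 2 * j := by
        apply Nat.pow_right_injective (le_refl 2)
        show 2 ^ w = 2 ^ (2 * j)
        rw [hrw_eq, ← hrje', ← pow_mul, mul_comm]
      have hj2 : 2 ≤ j := by
        by_contra hlt
        have hj1 : j = 1 := by omega
        rw [hj1] at hrje'
        simp at hrje'
        omega
      have hCtop : C.index = 1 := by
        rw [hd1] at hidx
        exact Nat.dvd_one.mp hidx
      have hCA' := hCAdvd hrw_eq
      rw [hw_eq] at hCA'
      have hfin : p ^ (2 ^ j) - 1 ∣ (p - 1) *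
          (2 ^ (2 * j) * ∏ i ∈ Finset.range (2 * j), (2 ^ (2 * j) - 2 ^ i)) := by
        rw [hHcard, hCtop, one_mul, hne, ← hrje'] at hHdvd
        rw [hd1, pow_one] at hAdvd
        have h := Nat.mul_dvd_mul hAdvd hCA'
        rw [mul_comm (Nat.card A) (A.relIndex C)] at h
        exact hHdvd.trans h
      obtain ⟨hp3, hj2'⟩ := Cfsg.Agent.Lib.Helper74.NF2.numerics_fermat p j hpp hp2 hj2
        (by rw [hrje', ← hl_eq]; exact hl) hfin
      rw [hV, hne, ← hrje', hp3, hj2']
      norm_num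

end Cfsg.Agent.Lib.Helper06.NF2
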