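import Mathlib
import Cfsg.Agent.Lib.Helper06.NFCore
import Cfsg.Agent.Lib.Helper78.SL23Section
import Cfsg.Agent.Lib.Helper63.NFG
import Cfsg.Agent.Lib.Helper23.NFI
import Cfsg.Agent.Lib.Helper81.NFQ
import Cfsg.Agent.Lib.Helper86.NFT
import Cfsg.Agent.Lib.Helper97.NFP

set_option autoImplicit false

namespace Cfsg.Agent.Lib.Helper06.NF

open Subgroup Cfsg.Agent.Lib.Helper78

theorem exc_cases (p n : ℕ) (hp : p = 3 ∨ p = 5 ∨ p = 7 ∨ p = 11 ∨ p = 23)
    (h1 : n * 12 = p ^ 2 - 1) (h2 : n ∣ p - 1) : (p = 5 ∧ n = 2) ∨ (p = 11 ∧ n = 10) := by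
  rcases hp with h | h | h | h | h <;> subst h
  · exfalso; omega
  · left; exact ⟨rfl, by omega⟩
  · exfalso
    have : n = 4 := by omega
    subst this
    omega
  · right; exact ⟨rfl, by omega⟩
  · exfalso
    have : n = 44 := by omega
    subst this
    omega

variable {p : ℕ} [Fact p.Prime] {V : Type*} [AddCommGroup V] [Module (ZMod p) V]

theorem exists_card_eq_pow [Finite V] : ∃ n : ℕ, Nat.card V = p ^ n := by
  have := Fintype.ofFinite V
  refine ⟨Module.finrank (ZMod p) V, ?_⟩
  rw [Nat.card_eq_fintype_card, Module.card_eq_pow_finrank (K := ZMod p) (V := V), ZMod.card]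

/-- Part 2 of S3361 for a subgroup of `GL(V)`. -/
theorem part_two [Finite V] [Nontrivial V] (H : Subgroup (V ≃ₗ[ZMod p] V))
    (hreg : ∀ v w : V, v ≠ 0 → w ≠ 0 → ∃! h : H, (h : V ≃ₗ[ZMod p] V) v = w)
    (hsolv : Group.IsSolvable H) (hp2 : p ≠ 2) :
    (∃ N : Subgroup H, N.Normal ∧ N.index = 2) ∨
    (Nat.card V = 25 ∧ Nonempty (H ≃* Matrix.SpecialLinearGroup (Fin 2) (ZMod 3))) ∨
    (Nat.card V = 121 ∧
      Nonempty (H ≃* Matrix.SpecialLinearGroup (Fin 2) (ZMod 3) × Multiplicative (ZMod 5))) := by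
  have : Finite H := finite_subgroup_linearEquiv H
  have hfpf := fpf_of_reg H hreg
  have hcard := card_of_reg H hreg
  have hpp : p.Prime := Fact.out
  obtain ⟨A, hAn, hAc, hAcyc, hAmax, hcase⟩ := structure_thm H hreg hsolv
  have hAidx : Nat.card A * A.index = Nat.card H := Subgroup.card_mul_index A
  rcases hcase with ⟨hCA, hirr⟩ | ⟨hV, hp, hCtop, hAdvd, hA24, Q, hQn, hQ8, hQna, hCQ⟩
  · left
    have hHeven : 2 ∣ Nat.card H := by
      obtain ⟨n, hn⟩ := exists_card_eq_pow (p := p) (V := V)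
      have hodd : Odd p := hpp.odd_of_ne_two hp2
      have hoddV : Odd (Nat.card V) := hn ▸ hodd.pow
      have : Even (Nat.card H) := by
        have h1 : Nat.card H + 1 = Nat.card V := hcard
        rcases hoddV with ⟨k, hk⟩
        exact ⟨k, by omega⟩
      exact this.two_dvd
    have hab : ∀ x y : H, x * y * x⁻¹ * y⁻¹ ∈ A := by
      intro x y
      rw [← hCA]
      exact Cfsg.Agent.Lib.Helper23.NF.commutator_mem_centralizer_of_cyclic A hAn hAcyc x y
    by_cases h2 : 2 ∣ A.index
    · exact Cfsg.Agent.Lib.Helper23.NF.index_two_of_abelian_even A hAn hab h2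
    · have h2A : 2 ∣ Nat.card A := by
        rw [← hAidx] at hHeven
        rcases (Nat.Prime.dvd_mul Nat.prime_two).mp hHeven with h | h
        · exact h
        · exact absurd h h2
      exact Cfsg.Agent.Lib.Helper23.NF.index_two_of_cyclic_even A hAn hAcyc h2A h2
  · have hH : Nat.card H = p ^ 2 - 1 := by omega
    have hsup := Cfsg.Agent.Lib.Helper81.NF.card_sup_of_Q Q A hQn hQ8 hQna hCQ
    have hQA : Nat.card (Q ⊔ A : Subgroup H) * (Q ⊔ A).index = Nat.card H :=
      Subgroup.card_mul_index _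
    have hApos : 0 < Nat.card A := Nat.card_pos
    have h4 : A.index = 4 * (Q ⊔ A).index := by
      have h1 : Nat.card A * A.index = Nat.card A * (4 * (Q ⊔ A).index) := by
        rw [hAidx, ← hQA, hsup]; ring
      exact Nat.eq_of_mul_eq_mul_left hApos h1
    have hm6 : (Q ⊔ A).index ∣ 6 := by
      rw [h4] at hA24
      have : 4 * (Q ⊔ A).index ∣ 4 * 6 := by simpa using hA24
      exact Nat.dvd_of_mul_dvd_mul_left (by norm_num) this
    have hQAn : (Q ⊔ A).Normal := by
      have := hQn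
      have := hAn
      infer_instance
    have hmle : (Q ⊔ A).index ≤ 6 := Nat.le_of_dvd (by norm_num) hm6
    have hmpos : 0 < (Q ⊔ A).index := Nat.pos_of_dvd_of_pos hm6 (by norm_num)
    interval_cases hm : (Q ⊔ A).index
    · left
      exact Cfsg.Agent.Lib.Helper23.NF.index_two_of_index_two_pow A hAn 2 (by norm_num) (by rw [h4]; norm_num)
    · left
      exact ⟨Q ⊔ A, hQAn, hm⟩
    · -- the exceptional case: A.index = 12
      right
      have hA12 : A.index = 12 := by rw [h4]
      have hinv := unique_involution H hfpf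
      have hHA : Nat.card A * 12 = p ^ 2 - 1 := by rw [← hH, ← hAidx, hA12]
      have hcases : (p = 5 ∧ Nat.card A = 2) ∨ (p = 11 ∧ Nat.card A = 10) :=
        exc_cases p (Nat.card A) hp hHA hAdvd
      have h3A : ¬ 3 ∣ Nat.card A := by
        rcases hcases with ⟨_, h⟩ | ⟨_, h⟩ <;> rw [h] <;> omega
      have h3H : 3 ∣ Nat.card H := by
        rw [← hAidx, hA12]
        exact Dvd.dvd.mul_left (by norm_num) _
      have : Fact (Nat.Prime 3) := ⟨Nat.prime_three⟩
      obtain ⟨w, hw⟩ := exists_prime_orderOf_dvd_card' (G := H) 3 h3H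
      obtain ⟨i, j, hbt⟩ := Cfsg.Agent.Lib.Helper86.NF.exists_btTriple Q A hQn hQ8 hQna hinv hCQ h3A w hw
      rcases hcases with ⟨hp5, hA2⟩ | ⟨hp11, hA10⟩
      · left
        refine ⟨by rw [hV, hp5]; norm_num, ?_⟩
        apply nonempty_mulEquiv_SL23 hbt
        rw [← hAidx, hA12, hA2]
      · right
        refine ⟨by rw [hV, hp11]; norm_num, ?_⟩
        have : Fact (Nat.Prime 5) := ⟨by norm_num⟩
        have h5A : 5 ∣ Nat.card A := by rw [hA10]; norm_num
        obtain ⟨c, hc⟩ := exists_prime_orderOf_dvd_card' (G := A) 5 h5A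
        have hcH : orderOf (c : H) = 5 := by rw [Subgroup.orderOf_coe, hc]
        have hcz : ∀ x : H, (c : H) * x = x * (c : H) := by
          intro x
          have hx : x ∈ Subgroup.centralizer (A : Set H) := by rw [hCtop]; trivial
          exact (Subgroup.mem_centralizer_iff.mp hx (c : H) c.2)
        apply Cfsg.Agent.Lib.Helper97.NF.iso_SL23_prod_C5 _ i j w (c : H) hbt hcH hcz
        rw [← hAidx, hA12, hA10]
    · exfalso; norm_num at hm6
    · exfalso; norm_num at hm6
    · left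
      exact Cfsg.Agent.Lib.Helper23.NF.index_two_of_index_six (Q ⊔ A) hQAn hm

end Cfsg.Agent.Lib.Helper06.NF
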