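import Mathlib
import Cfsg.Agent.Lib.Helper54.WeaklyClosed

/-!
# Camina–Herzog: odd class sizes of `2`-elements force abelian Sylow `2`-subgroups

An elementary proof (no `Z*`-theorem):
* if `|G : C_G(x)|` is odd for a `2`-element `x`, nothing inverts `x` unless `x² = 1`;
* hence the elements of order `≤ 2` of a Sylow `2`-subgroup `P` form an elementary abelian
  subgroup `E`, weakly closed in `P`;
* `N_G(E)` controls fusion in `C_G(E)`; this forces `E ≤ Z(P)`;
* induction on the order of `x ∈ P` with Burnside's fusion lemma gives `P = Z(P)`.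
-/

set_option autoImplicit false

namespace Cfsg.Agent.Lib.Helper06.OddClass

open Cfsg
open Cfsg.Agent.Lib.Helper54

variable {G : Type*} [Group G]

/-- every `2`-element has a conjugacy class of odd size -/
def Hyp (G : Type*) [Group G] : Prop :=
  ∀ x : G, (∃ k : ℕ, orderOf x = 2 ^ k) → ¬ 2 ∣ (Subgroup.centralizer ({x} : Set G)).index

theorem exists_orderOf_of_mem [Finite G] (P : Sylow 2 G) {x : G} (hx : x ∈ (P : Subgroup G)) :
    ∃ k : ℕ, orderOf x = 2 ^ k := by
  obtain ⟨k, hk⟩ := P.isPGroup' ⟨x, hx⟩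
  have h1 : x ^ 2 ^ k = 1 := by
    have := congrArg Subtype.val hk
    simpa using this
  obtain ⟨j, -, hj⟩ := (Nat.dvd_prime_pow Nat.prime_two).1 (orderOf_dvd_of_pow_eq_one h1)
  exact ⟨j, hj⟩

theorem mem_centralizer_singleton {x c : G} :
    c ∈ Subgroup.centralizer ({x} : Set G) ↔ Commute x c := by
  rw [Subgroup.mem_centralizer_iff]
  constructor
  · intro h
    exact h x rfl
  · rintro h y rfl
    exact h

/-- an element inverting a `2`-element `x` of odd class size centralizes it -/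
theorem inv_eq_self_of_conj_eq_inv [Finite G] (h : Hyp G) {x t : G}
    (hx : ∃ k : ℕ, orderOf x = 2 ^ k) (ht : t * x * t⁻¹ = x⁻¹) : x⁻¹ = x := by
  have hodd := h x hx
  have ht' : t * x⁻¹ * t⁻¹ = x := by
    have := congrArg (fun y => y⁻¹) ht
    simpa [mul_assoc] using this
  -- `t` normalizes `C_G(x)`
  have hconj : ∀ c : G, Commute x c → Commute x (t * c * t⁻¹) := by
    intro c hc
    have h1 : Commute x⁻¹ c := hc.inv_left
    have h2 : Commute (t * x⁻¹ * t⁻¹) (t * c * t⁻¹) := (Commute.conj_iff t).2 h1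
    rwa [ht'] at h2
  have hconj' : ∀ c : G, Commute x (t * c * t⁻¹) → Commute x c := by
    intro c hc
    have h1 : Commute (t * x⁻¹ * t⁻¹) (t * c * t⁻¹) := by rwa [ht']
    have h2 : Commute x⁻¹ c := (Commute.conj_iff t).1 h1
    simpa using h2.inv_left
  have htN : t ∈ Subgroup.normalizer ((Subgroup.centralizer ({x} : Set G) : Subgroup G) : Set G) := by
    rw [Subgroup.mem_normalizer_iff]
    intro c
    rw [mem_centralizer_singleton, mem_centralizer_singleton]
    exact ⟨hconj c, hconj' c⟩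
  set C := Subgroup.centralizer ({x} : Set G) with hC
  set N := Subgroup.normalizer (C : Set G) with hN
  have hCN : C ≤ N := Subgroup.le_normalizer
  have hr : ¬ 2 ∣ C.relIndex N := by
    intro h2
    apply hodd
    rw [← Subgroup.relIndex_mul_index hCN]
    exact Dvd.dvd.mul_right h2 _
  have hpow : t ^ (C.relIndex N) ∈ C := by
    have := Subgroup.pow_index_mem (C.subgroupOf N) (⟨t, htN⟩ : ↥N)
    rw [Subgroup.mem_subgroupOf] at this
    simpa [Subgroup.relIndex] using this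
  have hsq : t ^ 2 ∈ C := by
    rw [mem_centralizer_singleton]
    have h1 : t * (t * x * t⁻¹) * t⁻¹ = x := by rw [ht, ht']
    have h2 : t ^ 2 * x * (t ^ 2)⁻¹ = x := by
      have h0 : t ^ 2 * x * (t ^ 2)⁻¹ = t * (t * x * t⁻¹) * t⁻¹ := by
        simp only [pow_two, mul_inv_rev, mul_assoc]
      rw [h0, h1]
    have : t ^ 2 * x = x * t ^ 2 := by
      calc t ^ 2 * x = t ^ 2 * x * (t ^ 2)⁻¹ * t ^ 2 := by simp
        _ = x * t ^ 2 := by rw [h2]
    exact this.symm
  have htC : t ∈ C := by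
    obtain ⟨m, hm⟩ := Nat.not_even_iff_odd.1 (fun he => hr (even_iff_two_dvd.1 he))
    have h1 : t ^ (2 * m + 1) ∈ C := hm ▸ hpow
    have h2 : (t ^ 2) ^ m ∈ C := Subgroup.pow_mem _ hsq m
    have h3 : t = ((t ^ 2) ^ m)⁻¹ * t ^ (2 * m + 1) := by
      rw [← pow_mul, pow_succ, ← mul_assoc, inv_mul_cancel, one_mul]
    rw [h3]
    exact Subgroup.mul_mem _ (Subgroup.inv_mem _ h2) h1
  rw [mem_centralizer_singleton] at htC
  have : t * x * t⁻¹ = x := by
    rw [← htC.eq]; simp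
  rw [← ht, this]


/-- elements of order `≤ 2` of a Sylow `2`-subgroup commute -/
theorem comm_of_sq [Finite G] (h : Hyp G) (P : Sylow 2 G) {s t : G}
    (hs : s ∈ (P : Subgroup G)) (ht : t ∈ (P : Subgroup G)) (hs2 : s * s = 1) (ht2 : t * t = 1) :
    s * t = t * s := by
  have hsi : s⁻¹ = s := inv_eq_of_mul_eq_one_left hs2
  have hti : t⁻¹ = t := inv_eq_of_mul_eq_one_left ht2
  have hx : ∃ k : ℕ, orderOf (s * t) = 2 ^ k :=
    exists_orderOf_of_mem P (Subgroup.mul_mem _ hs ht)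
  have hinv : t * (s * t) * t⁻¹ = (s * t)⁻¹ := by
    rw [mul_inv_rev, hsi, hti]
    simp [mul_assoc, ht2]
  have := inv_eq_self_of_conj_eq_inv h hx hinv
  rw [mul_inv_rev, hsi, hti] at this
  exact this.symm

/-- every `2`-element is conjugate to a central element of the given Sylow `2`-subgroup -/
theorem exists_conj_mem_center [Finite G] (h : Hyp G) (P : Sylow 2 G) (x : G)
    (hx : ∃ k : ℕ, orderOf x = 2 ^ k) :
    ∃ g : G, g * x * g⁻¹ ∈ (P : Subgroup G) ∧
      ∀ u ∈ (P : Subgroup G), Commute (g * x * g⁻¹) u := by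
  have hodd := h x hx
  set C := Subgroup.centralizer ({x} : Set G) with hC
  obtain ⟨Q0⟩ : Nonempty (Sylow 2 ↥C) := inferInstance
  set Q1 : Subgroup G := (Q0 : Subgroup ↥C).map C.subtype with hQ1
  have hcard1 : Nat.card ↥Q1 = Nat.card ↥(Q0 : Subgroup ↥C) :=
    Subgroup.card_map_of_injective C.subtype_injective
  have hfac : (Nat.card G).factorization 2 = (Nat.card ↥C).factorization 2 := by
    have h1 : Nat.card ↥C * C.index = Nat.card G := Subgroup.card_mul_index C
    have hC0 : Nat.card ↥C ≠ 0 := Nat.card_pos.ne'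
    have hi0 : C.index ≠ 0 := Subgroup.index_ne_zero_of_finite
    rw [← h1, Nat.factorization_mul hC0 hi0]
    have : (C.index).factorization 2 = 0 := Nat.factorization_eq_zero_of_not_dvd hodd
    simp [this]
  have hcard : Nat.card ↥Q1 = 2 ^ (Nat.card G).factorization 2 := by
    rw [hcard1, Sylow.card_eq_multiplicity, hfac]
  obtain ⟨g, hg⟩ := MulAction.exists_smul_eq G (Sylow.ofCard Q1 hcard) P
  have hP : (P : Subgroup G) = Q1.map (MulAut.conj g).toMonoidHom := by
    rw [← hg, Sylow.coe_subgroup_smul]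
    rfl
  have hcomm : ∀ u ∈ (P : Subgroup G), Commute (g * x * g⁻¹) u := by
    intro u hu
    rw [hP, mem_map_conj_iff] at hu
    obtain ⟨c, hc, hcu⟩ := hu
    have hcC : Commute x (c : G) := mem_centralizer_singleton.1 c.2
    have h2 : Commute (g * x * g⁻¹) (g * (c : G) * g⁻¹) := (Commute.conj_iff g).2 hcC
    have h3 : g * (c : G) * g⁻¹ = u := by
      have : (c : G) = g⁻¹ * u * g := hcu
      rw [this]; simp [mul_assoc]
    rwa [h3] at h2
  refine ⟨g, ?_, hcomm⟩
  -- the conjugate normalizes `P` and is a `2`-element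
  set y := g * x * g⁻¹ with hy
  have hyN : y ∈ Subgroup.normalizer ((P : Subgroup G) : Set G) := by
    apply Subgroup.centralizer_le_normalizer
    rw [Subgroup.mem_centralizer_iff]
    intro u hu
    exact ((hcomm u hu).eq).symm
  have hyo : orderOf y = orderOf x := by
    have : y = MulAut.conj g x := by simp [hy, MulAut.conj_apply]
    rw [this]
    exact MulEquiv.orderOf_eq (MulAut.conj g) x
  have hZ : IsPGroup 2 ↥(Subgroup.zpowers y) := by
    obtain ⟨k, hk⟩ := hx
    apply IsPGroup.of_card (n := k)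
    rw [Nat.card_zpowers, hyo, hk]
  have h8 := hZ.inf_normalizer_sylow P
  have h9 : y ∈ Subgroup.zpowers y ⊓ (P : Subgroup G) := by
    rw [← h8]
    exact ⟨Subgroup.mem_zpowers y, hyN⟩
  exact h9.2


/-- the elements of order `≤ 2` of a Sylow `2`-subgroup form a subgroup -/
def Om [Finite G] (h : Hyp G) (P : Sylow 2 G) : Subgroup G where
  carrier := {x | x ∈ (P : Subgroup G) ∧ x * x = 1}
  one_mem' := ⟨Subgroup.one_mem _, by simp⟩
  mul_mem' := by
    rintro a b ⟨ha, ha2⟩ ⟨hb, hb2⟩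
    refine ⟨Subgroup.mul_mem _ ha hb, ?_⟩
    have hc := comm_of_sq h P ha hb ha2 hb2
    calc a * b * (a * b) = a * (b * a) * b := by simp [mul_assoc]
      _ = a * (a * b) * b := by rw [hc]
      _ = (a * a) * (b * b) := by simp [mul_assoc]
      _ = 1 := by rw [ha2, hb2, one_mul]
  inv_mem' := by
    rintro a ⟨ha, ha2⟩
    have hai : a⁻¹ = a := inv_eq_of_mul_eq_one_left ha2
    exact ⟨Subgroup.inv_mem _ ha, by rw [hai, ha2]⟩

theorem mem_Om [Finite G] (h : Hyp G) (P : Sylow 2 G) {x : G} :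
    x ∈ Om h P ↔ x ∈ (P : Subgroup G) ∧ x * x = 1 := Iff.rfl

theorem Om_le [Finite G] (h : Hyp G) (P : Sylow 2 G) : Om h P ≤ (P : Subgroup G) :=
  fun _ hx => hx.1

theorem Om_comm [Finite G] (h : Hyp G) (P : Sylow 2 G) {a b : G} (ha : a ∈ Om h P)
    (hb : b ∈ Om h P) : Commute a b :=
  comm_of_sq h P ha.1 hb.1 ha.2 hb.2

theorem Om_isPGroup [Finite G] (h : Hyp G) (P : Sylow 2 G) : IsPGroup 2 ↥(Om h P) :=
  P.isPGroup'.to_le (Om_le h P)

/-- `Ω₁(P)` is weakly closed in `P` -/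
theorem Om_weaklyClosed [Finite G] (h : Hyp G) (P : Sylow 2 G) :
    IsWeaklyClosed (Om h P) (P : Subgroup G) := by
  refine ⟨Om_le h P, ?_⟩
  intro g hg
  have hle : (Om h P).map (MulAut.conj g).toMonoidHom ≤ Om h P := by
    intro y hy
    have hyP := hg hy
    obtain ⟨e, he, rfl⟩ := hy
    refine ⟨hyP, ?_⟩
    rw [← map_mul, he.2, map_one]
  apply Subgroup.eq_of_le_of_card_ge hle
  rw [Subgroup.card_map_of_injective (MulAut.conj g).injective]

theorem Om_weaklyClosedSubgroup [Finite G] (h : Hyp G) (P : Sylow 2 G) :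
    IsWeaklyClosedSubgroup 2 (Om h P) := ⟨P, Om_weaklyClosed h P⟩

theorem sylow_le_normalizer_Om [Finite G] (h : Hyp G) (P : Sylow 2 G) :
    (P : Subgroup G) ≤ Subgroup.normalizer ((Om h P : Subgroup G) : Set G) :=
  le_normalizer_of_isWeaklyClosed (Om_weaklyClosed h P)

/-- `N_G(Ω₁(P))` controls fusion in `C_G(Ω₁(P))` -/
theorem fusion_control [Finite G] (h : Hyp G) (P : Sylow 2 G) {x g : G}
    (hx : x ∈ Subgroup.centralizer ((Om h P : Subgroup G) : Set G))
    (hy : g * x * g⁻¹ ∈ Subgroup.centralizer ((Om h P : Subgroup G) : Set G)) :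
    ∃ n ∈ Subgroup.normalizer ((Om h P : Subgroup G) : Set G), n * x * n⁻¹ = g * x * g⁻¹ := by
  set y := g * x * g⁻¹ with hyd
  set K := Subgroup.centralizer ({y} : Set G) with hK
  have hQK : Om h P ≤ K := by
    intro e he
    rw [hK, mem_centralizer_singleton]
    rw [Subgroup.mem_centralizer_iff] at hy
    exact (hy e he).symm
  have hgK : (Om h P).map (MulAut.conj g).toMonoidHom ≤ K := by
    rintro _ ⟨e, he, rfl⟩
    rw [hK, mem_centralizer_singleton]
    rw [Subgroup.mem_centralizer_iff] at hx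
    have h1 : Commute x e := (hx e he).symm
    have h2 : Commute (g * x * g⁻¹) (g * e * g⁻¹) := (Commute.conj_iff g).2 h1
    exact h2
  obtain ⟨k, hkK, hk⟩ := exists_conj_eq_of_le (Om_isPGroup h P) (Om_weaklyClosedSubgroup h P)
    hQK hgK
  have hn : (Om h P).map (MulAut.conj (k⁻¹ * g)).toMonoidHom = Om h P := by
    rw [map_conj_mul, hk, map_conj_inv_map_conj]
  refine ⟨k⁻¹ * g, mem_normalizer_of_map_conj_eq hn, ?_⟩
  rw [hK, mem_centralizer_singleton] at hkK
  have h3 : k⁻¹ * y * k = y := by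
    rw [mul_assoc, hkK.eq, ← mul_assoc, inv_mul_cancel, one_mul]
  calc k⁻¹ * g * x * (k⁻¹ * g)⁻¹ = k⁻¹ * (g * x * g⁻¹) * k := by simp [mul_assoc]
    _ = y := h3


/-- a `2`-element of a subgroup `H` containing the Sylow subgroup `P` is `H`-conjugate into `P` -/
theorem exists_conj_mem_of_le [Finite G] (P : Sylow 2 G) {H : Subgroup G}
    (hPH : (P : Subgroup G) ≤ H) {x : G} (hxH : x ∈ H) (hx : ∃ k : ℕ, orderOf x = 2 ^ k) :
    ∃ c ∈ H, c * x * c⁻¹ ∈ (P : Subgroup G) := by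
  have hZ : IsPGroup 2 ↥(Subgroup.zpowers (⟨x, hxH⟩ : ↥H)) := by
    obtain ⟨k, hk⟩ := hx
    apply IsPGroup.of_card (n := k)
    rw [Nat.card_zpowers]
    have : orderOf (⟨x, hxH⟩ : ↥H) = orderOf x := by
      rw [← Subgroup.orderOf_coe]
    rw [this, hk]
  obtain ⟨Q, hQ⟩ := hZ.exists_le_sylow
  obtain ⟨c, hc⟩ := MulAction.exists_smul_eq ↥H Q (P.subtype hPH)
  refine ⟨(c : G), c.2, ?_⟩
  have h1 : (⟨x, hxH⟩ : ↥H) ∈ (Q : Subgroup ↥H) := hQ (Subgroup.mem_zpowers _)
  have h2 : c * (⟨x, hxH⟩ : ↥H) * c⁻¹ ∈ ((c • Q : Sylow 2 ↥H) : Subgroup ↥H) := by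
    rw [Sylow.coe_subgroup_smul]
    exact ⟨_, h1, rfl⟩
  rw [hc] at h2
  have h3 : ((c * (⟨x, hxH⟩ : ↥H) * c⁻¹ : ↥H) : G) ∈ (P : Subgroup G) := by
    have := (Subgroup.mem_subgroupOf).1 (show _ ∈ (P : Subgroup G).subgroupOf H from h2)
    exact this
  simpa using h3

/-- `Ω₁(P) ≤ Z(P)` -/
theorem Om_central [Finite G] (h : Hyp G) (P : Sylow 2 G) :
    (P : Subgroup G) ≤ Subgroup.centralizer ((Om h P : Subgroup G) : Set G) := by
  by_contra hcon
  obtain ⟨u, huP, huC⟩ := SetLike.not_le_iff_exists.1 hcon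
  set Z := Subgroup.centralizer ((Om h P : Subgroup G) : Set G) with hZ
  -- some power `u ^ 2 ^ j` lies in `Z`
  have hex : ∃ j : ℕ, u ^ 2 ^ j ∈ Z := by
    obtain ⟨k, hk⟩ := exists_orderOf_of_mem P huP
    exact ⟨k, by rw [← hk, pow_orderOf_eq_one]; exact Subgroup.one_mem _⟩
  classical
  set j := Nat.find hex with hj
  have hjspec : u ^ 2 ^ j ∈ Z := Nat.find_spec hex
  have hj0 : j ≠ 0 := by
    intro h0
    rw [h0] at hjspec
    simp at hjspec
    exact huC hjspec
  obtain ⟨i, hi⟩ := Nat.exists_eq_succ_of_ne_zero hj0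
  have hmin : u ^ 2 ^ i ∉ Z := Nat.find_min hex (by rw [← hj, hi]; exact Nat.lt_succ_self i)
  set x0 := u ^ 2 ^ i with hx0
  have hx0P : x0 ∈ (P : Subgroup G) := Subgroup.pow_mem _ huP _
  have hx0sq : x0 * x0 ∈ Z := by
    have : x0 * x0 = u ^ 2 ^ j := by
      rw [hx0, ← pow_add, hi, pow_succ, mul_two]
    rw [this]; exact hjspec
  -- conjugate `x0` into `Z(P)`
  obtain ⟨g, hzP, hzc⟩ := exists_conj_mem_center h P x0 (exists_orderOf_of_mem P hx0P)
  set z := g * x0 * g⁻¹ with hz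
  have hzZ : z ∈ Z := by
    rw [hZ, Subgroup.mem_centralizer_iff]
    intro e he
    exact ((hzc e (Om_le h P he)).eq).symm
  have hzz : g * (x0 * x0) * g⁻¹ = z * z := by
    rw [hz]; simp [mul_assoc]
  have hzzZ : g * (x0 * x0) * g⁻¹ ∈ Z := by
    rw [hzz]; exact Subgroup.mul_mem _ hzZ hzZ
  obtain ⟨n, hnN, hn⟩ := fusion_control h P hx0sq hzzZ
  rw [hzz] at hn
  set x1 := n * x0 * n⁻¹ with hx1
  have hx1sq : x1 * x1 = z * z := by
    rw [← hn, hx1]; simp [mul_assoc]
  -- the subgroup `H = N_G(Ω) ⊓ C_G(z²)`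
  set H := Subgroup.normalizer ((Om h P : Subgroup G) : Set G) ⊓
    Subgroup.centralizer ({z * z} : Set G) with hH
  have hPH : (P : Subgroup G) ≤ H := by
    intro v hv
    exact Subgroup.mem_inf.2 ⟨sylow_le_normalizer_Om h P hv,
      mem_centralizer_singleton.2 ((hzc v hv).mul_left (hzc v hv))⟩
  have hx1H : x1 ∈ H := by
    refine Subgroup.mem_inf.2 ⟨?_, ?_⟩
    · exact Subgroup.mul_mem _ (Subgroup.mul_mem _ hnN (sylow_le_normalizer_Om h P hx0P))
        (Subgroup.inv_mem _ hnN)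
    · rw [mem_centralizer_singleton, ← hx1sq]
      exact (Commute.refl x1).mul_left (Commute.refl x1)
  have hx1o : ∃ k : ℕ, orderOf x1 = 2 ^ k := by
    obtain ⟨k, hk⟩ := exists_orderOf_of_mem P hx0P
    refine ⟨k, ?_⟩
    have : x1 = MulAut.conj n x0 := by simp [hx1, MulAut.conj_apply]
    rw [this, MulEquiv.orderOf_eq, hk]
  obtain ⟨c, hcH, hcP⟩ := exists_conj_mem_of_le P hPH hx1H hx1o
  set x2 := c * x1 * c⁻¹ with hx2
  have hx2sq : x2 * x2 = z * z := by
    have h1 : x2 * x2 = c * (x1 * x1) * c⁻¹ := by rw [hx2]; simp [mul_assoc]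
    rw [h1, hx1sq]
    have h2 : Commute (z * z) c := mem_centralizer_singleton.1 (Subgroup.mem_inf.1 hcH).2
    rw [← h2.eq]; simp
  -- `y = x2 z⁻¹` has order at most `2`
  have hcomm : Commute z x2 := hzc x2 hcP
  have hyOm : x2 * z⁻¹ ∈ Om h P := by
    refine ⟨Subgroup.mul_mem _ hcP (Subgroup.inv_mem _ hzP), ?_⟩
    have h1 : Commute z⁻¹ x2 := hcomm.inv_left
    calc x2 * z⁻¹ * (x2 * z⁻¹) = x2 * (z⁻¹ * x2) * z⁻¹ := by simp [mul_assoc]
      _ = x2 * (x2 * z⁻¹) * z⁻¹ := by rw [h1.eq]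
      _ = (x2 * x2) * (z⁻¹ * z⁻¹) := by simp [mul_assoc]
      _ = 1 := by rw [hx2sq]; simp [mul_assoc]
  have hx2Z : x2 ∈ Z := by
    have h1 : x2 = (x2 * z⁻¹) * z := by simp
    rw [h1]
    refine Subgroup.mul_mem _ ?_ hzZ
    rw [hZ, Subgroup.mem_centralizer_iff]
    intro e he
    exact (Om_comm h P he hyOm).eq
  -- but `x2` is conjugate to `x0` under `N_G(Ω)`
  apply hmin
  have hcn : c * n ∈ Subgroup.normalizer ((Om h P : Subgroup G) : Set G) :=
    Subgroup.mul_mem _ (Subgroup.mem_inf.1 hcH).1 hnN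
  have hx2' : x2 = (c * n) * x0 * (c * n)⁻¹ := by
    rw [hx2, hx1]; simp [mul_assoc]
  rw [hZ, Subgroup.mem_centralizer_iff]
  intro e he
  -- `e' = (c n) e (c n)⁻¹ ∈ Ω`
  have he' : (c * n) * e * (c * n)⁻¹ ∈ Om h P :=
    (Subgroup.mem_normalizer_iff.1 hcn e).1 he
  rw [hZ, Subgroup.mem_centralizer_iff] at hx2Z
  have h1 : Commute ((c * n) * e * (c * n)⁻¹) ((c * n) * x0 * (c * n)⁻¹) := by
    rw [← hx2']
    exact hx2Z _ he'
  exact ((Commute.conj_iff (c * n)).1 h1).eq


/-- every element of `P` killed by `2 ^ k` is central in `P` -/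
theorem central_of_pow [Finite G] (h : Hyp G) (P : Sylow 2 G) :
    ∀ k : ℕ, ∀ x ∈ (P : Subgroup G), x ^ 2 ^ k = 1 → ∀ u ∈ (P : Subgroup G), Commute x u := by
  intro k
  induction k with
  | zero =>
    intro x _ hx1 u _
    simp at hx1
    rw [hx1]; exact Commute.one_left u
  | succ k ih =>
    intro x hxP hxk u huP
    have hwP : x * x ∈ (P : Subgroup G) := Subgroup.mul_mem _ hxP hxP
    have hwk : (x * x) ^ 2 ^ k = 1 := by
      rw [← pow_two, ← pow_mul, ← pow_succ']; exact hxk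
    have hwc := ih (x * x) hwP hwk
    obtain ⟨g, hzP, hzc⟩ := exists_conj_mem_center h P x (exists_orderOf_of_mem P hxP)
    set z := g * x * g⁻¹ with hz
    have hzz : g * (x * x) * g⁻¹ = z * z := by
      rw [hz]; simp [mul_assoc]
    -- Burnside's fusion lemma
    have h1 : x * x ∈ Subgroup.centralizer ((P : Subgroup G) : Set G) := by
      rw [Subgroup.mem_centralizer_iff]
      intro v hv
      exact ((hwc v hv).eq).symm
    have h2 : (g⁻¹)⁻¹ * (x * x) * g⁻¹ ∈ Subgroup.centralizer ((P : Subgroup G) : Set G) := by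
      rw [inv_inv, hzz, Subgroup.mem_centralizer_iff]
      intro v hv
      exact (((hzc v hv).mul_left (hzc v hv)).eq).symm
    obtain ⟨n, hnN, hn⟩ := Sylow.conj_eq_normalizer_conj_of_mem_centralizer P (x * x) g⁻¹ h1 h2
    rw [inv_inv, hzz] at hn
    -- `x2 = n⁻¹ x n ∈ P` has the same square as `z`
    set x2 := n⁻¹ * x * n with hx2
    have hx2P : x2 ∈ (P : Subgroup G) := by
      have := (Subgroup.mem_normalizer_iff.1 (Subgroup.inv_mem _ hnN) x).1 hxP
      simpa [hx2] using this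
    have hx2sq : x2 * x2 = z * z := by
      rw [hn, hx2]; simp [mul_assoc]
    have hcomm : Commute z x2 := hzc x2 hx2P
    have hyOm : x2 * z⁻¹ ∈ Om h P := by
      refine ⟨Subgroup.mul_mem _ hx2P (Subgroup.inv_mem _ hzP), ?_⟩
      have h3 : Commute z⁻¹ x2 := hcomm.inv_left
      calc x2 * z⁻¹ * (x2 * z⁻¹) = x2 * (z⁻¹ * x2) * z⁻¹ := by simp [mul_assoc]
        _ = x2 * (x2 * z⁻¹) * z⁻¹ := by rw [h3.eq]
        _ = (x2 * x2) * (z⁻¹ * z⁻¹) := by simp [mul_assoc]
        _ = 1 := by rw [hx2sq]; simp [mul_assoc]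
    -- `x2` is central in `P`
    have hx2c : ∀ v ∈ (P : Subgroup G), Commute x2 v := by
      intro v hv
      have h3 : x2 = (x2 * z⁻¹) * z := by simp
      rw [h3]
      have h4 : Commute (x2 * z⁻¹) v := by
        have := Om_central h P hv
        rw [Subgroup.mem_centralizer_iff] at this
        exact this _ hyOm
      exact h4.mul_left (hzc v hv)
    -- hence so is `x = n x2 n⁻¹`
    have hv : n⁻¹ * u * n ∈ (P : Subgroup G) := by
      have := (Subgroup.mem_normalizer_iff.1 (Subgroup.inv_mem _ hnN) u).1 huP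
      simpa using this
    have h5 : Commute (n⁻¹ * x * n) (n⁻¹ * u * n) := hx2c _ hv
    have h6 : Commute (n⁻¹ * x * (n⁻¹)⁻¹) (n⁻¹ * u * (n⁻¹)⁻¹) := by simpa using h5
    exact (Commute.conj_iff n⁻¹).1 h6

/-- **Camina–Herzog**: if every `2`-element has odd class size, Sylow `2`-subgroups are abelian -/
theorem sylow_comm [Finite G] (h : Hyp G) (P : Sylow 2 G) {x u : G}
    (hx : x ∈ (P : Subgroup G)) (hu : u ∈ (P : Subgroup G)) : x * u = u * x := by
  obtain ⟨k, hk⟩ := exists_orderOf_of_mem P hx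
  exact (central_of_pow h P k x hx (by rw [← hk, pow_orderOf_eq_one]) u hu).eq

theorem isMulCommutative_sylow [Finite G] (h : Hyp G) (P : Sylow 2 G) :
    IsMulCommutative ↥(P : Subgroup G) :=
  ⟨⟨fun a b => Subtype.ext (sylow_comm h P a.2 b.2)⟩⟩

end Cfsg.Agent.Lib.Helper06.OddClass
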