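import Mathlib
import Cfsg.Agent.Lib.Helper23.SylowPerm
import Cfsg.Agent.Lib.Helper23.SylowEmbed

/-!
# K-S0496-720F2: the two-point stabilizer in a simple group of order 720 with ten Sylow 3-subgroups
has a unique involution and is not cyclic.
-/

set_option autoImplicit false

namespace Cfsg.Agent.Lib.Helper06.Small1092

open Subgroup MulAction

/-- A permutation of ten points with `σ ^ 8 = 1` fixing two points, and such that `σ ^ 4` fixes no
other point, is odd. -/
theorem sign_eq_neg_one_of_eight {α : Type*} [Fintype α] [DecidableEq α] (σ : Equiv.Perm α)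
    (h8 : σ ^ 8 = 1) (hcard : Fintype.card α = 10) (P R : α) (hPR : P ≠ R) (hP : σ P = P)
    (hR : σ R = R) (hfix : ∀ x, (σ ^ 4) x = x → x = P ∨ x = R) :
    Equiv.Perm.sign σ = -1 := by
  have hall : ∀ n ∈ σ.cycleType, n = 8 := by
    intro n hn
    have h1 : n ∣ 8 := (Equiv.Perm.dvd_of_mem_cycleType hn).trans (orderOf_dvd_of_pow_eq_one h8)
    have h2 : 2 ≤ n := Equiv.Perm.two_le_of_mem_cycleType hn
    by_contra hne
    have h4 : n ∣ 4 := by
      have hle : n ≤ 8 := Nat.le_of_dvd (by norm_num) h1
      interval_cases n <;> omega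
    obtain ⟨c, τ, hσ, hd, hc, hcn⟩ := Equiv.Perm.mem_cycleType_iff.mp hn
    obtain ⟨x, hx, -⟩ := id hc
    have hτx : τ x = x := by
      rcases hd x with h | h
      · exact absurd h hx
      · exact h
    have hc4 : c ^ 4 = 1 := by
      have : orderOf c ∣ 4 := by rw [hc.orderOf, hcn]; exact h4
      exact orderOf_dvd_iff_pow_eq_one.mp this
    have hτ4 : (τ ^ 4) x = x := by
      have : ∀ k : ℕ, (τ ^ k) x = x := by
        intro k
        induction k with
        | zero => simp
        | succ k ih => rw [pow_succ, Equiv.Perm.mul_apply, hτx, ih]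
      exact this 4
    have hσ4 : (σ ^ 4) x = x := by
      rw [hσ, hd.commute.mul_pow, hc4, one_mul, hτ4]
    have hσx : σ x ≠ x := by
      rw [hσ, Equiv.Perm.mul_apply, hτx]
      exact hx
    rcases hfix x hσ4 with rfl | rfl
    · exact hσx hP
    · exact hσx hR
  have hfp : Fintype.card (Function.fixedPoints σ) = 2 := by
    have hset : Function.fixedPoints σ = ({P, R} : Set α) := by
      ext x
      simp only [Function.mem_fixedPoints, Function.IsFixedPt, Set.mem_insert_iff,
        Set.mem_singleton_iff]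
      constructor
      · intro hx
        apply hfix
        have : ∀ k : ℕ, (σ ^ k) x = x := by
          intro k
          induction k with
          | zero => simp
          | succ k ih => rw [pow_succ, Equiv.Perm.mul_apply, hx, ih]
        exact this 4
      · rintro (rfl | rfl)
        · exact hP
        · exact hR
    rw [← Nat.card_eq_fintype_card, hset, Nat.card_coe_set_eq, Set.ncard_pair hPR]
  have hsum : σ.cycleType.sum = 8 := by
    have h1 := Equiv.Perm.card_fixedPoints σ
    have h2 := Equiv.Perm.sum_cycleType_le σ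
    omega
  have hrep : σ.cycleType = Multiset.replicate (Multiset.card σ.cycleType) 8 :=
    Multiset.eq_replicate.mpr ⟨rfl, hall⟩
  have hm : Multiset.card σ.cycleType = 1 := by
    have : σ.cycleType.sum = Multiset.card σ.cycleType * 8 := by
      conv_lhs => rw [hrep]
      rw [Multiset.sum_replicate, smul_eq_mul]
    omega
  rw [Equiv.Perm.sign_of_cycleType, hsum, hm]
  rfl

/-- K-S0496-720F2. -/
theorem two_point_stabilizer_quaternion_720 {G : Type*} [Group G] [Finite G] [IsSimpleGroup G]
    (hG : ¬ IsMulCommutative G)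
    (h : Nat.card G = 720) (h3 : Nat.card (Sylow 3 G) = 10)
    (hC : ∀ P : Sylow 3 G, Nat.card (centralizer ((P : Subgroup G) : Set G)) = 9)
    (P R : Sylow 3 G) (hPR : P ≠ R)
    (hQ : Nat.card ↥(normalizer ((P : Subgroup G) : Set G) ⊓ normalizer ((R : Subgroup G) : Set G)) = 8)
    (hfree : ∀ y ∈ (P : Subgroup G), ∀ T : Sylow 3 G, T ≠ P → y • T = T → y = 1)
    (htrans : ∀ T : Sylow 3 G, T ≠ P → ∃ y ∈ (P : Subgroup G), y • R = T)
    (hsemi : ∀ g ∈ normalizer ((P : Subgroup G) : Set G) ⊓ normalizer ((R : Subgroup G) : Set G), g ≠ 1 →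
      ∀ T : Sylow 3 G, g • T = T → T = P ∨ T = R) :
    (∀ a ∈ normalizer ((P : Subgroup G) : Set G) ⊓ normalizer ((R : Subgroup G) : Set G),
      ∀ b ∈ normalizer ((P : Subgroup G) : Set G) ⊓ normalizer ((R : Subgroup G) : Set G),
      orderOf a = 2 → orderOf b = 2 → a = b) ∧
    ¬ IsCyclic ↥(normalizer ((P : Subgroup G) : Set G) ⊓ normalizer ((R : Subgroup G) : Set G)) := by
  classical
  set Q : Subgroup G := normalizer ((P : Subgroup G) : Set G) ⊓ normalizer ((R : Subgroup G) : Set G)
    with hQdef
  -- `P` has order 9 and is abelian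
  have hPcard : Nat.card ↥(P : Subgroup G) = 3 ^ 2 :=
    Cfsg.Agent.Lib.Helper23.sylow_card_of_card_eq 3 2 80 (by rw [h]; norm_num) (by norm_num) P
  have hPcomm : ∀ a b : ↥(P : Subgroup G), a * b = b * a := by
    have := IsPGroup.isMulCommutative_of_card_eq_prime_sq (p := 3) hPcard
    exact this.is_comm.comm
  have hPcomm' : ∀ a ∈ (P : Subgroup G), ∀ b ∈ (P : Subgroup G), a * b = b * a := by
    intro a ha b hb
    have := hPcomm ⟨a, ha⟩ ⟨b, hb⟩
    exact congrArg Subtype.val this
  -- elements of `Q` fix `P` and `R`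
  have hQP : ∀ g ∈ Q, g • P = P := fun g hg => Sylow.smul_eq_iff_mem_normalizer.mpr hg.1
  have hQR : ∀ g ∈ Q, g • R = R := fun g hg => Sylow.smul_eq_iff_mem_normalizer.mpr hg.2
  -- involutions of `Q` invert `P`
  have hinv : ∀ v ∈ Q, orderOf v = 2 → ∀ x ∈ (P : Subgroup G), v * x * v⁻¹ = x⁻¹ := by
    intro v hv hv2 x hx
    have hv1 : v ≠ 1 := by
      rintro rfl
      rw [orderOf_one] at hv2
      omega
    have hvsq : v ^ 2 = 1 := by rw [← hv2]; exact pow_orderOf_eq_one v
    have hvinv : v⁻¹ = v := by
      rw [inv_eq_iff_mul_eq_one, ← pow_two]; exact hvsq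
    have hvx : v * x * v⁻¹ ∈ (P : Subgroup G) := (mem_normalizer_iff.mp hv.1 x).mp hx
    set c : G := x * (v * x * v⁻¹) with hc
    have hcP : c ∈ (P : Subgroup G) := mul_mem hx hvx
    have hcv : v * c = c * v := by
      have h1 : v * c * v⁻¹ = (v * x * v⁻¹) * x := by
        rw [hc]
        have : v * (x * (v * x * v⁻¹)) * v⁻¹ = (v * x * v⁻¹) * (v * v * x * (v⁻¹ * v⁻¹)) := by group
        rw [this, hvinv, ← pow_two, hvsq]
        simp
      have h2 : (v * x * v⁻¹) * x = c := by
        rw [hc]; exact hPcomm' _ hvx _ hx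
      rw [h2] at h1
      calc v * c = v * c * v⁻¹ * v := by group
        _ = c * v := by rw [h1]
    have hfixc : v • (c • R) = c • R := by
      rw [smul_smul, hcv, ← smul_smul, hQR v hv]
    rcases hsemi v hv hv1 (c • R) hfixc with h1 | h1
    · exfalso
      have hcPP : c • P = P :=
        Sylow.smul_eq_iff_mem_normalizer.mpr (le_normalizer hcP)
      have : c • R = c • P := by rw [h1, hcPP]
      exact hPR (smul_left_cancel c this).symm
    · have hc1 : c = 1 := hfree c hcP R (Ne.symm hPR) h1
      rw [hc] at hc1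
      exact (eq_inv_of_mul_eq_one_right hc1)
  refine ⟨?_, ?_⟩
  · intro a ha b hb ha2 hb2
    have hbsq : b ^ 2 = 1 := by rw [← hb2]; exact pow_orderOf_eq_one b
    have hbinv : b⁻¹ = b := by
      rw [inv_eq_iff_mul_eq_one, ← pow_two]; exact hbsq
    have habC : a * b ∈ centralizer ((P : Subgroup G) : Set G) := by
      rw [mem_centralizer_iff]
      intro x hx
      have hx' : x ∈ (P : Subgroup G) := hx
      have h1 : b * x * b⁻¹ = x⁻¹ := hinv b hb hb2 x hx'
      have h2 : a * x⁻¹ * a⁻¹ = x⁻¹⁻¹ := hinv a ha ha2 x⁻¹ (inv_mem hx')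
      have h3 : (a * b) * x * (a * b)⁻¹ = x := by
        calc (a * b) * x * (a * b)⁻¹ = a * (b * x * b⁻¹) * a⁻¹ := by group
          _ = x := by rw [h1, h2, inv_inv]
      calc x * (a * b) = ((a * b) * x * (a * b)⁻¹) * (a * b) := by rw [h3]
        _ = a * b * x := by group
    have h9 : (a * b) ^ 9 = 1 := by
      have := pow_card_eq_one' (x := (⟨a * b, habC⟩ : ↥(centralizer ((P : Subgroup G) : Set G))))
      rw [hC P] at this
      exact congrArg Subtype.val this
    have h8 : (a * b) ^ 8 = 1 := by
      have := pow_card_eq_one' (x := (⟨a * b, mul_mem ha hb⟩ : ↥Q))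
      rw [hQ] at this
      exact congrArg Subtype.val this
    have hab : a * b = 1 := by
      have : (a * b) ^ 9 = (a * b) ^ 8 * (a * b) := pow_succ _ _
      rw [h9, h8, one_mul] at this
      exact this.symm
    rw [← hbinv]
    exact eq_inv_of_mul_eq_one_left hab
  · intro hcyc
    obtain ⟨g, hg⟩ := hcyc.exists_generator
    have hord : orderOf g = 8 := by
      rw [orderOf_eq_card_of_forall_mem_zpowers hg, hQ]
    have hord' : orderOf (g : G) = 8 := by
      rw [Subgroup.orderOf_coe]; exact hord
    have hgQ : (g : G) ∈ Q := g.2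
    have hcardG : 2 < Nat.card G := by rw [h]; norm_num
    have := Fintype.ofFinite (Sylow 3 G)
    have hsign := Cfsg.Agent.Lib.Helper23.SylowPerm.sign_toPerm_eq_one 3 hcardG (g : G)
    have hpow : ∀ k : ℕ, (MulAction.toPerm (g : G) : Equiv.Perm (Sylow 3 G)) ^ k
        = MulAction.toPerm ((g : G) ^ k) :=
      fun k => ((MulAction.toPermHom G (Sylow 3 G)).map_pow (g : G) k).symm
    have hneg : Equiv.Perm.sign (MulAction.toPerm (g : G) : Equiv.Perm (Sylow 3 G)) = -1 := by
      apply sign_eq_neg_one_of_eight _ _ _ P R hPR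
      · exact hQP _ hgQ
      · exact hQR _ hgQ
      · intro T hT
        have hT' : ((g : G) ^ 4) • T = T := by
          have : ((MulAction.toPerm (g : G) : Equiv.Perm (Sylow 3 G)) ^ 4) T = ((g : G) ^ 4) • T := by
            rw [hpow 4]
            rfl
          rw [← this]; exact hT
        have hg4 : (g : G) ^ 4 ≠ 1 := by
          intro h4
          have := orderOf_dvd_of_pow_eq_one h4
          rw [hord'] at this
          omega
        exact hsemi _ (pow_mem hgQ 4) hg4 T hT'
      · rw [hpow 8, ← hord', pow_orderOf_eq_one]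
        ext T
        simp
      · rw [← Nat.card_eq_fintype_card, h3]
    rw [hsign] at hneg
    exact absurd hneg (by decide)

end Cfsg.Agent.Lib.Helper06.Small1092
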