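import Mathlib
import Cfsg.Prelude.Def_Involutions
import Cfsg.Agent.Lib.Helper06.Dihedral

set_option autoImplicit false

namespace Cfsg.Agent.Lib.Helper06

section SE

variable {G : Type*} [Group G]

theorem mem_conj_map (H : Subgroup G) (g x : G) :
    x ∈ H.map (MulAut.conj g).toMonoidHom ↔ g⁻¹ * x * g ∈ H := by
  constructor
  · rintro ⟨h, hh, rfl⟩
    have : g⁻¹ * ((MulAut.conj g).toMonoidHom h) * g = h := by
      show g⁻¹ * (g * h * g⁻¹) * g = h
      group
    rw [this]
    exact hh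
  · intro h
    refine ⟨g⁻¹ * x * g, h, ?_⟩
    show g * (g⁻¹ * x * g) * g⁻¹ = x
    group

theorem orderOf_conj_eq (g x : G) : orderOf (g⁻¹ * x * g) = orderOf x := by
  have h : SemiconjBy g (g⁻¹ * x * g) x := by
    show g * (g⁻¹ * x * g) = x * g
    group
  exact h.orderOf_eq

theorem orderOf_conj_eq' (g x : G) : orderOf (g * x * g⁻¹) = orderOf x := by
  have := orderOf_conj_eq g⁻¹ x
  rw [inv_inv] at this
  exact this

theorem odd_card_iff_no_invol [Finite G] (K : Subgroup G) :
    Odd (Nat.card K) ↔ ∀ t ∈ K, orderOf t ≠ 2 := by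
  constructor
  · intro hodd t ht h2
    have hdvd : orderOf t ∣ Nat.card K := Subgroup.orderOf_dvd_natCard K ht
    rw [h2] at hdvd
    have : Even (Nat.card K) := (even_iff_two_dvd).mpr hdvd
    exact (Nat.not_even_iff_odd.mpr hodd) this
  · intro h
    rw [← Nat.not_even_iff_odd]
    intro heven
    have h2 : 2 ∣ Nat.card K := even_iff_two_dvd.mp heven
    have : Fact (Nat.Prime 2) := ⟨Nat.prime_two⟩
    obtain ⟨k, hk⟩ := exists_prime_orderOf_dvd_card' 2 h2
    apply h k.1 k.2
    rw [← hk]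
    exact Subgroup.orderOf_coe k

theorem stronglyEmbedded_iff [Finite G] (H : Subgroup G) :
    Cfsg.IsStronglyEmbedded H ↔
      H ≠ ⊤ ∧ Even (Nat.card H) ∧
        ∀ g : G, g ∉ H → ∀ t ∈ H, orderOf t = 2 → g⁻¹ * t * g ∉ H := by
  unfold Cfsg.IsStronglyEmbedded
  refine and_congr Iff.rfl (and_congr Iff.rfl ?_)
  refine forall_congr' fun g => forall_congr' fun _ => ?_
  rw [odd_card_iff_no_invol]
  constructor
  · intro h t ht h2 hc
    exact h t ⟨ht, (mem_conj_map H g t).mpr hc⟩ h2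
  · intro h t ht h2
    exact h t ht.1 h2 ((mem_conj_map H g t).mp ht.2)

end SE

end Cfsg.Agent.Lib.Helper06
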